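import Cfsg.Agent.S3277
import Cfsg.Agent.Lib.Coprime.Generation
import Mathlib.GroupTheory.SpecificGroups.Alternating

/-!
# A self-centralising four-group Sylow 2-subgroup is normal or the group has order sixty
-/

set_option autoImplicit false
set_option linter.style.haveILetI false

namespace Cfsg.Lib.Syl34

open Subgroup Cfsg.Lib

/-- A Sylow four-group containing the centraliser of each of its involutions is normal, or `|G| = 60`. -/
theorem four_cit {G : Type*} [Group G] [Finite G] (V : Sylow 2 G) (h4 : Nat.card (V : Subgroup G) = 4)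
    (h2 : ∀ v ∈ (V : Subgroup G), v * v = 1)
    (hC : ∀ v ∈ (V : Subgroup G), v ≠ 1 → centralizer ({v} : Set G) ≤ (V : Subgroup G)) :
    (V : Subgroup G).Normal ∨ Nat.card G = 60 := by
  haveI : Fact (Nat.Prime 2) := ⟨Nat.prime_two⟩
  by_cases hn : (V : Subgroup G).Normal
  · exact Or.inl hn
  right
  have hcomm : ∀ a ∈ (V : Subgroup G), ∀ b ∈ (V : Subgroup G), a * b = b * a := fun a ha b hb => by
    have h := h2 _ (mul_mem ha hb)
    calc a * b = a * (a * b * (a * b)) * b := by rw [h, mul_one]
      _ = a * a * (b * a) * (b * b) := by group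
      _ = b * a := by rw [h2 a ha, h2 b hb, one_mul, mul_one]
  have hCV : ∀ v ∈ (V : Subgroup G), v ≠ 1 → centralizer ({v} : Set G) = (V : Subgroup G) := fun v hv h1 =>
    le_antisymm (hC v hv h1) fun w hw => mem_centralizer_singleton_iff.2 (hcomm w hw v hv)
  obtain ⟨x, hx, hx1⟩ := (V : Subgroup G).bot_or_exists_ne_one.resolve_left
    (fun h => by rw [h, card_bot] at h4; omega)
  have hnc' : ¬ Cfsg.HasNormalPComplement 2 G := by
    rintro ⟨P, N, hN, hcompl⟩
    haveI := hN
    have hcopP : (Nat.card (P : Subgroup G)).Coprime (Nat.card N) := by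
      have := P.card_coprime_index
      rwa [hcompl.index_eq_card] at this
    have hcop : (Nat.card (V : Subgroup G)).Coprime (Nat.card N) := by
      rwa [Nat.card_congr (Sylow.equiv V P).toEquiv]
    haveI : IsMulCommutative (V : Subgroup G) := ⟨⟨fun a b => Subtype.ext (hcomm a a.2 b b.2)⟩⟩
    have hnc : ¬ IsCyclic (V : Subgroup G) := fun hc => by
      obtain ⟨g, hg⟩ := hc.exists_generator
      have h := orderOf_eq_card_of_forall_mem_zpowers hg
      have hle := orderOf_le_of_pow_eq_one (x := g) (n := 2) two_pos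
        (Subtype.ext (by rw [SubgroupClass.coe_pow, pow_two]; exact h2 g g.2))
      omega
    have hbot : N = ⊥ := eq_bot_iff.2 fun n hn' => by
      have hle := Coprime.le_iSup_centralizer_of_not_isCyclic (A := (V : Subgroup G)) (G := N) hnc
        (normalizer_eq_top_iff.2 hN ▸ le_top) hcop
      have h : ∀ a : {a : G // a ∈ (V : Subgroup G) ∧ a ≠ 1}, N ⊓ centralizer ({(a : G)} : Set G) ≤ ⊥ :=
        fun a y hy => by
          have hyV := hC a a.2.1 a.2.2 hy.2
          exact (disjoint_iff_inf_le.1 (disjoint_of_coprime_natCard hcop)) ⟨hyV, hy.1⟩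
      exact iSup_le h (hle hn')
    refine hn ?_
    have hc2 := hcompl.card_mul
    rw [hbot, card_bot, one_mul, ← Nat.card_congr (Sylow.equiv V P).toEquiv] at hc2
    rw [Subgroup.eq_top_of_card_eq _ hc2]
    infer_instance
  have hne : ∀ E : Subgroup G, E.Normal → Cfsg.IsElementaryAbelian 2 E →
      Nat.card E ≠ 2 ∧ Nat.card E ≠ 4 := by
    intro E hE hEe
    refine ⟨fun h => ?_, fun h => ?_⟩
    all_goals haveI := hE
    all_goals
      have hEp : IsPGroup 2 E := IsPGroup.of_card (n := Nat.log 2 (Nat.card E)) (by rw [h]; rfl)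
      have hEV : E ≤ (V : Subgroup G) :=
        (V.3 (hEp.to_sup_of_normal_left V.2) le_sup_right) ▸ le_sup_left
    · obtain ⟨e, he, he1⟩ := E.bot_or_exists_ne_one.resolve_left (fun h' => by rw [h', card_bot] at h; omega)
      refine hn ?_
      have htop : (V : Subgroup G) = ⊤ := eq_top_iff.2 fun g _ => hC e (hEV he) he1 <| by
        refine mem_centralizer_singleton_iff.2 ?_
        obtain ⟨a, b, hab, hab'⟩ := Nat.card_eq_two_iff.1 h
        have hg : (⟨g * e * g⁻¹, hE.conj_mem e he g⟩ : E) ≠ 1 := fun h0 => he1 (by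
          have h0' : g * e * g⁻¹ = 1 := congrArg Subtype.val h0
          exact conj_eq_one_iff.1 h0')
        have hsame : ∀ u v : E, u ≠ 1 → v ≠ 1 → u = v := fun u v hu hv => by
          have hu' := hab'.symm ▸ Set.mem_univ u
          have hv' := hab'.symm ▸ Set.mem_univ v
          have h1' := hab'.symm ▸ Set.mem_univ (1 : E)
          simp only [Set.mem_insert_iff, Set.mem_singleton_iff] at hu' hv' h1'
          rcases hu' with rfl | rfl <;> rcases hv' with rfl | rfl <;> rcases h1' with h1' | h1' <;>
            first | rfl | exact absurd h1'.symm (by assumption)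
        have := congrArg Subtype.val (hsame _ ⟨e, he⟩ hg (fun h0 => he1 (congrArg Subtype.val h0)))
        exact mul_inv_eq_iff_eq_mul.1 this
      rw [htop]; infer_instance
    · exact hn (Subgroup.eq_of_le_of_card_ge hEV (by rw [h, h4]) ▸ hE)
  obtain ⟨e⟩ := Cfsg.Agent.S3277.result x
    (orderOf_eq_prime (by rw [pow_two]; exact h2 x hx) hx1) (by rw [hCV x hx hx1, h4])
    (fun c hc => by rw [pow_two]; exact h2 c (hC x hx hx1 hc)) hnc' hne
  rw [Nat.card_congr e.toEquiv]
  have h := two_mul_nat_card_alternatingGroup (α := Fin 5)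
  rw [Nat.card_perm, Nat.card_eq_fintype_card (α := Fin 5), Fintype.card_fin,
    show Nat.factorial 5 = 120 from rfl] at h
  omega

end Cfsg.Lib.Syl34
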