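import Cfsg.Agent.Lib.Syl34.AutA
import Cfsg.Agent.Lib.Syl34.FourCIT
import Cfsg.Agent.Lib.Fusion.Abelian

/-!
# The conjugates of the centre inside `A`

Two conjugates of `Z` under the normaliser of `A` are equal or meet trivially; if `Z` is not normal in
the normaliser then the normaliser is transitive on the involutions of `A`.
-/

set_option autoImplicit false
set_option linter.style.haveILetI false
set_option linter.unusedSectionVars false

namespace Cfsg.Lib.Syl34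

open Subgroup Cfsg.Lib

variable {G : Type*} [Group G] [Finite G] {F : Type*} [Field F] [Fintype F]

/-- A map of order five of a group of order sixteen fixing a nontrivial element is trivial. -/
theorem fix_five {A : Type*} [Group A] [Finite A] (h16 : Nat.card A = 16) {π : MulAut A}
    (hπ : π ^ 5 = 1) {z : A} (hz : z ≠ 1) (hfix : π z = z) : π = 1 := by
  haveI : Fact (Nat.Prime 5) := ⟨by norm_num⟩
  let K : Subgroup A :=
    { carrier := {a | π a = a}
      one_mem' := map_one π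
      mul_mem' := fun {a b} ha hb => by
        simp only [Set.mem_setOf_eq, map_mul] at ha hb ⊢; rw [ha, hb]
      inv_mem' := fun {a} ha => by
        simp only [Set.mem_setOf_eq, map_inv] at ha ⊢; rw [ha] }
  have hp : IsPGroup 5 (zpowers π) := by
    obtain ⟨k, -, hk⟩ := (Nat.dvd_prime_pow (by norm_num : Nat.Prime 5)).1
      (orderOf_dvd_of_pow_eq_one (by rw [pow_one]; exact hπ) : orderOf π ∣ 5 ^ 1)
    exact IsPGroup.of_card (n := k) (by rw [Nat.card_zpowers, hk])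
  have hmod := hp.card_modEq_card_fixedPoints A
  have hset : (MulAction.fixedPoints (zpowers π) A : Set A) = (K : Set A) := by
    ext a
    refine ⟨fun h => h ⟨π, mem_zpowers π⟩, fun h g => ?_⟩
    have h' : π a = a := h
    have hle : zpowers π ≤ MulAction.stabilizer (MulAut A) a := zpowers_le.2 h'
    exact hle g.2
  rw [hset, h16] at hmod
  have hcd : Nat.card K ∣ 16 := h16 ▸ K.card_subgroup_dvd_card
  have h2 : 1 < Nat.card K := by
    haveI : Nontrivial K := ⟨⟨z, hfix⟩, 1, fun e => hz (congrArg Subtype.val e)⟩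
    exact Finite.one_lt_card
  have hK : Nat.card K = 16 := by
    have hle := Nat.le_of_dvd (by norm_num) hcd
    change 16 ≡ Nat.card K [MOD 5] at hmod
    generalize Nat.card K = k at *
    rw [Nat.ModEq] at hmod
    interval_cases k <;> omega
  have htop := Subgroup.eq_top_of_card_eq K (hK.trans h16.symm)
  exact MulEquiv.ext fun a => (htop ▸ mem_top a : a ∈ K)

namespace Crd

variable {S : Sylow 2 G} (c : Crd (S : Subgroup G) F)

/-- In coordinates, conjugation by an element of `S` translates `A` by `X s * Y a`. -/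
theorem S_conj_A {s a : G} (hs : s ∈ (S : Subgroup G)) (ha : a ∈ c.A) :
    s * a * s⁻¹ = c.pt 0 0 (c.X s * c.Y a) * a := by
  obtain ⟨h1, h2, h3⟩ := c.comm_coords hs ha.1
  rw [ha.2, zero_mul, add_zero] at h3
  have hm : s * a * s⁻¹ * a⁻¹ ∈ (S : Subgroup G) := mul_mem (A_conj c hs ha).1 (inv_mem ha.1)
  have e : s * a * s⁻¹ * a⁻¹ = c.pt 0 0 (c.X s * c.Y a) :=
    c.ext hm (c.pt_mem ..) (by rw [h1, X_pt]) (by rw [h2, Y_pt]) (by rw [h3, W_pt])
  rw [← e, inv_mul_cancel_right]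

theorem mem_Z_of_fixed {s a : G} (hs : s ∈ (S : Subgroup G)) (hsA : s ∉ c.A) (ha : a ∈ c.A)
    (h : s * a * s⁻¹ = a) : a ∈ c.Z := by
  by_contra haZ
  exact hsA (c.mem_A_of_commute ha haZ hs (mul_inv_eq_iff_eq_mul.1 h))

/-- The action on `A` of a subgroup of its normaliser. -/
noncomputable def act {M : Subgroup G} (hM : M ≤ normalizer (c.A : Set G)) : M →* MulAut c.A :=
  c.A.normalizerMonoidHom.comp (inclusion hM)

theorem act_apply {M : Subgroup G} (hM : M ≤ normalizer (c.A : Set G)) (m : M) (a : c.A) :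
    ((c.act hM m a : c.A) : G) = (m : G) * a * (m : G)⁻¹ := rfl

theorem act_eq_iff {M : Subgroup G} (hM : M ≤ normalizer (c.A : Set G)) {m n : M} :
    c.act hM m = c.act hM n ↔ ∀ a ∈ c.A, (m : G) * a * (m : G)⁻¹ = (n : G) * a * (n : G)⁻¹ :=
  ⟨fun h a ha => congrArg (fun f : MulAut c.A => ((f ⟨a, ha⟩ : c.A) : G)) h,
    fun h => MulEquiv.ext fun a => Subtype.ext (h a a.2)⟩

/-- The image of `S` is a Sylow four-group of the automiser, each nontrivial element of which fixes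
exactly `Z`. -/
theorem exists_autV {M : Subgroup G} (hM : M ≤ normalizer (c.A : Set G))
    (hSM : (S : Subgroup G) ≤ M) :
    ∃ V : Sylow 2 (c.act hM).range, Nat.card (V : Subgroup (c.act hM).range) = 4 ∧
      (∀ x ∈ (V : Subgroup (c.act hM).range), x * x = 1) ∧
      (∀ x : (c.act hM).range, x ∈ (V : Subgroup (c.act hM).range) ↔
        ∃ s, ∃ hs : s ∈ (S : Subgroup G), (c.act hM).rangeRestrict ⟨s, hSM hs⟩ = x) := by
  haveI : Fact (Nat.Prime 2) := ⟨Nat.prime_two⟩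
  set f := (c.act hM).rangeRestrict
  let V := (S.subtype hSM).mapSurjective (c.act hM).rangeRestrict_surjective
  have hmem : ∀ x, x ∈ (V : Subgroup (c.act hM).range) ↔
      ∃ s, ∃ hs : s ∈ (S : Subgroup G), f ⟨s, hSM hs⟩ = x := fun x => by
    simp only [V, Sylow.coe_mapSurjective, Sylow.coe_subtype, mem_map, mem_subgroupOf]
    exact ⟨fun ⟨m, hm, e⟩ => ⟨m, hm, e⟩, fun ⟨s, hs, e⟩ => ⟨⟨s, hSM hs⟩, hs, e⟩⟩
  refine ⟨V, ?_, fun x hx => ?_, hmem⟩
  · have heq : ∀ {x y : G} (hx : x ∈ (S : Subgroup G)) (hy : y ∈ (S : Subgroup G)),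
        f ⟨x, hSM hx⟩ = f ⟨y, hSM hy⟩ ↔ c.X x = c.X y := by
      intro x y hx hy
      rw [Subtype.ext_iff, MonoidHom.coe_rangeRestrict, MonoidHom.coe_rangeRestrict, c.act_eq_iff]
      refine ⟨fun h => ?_, fun h a ha => by rw [c.S_conj_A hx ha, c.S_conj_A hy ha, h]⟩
      have h' := h _ (c.pt_mem_A 1 0)
      rw [c.S_conj_A hx (c.pt_mem_A 1 0), c.S_conj_A hy (c.pt_mem_A 1 0)] at h'
      simpa using congrArg c.W (mul_right_cancel h')
    let Φ : F → (V : Subgroup (c.act hM).range) := fun x =>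
      ⟨f ⟨c.pt x 0 0, hSM (c.pt_mem ..)⟩, (hmem _).2 ⟨_, c.pt_mem .., rfl⟩⟩
    rw [← Nat.card_eq_of_bijective Φ ⟨fun x y e => ?_, fun v => ?_⟩, Nat.card_eq_fintype_card, c.hF]
    · have := (heq (c.pt_mem ..) (c.pt_mem ..)).1 (congrArg Subtype.val e)
      rwa [X_pt, X_pt] at this
    · obtain ⟨s, hs, e⟩ := (hmem v).1 v.2
      exact ⟨c.X s, Subtype.ext (((heq (c.pt_mem ..) hs).2 (c.X_pt ..)).trans e)⟩
  · obtain ⟨s, hs, rfl⟩ := (hmem x).1 hx
    rw [← map_mul, ← map_one f, Subtype.ext_iff, MonoidHom.coe_rangeRestrict, MonoidHom.coe_rangeRestrict,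
      c.act_eq_iff]
    intro a ha
    exact ((c.unip_of_mem hs).sq ha).trans (by simp)

/-- An element of `M` commuting on `A` with a nontrivial element of the image of `S` normalises `Z`. -/
theorem norm_Z_of_commute {g s : G} (hg : g ∈ normalizer (c.A : Set G)) (hs : s ∈ (S : Subgroup G))
    (hsA : s ∉ c.A) (h : ∀ a ∈ c.A, g * (s * a * s⁻¹) * g⁻¹ = s * (g * a * g⁻¹) * s⁻¹) :
    g ∈ normalizer (c.Z : Set G) :=
  mem_norm_of_conj_mem fun z hz => c.mem_Z_of_fixed hs hsA (conj_mem_of_norm hg hz.1)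
    (by rw [← h z hz.1, (c.unip_of_mem hs).1 z hz])

/-- The normaliser of `A` and a nontrivial element of `Z` normalises `Z`. -/
theorem cent_le_norm_Z {z : G} (hz : z ∈ c.Z) (h1 : z ≠ 1) :
    normalizer (c.A : Set G) ⊓ centralizer ({z} : Set G) ≤ normalizer (c.Z : Set G) := by
  haveI : Fact (Nat.Prime 2) := ⟨Nat.prime_two⟩
  set M := normalizer (c.A : Set G) ⊓ centralizer ({z} : Set G)
  have hM : M ≤ normalizer (c.A : Set G) := inf_le_left
  have hSM : (S : Subgroup G) ≤ M := fun s hs =>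
    ⟨c.S_le_norm_A hs, mem_centralizer_singleton_iff.2 (c.commute_Z hz hs).eq.symm⟩
  have hMz : ∀ m ∈ M, m * z * m⁻¹ = z := fun m hm =>
    mul_inv_eq_iff_eq_mul.2 (mem_centralizer_singleton_iff.1 hm.2)
  obtain ⟨V, hV4, hV2, hVm⟩ := c.exists_autV hM hSM
  set f := (c.act hM).rangeRestrict
  have hfe : ∀ {m n : M}, f m = f n ↔ ∀ a ∈ c.A, (m : G) * a * (m : G)⁻¹ = (n : G) * a * (n : G)⁻¹ := by
    intro m n
    rw [Subtype.ext_iff, MonoidHom.coe_rangeRestrict, MonoidHom.coe_rangeRestrict, c.act_eq_iff]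
  have hne : ∀ {s : G} (hs : s ∈ (S : Subgroup G)), f ⟨s, hSM hs⟩ ≠ 1 → s ∉ c.A := fun {s} hs h hsA =>
    h (by
      rw [← map_one f, hfe]
      intro a ha
      simp [(c.commute_A hsA ha).eq])
  have hCV : ∀ v ∈ (V : Subgroup (c.act hM).range), v ≠ 1 →
      centralizer ({v} : Set (c.act hM).range) ≤ (V : Subgroup (c.act hM).range) := by
    intro v hv hv1 x hx
    obtain ⟨s, hs, rfl⟩ := (hVm v).1 hv
    obtain ⟨m, rfl⟩ := (c.act hM).rangeRestrict_surjective x
    have hsA := hne hs hv1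
    have hcom : ∀ a ∈ c.A, (m : G) * (s * a * s⁻¹) * (m : G)⁻¹ = s * ((m : G) * a * (m : G)⁻¹) * s⁻¹ := by
      intro a ha
      have e := mem_centralizer_singleton_iff.1 hx
      rw [← map_mul, ← map_mul, hfe] at e
      have := e a ha
      simp only [Subgroup.coe_mul] at this
      rwa [conj_conj, conj_conj] at this
    have hmZ := c.norm_Z_of_commute m.2.1 hs hsA hcom
    have hfix := c.fix_Z_of_fix m.2.1 hmZ hz h1 (hMz m m.2)
    obtain ⟨α, β, -, -, hY, -, -⟩ := c.exists_scal_of_norm m.2.1 hmZ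
    have hX : c.X s ≠ 0 := fun e => hsA ⟨hs, e⟩
    have hma := conj_mem_of_norm m.2.1 (c.pt_mem_A 1 0)
    have hβ : β = 1 := by
      have h' := hcom _ (c.pt_mem_A 1 0)
      rw [c.S_conj_A hs (c.pt_mem_A 1 0), c.S_conj_A hs hma, hY _ (c.pt_mem_A 1 0),
        show (m : G) * (c.pt 0 0 (c.X s * c.Y (c.pt 0 1 0)) * c.pt 0 1 0) * (m : G)⁻¹ =
          (m : G) * c.pt 0 0 (c.X s * c.Y (c.pt 0 1 0)) * (m : G)⁻¹ *
            ((m : G) * c.pt 0 1 0 * (m : G)⁻¹) by group, hfix _ (c.pt_mem_Z _)] at h'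
      have h'' := congrArg c.W (mul_right_cancel h')
      simp only [W_pt, Y_pt, mul_one] at h''
      exact (mul_eq_left₀ hX).1 h''.symm
    obtain ⟨s', hs', hact⟩ := c.exists_S_of_unip (g := (m : G)) ⟨hfix, fun a ha => by
      have h' := conj_mem_of_norm m.2.1 ha
      exact c.mem_Z.2 ⟨mul_mem h'.1 (inv_mem ha.1),
        by rw [c.X_mul h'.1 (inv_mem ha.1), c.X_inv ha.1, h'.2, ha.2, add_zero],
        by rw [c.Y_mul h'.1 (inv_mem ha.1), c.Y_inv ha.1, hY a ha, hβ, one_mul]; exact field_two c.hF _⟩⟩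
    exact (hVm _).2 ⟨s', hs', hfe.2 fun a ha => (hact a ha).symm⟩
  rcases four_cit V hV4 hV2 hCV with hn | h60
  · intro g hg
    refine mem_norm_of_conj_mem fun z' hz' => ?_
    have hs := c.pt_mem 1 0 0
    have hv : f ⟨_, hSM hs⟩ ∈ (V : Subgroup (c.act hM).range) := (hVm _).2 ⟨_, hs, rfl⟩
    obtain ⟨s, hsS, e⟩ := (hVm _).1 (hn.conj_mem _ hv (f ⟨g, hg⟩)⁻¹)
    rw [inv_inv, ← map_inv, ← map_mul, ← map_mul, hfe] at e
    have h' := e z' hz'.1
    rw [(c.unip_of_mem hsS).1 z' hz'] at h'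
    simp only [Subgroup.coe_mul, InvMemClass.coe_inv] at h'
    refine c.mem_Z_of_fixed hs (fun hA => ?_) (conj_mem_of_norm hg.1 hz'.1) ?_
    · simpa using hA.2
    · conv_rhs => rw [h']
      group
  · exfalso
    haveI : Fact (Nat.Prime 5) := ⟨by norm_num⟩
    obtain ⟨x, hx⟩ := exists_prime_orderOf_dvd_card' (G := (c.act hM).range) 5 (by rw [h60]; norm_num)
    obtain ⟨m, hm⟩ := x.2
    have h5 : (x : MulAut c.A) = 1 := fix_five c.card_A (z := (⟨z, hz.1⟩ : c.A))
      (by rw [← SubgroupClass.coe_pow, ← hx, pow_orderOf_eq_one, OneMemClass.coe_one])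
      (fun e => h1 (congrArg Subtype.val e)) (by
        rw [← hm]; exact Subtype.ext (hMz m m.2))
    rw [(Subtype.ext h5 : x = 1), orderOf_one] at hx
    norm_num at hx

/-- Conjugates of `Z` meeting nontrivially are equal. -/
theorem norm_Z_of_meet {g z : G} (hg : g ∈ normalizer (c.A : Set G)) (hz : z ∈ c.Z) (h1 : z ≠ 1)
    (hgz : g * z * g⁻¹ ∈ c.Z) : g ∈ normalizer (c.Z : Set G) := by
  set z' := g * z * g⁻¹ with hz'
  have hz'1 : z' ≠ 1 := fun e => h1 (conj_eq_one_iff.1 e)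
  set s := c.pt 1 0 0
  have hs : s ∈ (S : Subgroup G) := c.pt_mem ..
  have hm : g * s * g⁻¹ ∈ normalizer (c.A : Set G) ⊓ centralizer ({z'} : Set G) :=
    Subgroup.mem_inf.2 ⟨mul_mem (mul_mem hg (c.S_le_norm_A hs)) (inv_mem hg),
      mem_centralizer_singleton_iff.2 ((Commute.conj_iff g).2 (c.commute_Z hz hs).symm).eq⟩
  have hfix := c.fix_Z_of_fix hm.1 (c.cent_le_norm_Z hgz hz'1 hm) hgz hz'1
    (mul_inv_eq_iff_eq_mul.2 (mem_centralizer_singleton_iff.1 hm.2))
  suffices g⁻¹ ∈ normalizer (c.Z : Set G) by simpa using inv_mem this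
  refine mem_norm_of_conj_mem fun w hw => ?_
  have hwA := conj_mem_of_norm (inv_mem hg) hw.1
  refine c.mem_Z_of_fixed hs (fun hA => ?_) hwA ?_
  · simpa [s] using hA.2
  · calc s * (g⁻¹ * w * g⁻¹⁻¹) * s⁻¹ = g⁻¹ * (g * s * g⁻¹ * w * (g * s * g⁻¹)⁻¹) * g⁻¹⁻¹ := by group
      _ = g⁻¹ * w * g⁻¹⁻¹ := by rw [hfix w hw]

/-- If `Z` has another conjugate inside `A`, the normaliser of `A` is transitive on involutions. -/
theorem transitive_A (hsp : ¬ c.Norml) {z a : G} (hz : z ∈ c.Z) (hz1 : z ≠ 1) (ha : a ∈ c.A)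
    (ha1 : a ≠ 1) : ∃ n ∈ normalizer (c.A : Set G), n * z * n⁻¹ = a := by
  obtain ⟨g, hg, hgZ⟩ := SetLike.not_le_iff_exists.1 hsp
  let O := fun x : G => x ∈ c.A ∧ ∃ n ∈ normalizer (c.A : Set G), n * z * n⁻¹ = x
  have hOconj : ∀ {x n : G}, n ∈ normalizer (c.A : Set G) → O x → O (n * x * n⁻¹) := by
    rintro x n hn ⟨hx, m, hm, rfl⟩
    exact ⟨conj_mem_of_norm hn hx, n * m, mul_mem hn hm, conj_conj ..⟩
  have hcoset : ∀ {x t : G}, O x → x ∉ c.Z → t ∈ c.Z → O (t * x) := fun {x t} hx hxZ ht => by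
    have hy : c.Y x ≠ 0 := fun e => hxZ ⟨hx.1, hx.1.1, e⟩
    have h := hOconj (c.S_le_norm_A (c.pt_mem (c.W t / c.Y x) 0 0)) hx
    rwa [c.S_conj_A (c.pt_mem ..) hx.1, X_pt, div_mul_cancel₀ _ hy,
      c.ext (c.pt_mem 0 0 (c.W t)) (c.Z_le ht) (by rw [X_pt, ht.1.2]) (by rw [Y_pt, ht.2.2]) (c.W_pt ..)]
      at h
  have hnot : ∀ {t : G}, t ∈ c.Z → t ≠ 1 → g * t * g⁻¹ ∉ c.Z := fun ht h1 h =>
    hgZ (c.norm_Z_of_meet hg ht h1 h)
  have hcoset' : ∀ {x t : G}, O x → g⁻¹ * x * g ∉ c.Z → t ∈ c.Z → O (g * t * g⁻¹ * x) :=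
    fun {x t} hx hxZ ht => by
      have h0 := hOconj (inv_mem hg) hx
      rw [inv_inv] at h0
      have := hOconj hg (hcoset h0 hxZ ht)
      rwa [show g * (t * (g⁻¹ * x * g)) * g⁻¹ = g * t * g⁻¹ * x by group] at this
  have hOz : O z := ⟨hz.1, 1, one_mem _, by group⟩
  have hzout : g⁻¹ * z * g ∉ c.Z := fun h => by
    refine hnot h (fun e => hz1 ?_) (by rwa [show g * (g⁻¹ * z * g) * g⁻¹ = z by group])
    calc z = g * (g⁻¹ * z * g) * g⁻¹ := by group
      _ = 1 := by rw [e, mul_one, mul_inv_cancel]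
  -- every coset of a nontrivial element of the other conjugate of `Z` lies in the orbit
  have hcos : ∀ t ∈ c.Z, t ≠ 1 → ∀ u ∈ c.Z, O (u * (g * t * g⁻¹)) := fun t ht ht1 u hu => by
    have h1 := hcoset' hOz hzout ht
    have hout : g * t * g⁻¹ * z ∉ c.Z := fun h => hnot ht ht1 ((c.Z.mul_mem_cancel_right hz).1 h)
    have h2 := hcoset h1 hout (mul_mem hu hz)
    rwa [← (c.commute_A hz.1 (conj_mem_of_norm hg ht.1)).eq, mul_assoc u, ← mul_assoc z z, c.sq_Z hz,
      one_mul] at h2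
  -- every element outside `Z` is in such a coset
  have hbase : ∀ x, x ∈ c.A → x ∉ c.Z → O x := by
    intro x hx hxZ
    have hinj : ∀ t t' : c.Z, c.Y (g * t * g⁻¹) = c.Y (g * t' * g⁻¹) → t = t' := fun t t' e => by
      have h1 := conj_mem_of_norm hg t.2.1
      have h2 := conj_mem_of_norm hg t'.2.1
      have hd : g * ((t : G) * t') * g⁻¹ ∈ c.Z := by
        rw [show g * ((t : G) * t') * g⁻¹ = g * t * g⁻¹ * (g * t' * g⁻¹) by group]
        exact c.mem_Z.2 ⟨mul_mem h1.1 h2.1, by rw [c.X_mul h1.1 h2.1, h1.2, h2.2, add_zero],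
          by rw [c.Y_mul h1.1 h2.1, e]; exact field_two c.hF _⟩
      by_contra hne
      refine hnot (mul_mem t.2 t'.2) (fun e => hne (Subtype.ext ?_)) hd
      calc (t : G) = (t : G) * t' * t' := by rw [mul_assoc, c.sq_Z t'.2, mul_one]
        _ = t' := by rw [e, one_mul]
    have hbij := (Nat.bijective_iff_injective_and_card (fun t : c.Z => c.Y (g * t * g⁻¹))).2
      ⟨fun t t' e => hinj t t' e, by rw [c.card_Z, Nat.card_eq_fintype_card, c.hF]⟩
    obtain ⟨t, ht⟩ := hbij.2 (c.Y x)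
    have ht1 : (t : G) ≠ 1 := fun e => hxZ ⟨hx, hx.1, by
      rw [← ht]; simp only [e, mul_one, mul_inv_cancel, c.Y_one]⟩
    have hta := conj_mem_of_norm hg t.2.1
    have hu : x * (g * t * g⁻¹) ∈ c.Z := c.mem_Z.2 ⟨mul_mem hx.1 hta.1,
      by rw [c.X_mul hx.1 hta.1, hx.2, hta.2, add_zero],
      by rw [c.Y_mul hx.1 hta.1, ← ht]; exact field_two c.hF _⟩
    have := hcos t t.2 ht1 _ hu
    rwa [mul_assoc, c.sq_A hta, mul_one] at this
  suffices O a from this.2
  by_cases haZ : a ∈ c.Z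
  · have hx := hbase _ (conj_mem_of_norm hg ha) (hnot haZ ha1)
    have := hOconj (inv_mem hg) hx
    rwa [show g⁻¹ * (g * a * g⁻¹) * g⁻¹⁻¹ = a by group] at this
  · exact hbase a ha haZ

/-- If `Z` has another conjugate inside `A`, some normaliser of `S` moves the involutions of `Z`. -/
theorem exists_move_Z (hsp : ¬ c.Norml) :
    ∃ n ∈ normalizer ((S : Subgroup G) : Set G), ∃ α β : F, α * β ≠ 1 ∧
      ∀ s ∈ (S : Subgroup G), c.X (n * s * n⁻¹) = α * c.X s ∧ c.Y (n * s * n⁻¹) = β * c.Y s := by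
  obtain ⟨w, w0, w1⟩ := exists_omega c.hF
  have hne : ∀ x : F, x ≠ 0 → c.pt 0 0 x ≠ 1 := fun x hx e => hx (by
    have := congrArg c.W e
    rwa [W_pt, c.W_one] at this)
  obtain ⟨m, hm, e⟩ := c.transitive_A hsp (c.pt_mem_Z 1) (hne 1 one_ne_zero) (c.pt_mem_Z w).1 (hne w w0)
  obtain ⟨α, β, -, -, -, hW, n, hn, hns⟩ := c.exists_scal_of_norm hm
    (c.norm_Z_of_meet hm (c.pt_mem_Z 1) (hne 1 one_ne_zero) (e ▸ c.pt_mem_Z w))
  refine ⟨n, hn, α, β, fun h => w1 ?_, hns⟩
  have := hW _ (c.pt_mem_Z 1)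
  rw [e, h, W_pt, W_pt, one_mul] at this
  exact this

/-- If `Z` has another conjugate inside `A`, some normaliser of `S` moves `B/Z`. -/
theorem exists_move_X (hsp : ¬ c.Norml) :
    ∃ n ∈ normalizer ((S : Subgroup G) : Set G), ∃ α β : F, α ≠ 1 ∧
      ∀ s ∈ (S : Subgroup G), c.X (n * s * n⁻¹) = α * c.X s ∧ c.Y (n * s * n⁻¹) = β * c.Y s := by
  haveI : Fact (Nat.Prime 2) := ⟨Nat.prime_two⟩
  by_contra hall
  push Not at hall
  have hM : normalizer (c.A : Set G) ≤ normalizer (c.A : Set G) := le_rfl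
  obtain ⟨V, hV4, hV2, hVm⟩ := c.exists_autV hM c.S_le_norm_A
  set f := (c.act hM).rangeRestrict
  have hfe : ∀ {m n : normalizer (c.A : Set G)},
      f m = f n ↔ ∀ a ∈ c.A, (m : G) * a * (m : G)⁻¹ = (n : G) * a * (n : G)⁻¹ := by
    intro m n
    rw [Subtype.ext_iff, MonoidHom.coe_rangeRestrict, MonoidHom.coe_rangeRestrict, c.act_eq_iff]
  have hs := c.pt_mem 1 0 0
  have hsA : c.pt 1 0 0 ∉ c.A := fun hA => by simpa using hA.2
  -- elements whose image centralises the Sylow four-group normalise `Z`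
  have hcent : ∀ {s : G} (hs : s ∈ (S : Subgroup G)) (m : normalizer (c.A : Set G)), s ∉ c.A →
      f m * f ⟨s, c.S_le_norm_A hs⟩ = f ⟨s, c.S_le_norm_A hs⟩ * f m →
      (m : G) ∈ normalizer (c.Z : Set G) := by
    intro s hs m hsA e
    refine c.norm_Z_of_commute m.2 hs hsA fun a ha => ?_
    rw [← map_mul, ← map_mul, hfe] at e
    have := e a ha
    simp only [Subgroup.coe_mul] at this
    rwa [conj_conj, conj_conj] at this
  have hN : normalizer ((V : Subgroup (c.act hM).range) : Set (c.act hM).range) ≤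
      centralizer ((V : Subgroup (c.act hM).range) : Set (c.act hM).range) := by
    intro x hx v hv
    obtain ⟨m, rfl⟩ := (c.act hM).rangeRestrict_surjective x
    have hmZ : (m : G) ∈ normalizer (c.Z : Set G) := mem_norm_of_conj_mem fun z hz => by
      have hv' : f ⟨_, c.S_le_norm_A hs⟩ ∈ (V : Subgroup (c.act hM).range) := (hVm _).2 ⟨_, hs, rfl⟩
      obtain ⟨s', hs', e⟩ := (hVm _).1 (conj_mem_of_norm (inv_mem hx) hv')
      rw [inv_inv, ← map_inv, ← map_mul, ← map_mul, hfe] at e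
      have h' := e z hz.1
      rw [(c.unip_of_mem hs').1 z hz] at h'
      simp only [Subgroup.coe_mul, InvMemClass.coe_inv] at h'
      refine c.mem_Z_of_fixed hs hsA (conj_mem_of_norm m.2 hz.1) ?_
      conv_rhs => rw [h']
      group
    obtain ⟨s, hs', rfl⟩ := (hVm v).1 hv
    obtain ⟨α, β, -, -, hY, hW, n, hn, hns⟩ := c.exists_scal_of_norm m.2 hmZ
    have hα : α = 1 := by
      by_contra hne
      obtain ⟨s₀, hs₀, hbad⟩ := hall n hn α β hne
      exact hbad (hns s₀ hs₀).1 (hns s₀ hs₀).2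
    rw [← map_mul, ← map_mul, hfe]
    intro a ha
    have hma := conj_mem_of_norm m.2 ha
    simp only [Subgroup.coe_mul]
    rw [conj_conj, conj_conj, c.S_conj_A hs' ha, c.S_conj_A hs' hma, hY a ha,
      show (m : G) * (c.pt 0 0 (c.X s * c.Y a) * a) * (m : G)⁻¹ =
        (m : G) * c.pt 0 0 (c.X s * c.Y a) * (m : G)⁻¹ * ((m : G) * a * (m : G)⁻¹) by group]
    congr 1
    have hz' := conj_mem_of_norm hmZ (c.pt_mem_Z (c.X s * c.Y a))
    refine c.ext (c.pt_mem ..) (c.Z_le hz') (by rw [X_pt, hz'.1.2]) (by rw [Y_pt, hz'.2.2]) ?_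
    rw [hW _ (c.pt_mem_Z _), W_pt, W_pt, hα]
    ring
  obtain ⟨P, K, hK, hKV⟩ := Fusion.hasNormalPComplement_of_normalizer_le_centralizer V hN
  haveI := hK
  have hcop : (Nat.card (V : Subgroup (c.act hM).range)).Coprime (Nat.card K) := by
    have := P.card_coprime_index
    rwa [hKV.index_eq_card, Nat.card_congr (Sylow.equiv P V).toEquiv] at this
  -- the complement lies in the stabiliser of `Z`
  set L : Subgroup (c.act hM).range :=
    ((normalizer (c.Z : Set G)).subgroupOf (normalizer (c.A : Set G))).map f with hL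
  have hcentL : ∀ v ∈ (V : Subgroup (c.act hM).range), v ≠ 1 →
      centralizer ({v} : Set (c.act hM).range) ≤ L := by
    intro v hv hv1 x hx
    obtain ⟨s, hs', rfl⟩ := (hVm v).1 hv
    obtain ⟨m, rfl⟩ := (c.act hM).rangeRestrict_surjective x
    refine ⟨m, hcent hs' m (fun hA => hv1 ?_) (mem_centralizer_singleton_iff.1 hx), rfl⟩
    rw [← map_one f, hfe]
    intro a ha
    simp [(c.commute_A hA ha).eq]
  haveI : IsMulCommutative (V : Subgroup (c.act hM).range) := ⟨⟨fun a b => Subtype.ext (by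
    have h := hV2 _ (mul_mem a.2 b.2)
    calc (a : (c.act hM).range) * b = a * (a * b * (a * b)) * b := by rw [h, mul_one]
      _ = a * a * (b * a) * (b * b) := by group
      _ = b * a := by rw [hV2 a a.2, hV2 b b.2, one_mul, mul_one])⟩⟩
  have hnc : ¬ IsCyclic (V : Subgroup (c.act hM).range) := fun hc => by
    obtain ⟨g, hg⟩ := hc.exists_generator
    have h := orderOf_eq_card_of_forall_mem_zpowers hg
    have hle := orderOf_le_of_pow_eq_one (x := g) (n := 2) two_pos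
      (Subtype.ext (by rw [SubgroupClass.coe_pow, pow_two]; exact hV2 g g.2))
    omega
  have hKL : K ≤ L := (Coprime.le_iSup_centralizer_of_not_isCyclic hnc
    (normalizer_eq_top_iff.2 hK ▸ le_top) hcop).trans
      (iSup_le fun v => inf_le_right.trans (hcentL v v.2.1 v.2.2))
  have hVL : (V : Subgroup (c.act hM).range) ≤ L := fun v hv => by
    obtain ⟨s, hs', rfl⟩ := (hVm v).1 hv
    exact ⟨_, c.normS_le_norm_Z (le_normalizer hs'), rfl⟩
  have htop : L = ⊤ := by
    refine eq_top_iff.2 (le_trans ?_ (sup_le hKL hVL))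
    refine (Subgroup.eq_top_of_card_eq _ (le_antisymm (card_le_card_group _) ?_)).ge
    have h1 : Nat.card K ∣ Nat.card ↥(K ⊔ (V : Subgroup (c.act hM).range)) := card_dvd_of_le le_sup_left
    have h2 : Nat.card (V : Subgroup (c.act hM).range) ∣
        Nat.card ↥(K ⊔ (V : Subgroup (c.act hM).range)) := card_dvd_of_le le_sup_right
    have := Nat.le_of_dvd Nat.card_pos (hcop.symm.mul_dvd_of_dvd_of_dvd h1 h2)
    rwa [← hKV.card_mul, Nat.card_congr (Sylow.equiv P V).toEquiv]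
  refine hsp fun g hg => ?_
  have hgL : f ⟨g, hg⟩ ∈ L := htop ▸ mem_top _
  obtain ⟨m, hm, e⟩ := hgL
  rw [hfe] at e
  exact mem_norm_of_conj_mem fun z hz => by rw [← e z hz.1]; exact conj_mem_of_norm hm hz

end Crd

end Cfsg.Lib.Syl34
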