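import Cfsg.Agent.Lib.Syl34.Quot
import Cfsg.Agent.Lib.Syl34.Spread
import Cfsg.Agent.Lib.ZStar.Main
import Cfsg.Agent.Lib.ZStar.Fusion
import Cfsg.Agent.Lib.Invol.Isolated
import Cfsg.Agent.Lib.Goldschmidt.Product

/-!
# The centraliser of an involution of the centre

Modulo its odd core the centraliser of an involution of `Z` has a normal Sylow 2-subgroup.
-/

set_option autoImplicit false
set_option linter.style.haveILetI false
set_option linter.unusedSectionVars false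

namespace Cfsg.Lib.Syl34

open Subgroup Cfsg Cfsg.Lib

universe u

variable {G : Type u} [Group G] [Finite G] {F : Type*} [Field F] [Fintype F]

namespace Crd

variable {S : Sylow 2 G} (c : Crd (S : Subgroup G) F)

/-- Fusion of a set of elements of `A` happens in the normaliser of `A`. -/
theorem exists_norm_conj_set {T : Set G} (hT : T ⊆ (c.A : Set G)) {g : G}
    (hg : ∀ a ∈ T, g * a * g⁻¹ ∈ c.A) :
    ∃ n ∈ normalizer (c.A : Set G), ∀ a ∈ T, n * a * n⁻¹ = g * a * g⁻¹ := by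
  haveI : Fact (Nat.Prime 2) := ⟨Nat.prime_two⟩
  set C := centralizer ((fun a => g * a * g⁻¹) '' T)
  have hAC : c.A ≤ C := fun x hx => mem_centralizer_iff.2 fun y hy => by
    obtain ⟨a, ha, rfl⟩ := hy
    exact (c.commute_A hx (hg a ha)).eq.symm
  have hLC : c.A.map (MulAut.conj g).toMonoidHom ≤ C := by
    rintro _ ⟨x, hx, rfl⟩
    refine mem_centralizer_iff.2 fun y hy => ?_
    obtain ⟨a, ha, rfl⟩ := hy
    exact ((Commute.conj_iff g).2 (c.commute_A (hT ha) hx)).eq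
  obtain ⟨d, hd, R, hR, hAR, hLR⟩ := Invol.exists_common_pGroup (p := 2) C hAC hLC c.A_isPGroup
    (c.A_isPGroup.map _)
  obtain ⟨k, hk, hkS⟩ := c.exists_norm_conj_le hR hAR
  have hn : k * (d * g) ∈ normalizer (c.A : Set G) := c.norm_A_of_conj_le fun x hx => by
    have := hkS _ (hLR (g * x * g⁻¹) ⟨x, hx, rfl⟩)
    rwa [show k * (d * g) * x * (k * (d * g))⁻¹ = k * (d * (g * x * g⁻¹) * d⁻¹) * k⁻¹ by group]
  refine ⟨d * g, ?_, fun a ha => ?_⟩
  · have := mul_mem (inv_mem hk) hn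
    rwa [inv_mul_cancel_left] at this
  · rw [conj_conj, ← (mem_centralizer_iff.1 hd) _ ⟨a, ha, rfl⟩, mul_inv_cancel_right]

/-- An element centralising one involution of `Z` does not move another within `A`. -/
theorem fixed_of_conj_mem_A {h z w : G} (hz : z ∈ c.Z) (h1 : z ≠ 1) (hhz : h * z * h⁻¹ = z)
    (hw : w ∈ c.Z) (hhw : h * w * h⁻¹ ∈ c.A) : h * w * h⁻¹ = w := by
  obtain ⟨n, hn, hne⟩ := c.exists_norm_conj_set (T := {z, w})
    (Set.insert_subset hz.1 (Set.singleton_subset_iff.2 hw.1))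
    (g := h) (fun a ha => by
      rcases ha with rfl | rfl
      · rw [hhz]; exact hz.1
      · exact hhw)
  have hnz : n * z * n⁻¹ = z := (hne z (Set.mem_insert _ _)).trans hhz
  rw [← hne w (Set.mem_insert_of_mem _ rfl)]
  exact c.fix_Z_of_fix hn (c.norm_Z_of_meet hn hz h1 (hnz.symm ▸ hz)) hz h1 hnz w hw

end Crd

/-- A Sylow 2-subgroup meets a normal subgroup in a Sylow 2-subgroup of it. -/
theorem exists_sylow_inf {K : Type*} [Group K] [Finite K] (P : Sylow 2 K) (M : Subgroup K) [M.Normal] :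
    ∃ Q : Sylow 2 M, (Q : Subgroup M) = (P : Subgroup K).subgroupOf M := by
  haveI : Fact (Nat.Prime 2) := ⟨Nat.prime_two⟩
  refine ⟨(P.2.comap_subtype (K := M)).toSylow fun h => P.not_dvd_index (h.trans ?_), rfl⟩
  show (P : Subgroup K).relIndex M ∣ (P : Subgroup K).index
  have hrel : (P : Subgroup K).relIndex ((P : Subgroup K) ⊔ M) = (P : Subgroup K).relIndex M := by
    have h1 := relIndex_mul_relIndex ((P : Subgroup K) ⊓ M) P ((P : Subgroup K) ⊔ M) inf_le_left le_sup_left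
    have h2 := relIndex_mul_relIndex ((P : Subgroup K) ⊓ M) M ((P : Subgroup K) ⊔ M) inf_le_right le_sup_right
    rw [relIndex_sup_right, inf_relIndex_right] at h2
    rw [inf_relIndex_left, ← h2, mul_comm ((P : Subgroup K).relIndex M)] at h1
    exact Nat.eq_of_mul_eq_mul_left (Nat.pos_of_ne_zero Subgroup.index_ne_zero_of_finite) h1
  rw [← hrel, ← relIndex_mul_index (le_sup_left : (P : Subgroup K) ≤ (P : Subgroup K) ⊔ M)]
  exact dvd_mul_right _ _

/-- With trivial odd core and a central involution in `Z`, the Sylow 2-subgroup is normal. -/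
theorem sylow_normal_of_central {H : Type u} [Group H] [Finite H] {T : Sylow 2 H}
    (c : Crd (T : Subgroup H) F) {z : H} (hz : z ∈ c.Z) (h1 : z ≠ 1) (hzc : z ∈ center H)
    (hO : oddCore H = ⊥) : (T : Subgroup H).Normal := by
  haveI : Fact (Nat.Prime 2) := ⟨Nat.prime_two⟩
  have hhz : ∀ h : H, h * z * h⁻¹ = z := fun h => by
    rw [(mem_center_iff.1 hzc h), mul_inv_cancel_right]
  -- the whole of `Z` is central
  have hZc : c.Z ≤ center H := by
    intro w hw
    rcases eq_or_ne w 1 with rfl | hw1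
    · exact one_mem _
    refine ZStar.mem_center_of_isolated hO (Invol.isolated_of_sylow T
      (orderOf_eq_prime (by rw [pow_two]; exact c.sq_Z hw) hw1) fun h hh => ?_)
    have hsq : h * w * h⁻¹ * (h * w * h⁻¹) = 1 := by
      rw [show h * w * h⁻¹ * (h * w * h⁻¹) = h * (w * w) * h⁻¹ by group, c.sq_Z hw, mul_one,
        mul_inv_cancel]
    rcases (c.sq_eq_one_iff hh).1 hsq with hA | hB
    · exact c.fixed_of_conj_mem_A hz h1 (hhz h) hw hA
    · exact c.swap.fixed_of_conj_mem_A (by rwa [c.swap_Z]) h1 (hhz h) (by rwa [c.swap_Z])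
        (by rwa [c.swap_A])
  haveI hZn : c.Z.Normal := ⟨fun w hw g => by
    rw [mem_center_iff.1 (hZc hw) g, mul_inv_cancel_right]; exact hw⟩
  set π := QuotientGroup.mk' c.Z
  have hπ : Function.Surjective π := QuotientGroup.mk'_surjective _
  have hker : ∀ {x : H}, π x = 1 ↔ x ∈ c.Z := fun {x} => QuotientGroup.eq_one_iff x
  set P := T.mapSurjective hπ
  have hPcoe : (P : Subgroup (H ⧸ c.Z)) = (T : Subgroup H).map π := Sylow.coe_mapSurjective hπ T
  have hcap : ∀ {x y : H}, x ∈ (T : Subgroup H) → π x = π y → y ∈ (T : Subgroup H) := fun {x y} hx e => by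
    have h0 : π (x⁻¹ * y) = 1 := by rw [map_mul, map_inv, e, inv_mul_cancel]
    have := mul_mem hx (c.Z_le (hker.1 h0))
    rwa [mul_inv_cancel_left] at this
  have hO' : oddCore (H ⧸ c.Z) = ⊥ := by
    have h2 := ZStar.comap_oddCore_eq hO c.Z hZc (T.2.to_le c.Z_le)
    have h3 := congrArg (Subgroup.map π) h2
    rw [map_comap_eq_self_of_surjective hπ, QuotientGroup.map_mk'_self] at h3
    exact h3
  haveI hPab : IsMulCommutative (P : Subgroup (H ⧸ c.Z)) := ⟨⟨fun a b => Subtype.ext (by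
    obtain ⟨x, hx, ex⟩ := (hPcoe ▸ a.2 : (a : H ⧸ c.Z) ∈ (T : Subgroup H).map π)
    obtain ⟨y, hy, ey⟩ := (hPcoe ▸ b.2 : (b : H ⧸ c.Z) ∈ (T : Subgroup H).map π)
    simp only [Subgroup.coe_mul]
    rw [← ex, ← ey, ← map_mul, ← map_mul, ← mul_inv_eq_one, ← map_inv, ← map_mul, hker,
      show x * y * (y * x)⁻¹ = x * y * x⁻¹ * y⁻¹ by group]
    obtain ⟨e1, e2, -⟩ := c.comm_coords hx hy
    exact c.mem_Z.2 ⟨mul_mem (mul_mem (mul_mem hx hy) (inv_mem hx)) (inv_mem hy), e1, e2⟩)⟩⟩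
  -- an element normalising the image of `T` normalises `T`
  have hlift : ∀ {g : H}, π g ∈ normalizer ((P : Subgroup (H ⧸ c.Z)) : Set (H ⧸ c.Z)) →
      g ∈ normalizer ((T : Subgroup H) : Set H) := fun {g} hg => mem_norm_of_conj_mem fun x hx => by
    have hm := conj_mem_of_norm hg (hPcoe ▸ ⟨x, hx, rfl⟩ : π x ∈ (P : Subgroup (H ⧸ c.Z)))
    rw [hPcoe, ← map_inv, ← map_mul, ← map_mul] at hm
    obtain ⟨y, hy, e⟩ := hm
    exact hcap hy e
  -- the two images are strongly closed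
  have hclosed : ∀ c' : Crd (T : Subgroup H) F, c'.Z = c.Z →
      IsStronglyClosed (c'.A.map π) (P : Subgroup (H ⧸ c.Z)) := by
    intro c' hc'
    refine ⟨hPcoe ▸ map_mono c'.A_le, ?_⟩
    rintro _ ⟨a, ha, rfl⟩ g hg
    obtain ⟨n, hn, e⟩ := Fusion.exists_normalizer_conj_of_abelian P
      (hPcoe ▸ ⟨a, c'.A_le ha, rfl⟩ : π a ∈ (P : Subgroup (H ⧸ c.Z))) hg
    obtain ⟨m, rfl⟩ := hπ n
    rw [← e, ← map_inv, ← map_mul, ← map_mul]
    exact ⟨_, conj_mem_of_norm (c'.normS_le_norm_A (hlift hn)) ha, rfl⟩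
  have hA := hclosed c rfl
  have hB := hclosed c.swap c.swap_Z
  rw [c.swap_A] at hB
  have hdisj : c.A.map π ⊓ c.B.map π = ⊥ := eq_bot_iff.2 fun x hx => by
    obtain ⟨⟨a, ha, rfl⟩, b, hb, e⟩ := Subgroup.mem_inf.1 hx
    rw [mem_bot, hker]
    have h0 : π (b⁻¹ * a) = 1 := by rw [map_mul, map_inv, e, inv_mul_cancel]
    exact ⟨ha, by simpa using mul_mem hb (hker.1 h0).2⟩
  have hcomm := Goldschmidt.Product.productHolds (H ⧸ c.Z) P _ _ hA hB (fun x hx y hy =>
    congrArg Subtype.val (hPab.is_comm.comm ⟨x, hA.1 hx⟩ ⟨y, hB.1 hy⟩)) hdisj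
  rw [hO', le_bot_iff, commutator_eq_bot_iff_le_centralizer] at hcomm
  -- each closure is a 2-group
  have hside : ∀ c' : Crd (T : Subgroup H) F, c'.Z = c.Z → ∀ M : Subgroup (H ⧸ c.Z), M.Normal →
      c'.A.map π ≤ M → (∀ x ∈ M, ∀ y ∈ c'.B.map π, x * y = y * x) → c'.A.map π ≤ pCore 2 (H ⧸ c.Z) := by
    intro c' hc' M hM hAM hMB
    haveI := hM
    obtain ⟨Q, hQ⟩ := exists_sylow_inf P M
    have hburn : normalizer ((Q : Subgroup M) : Set M) ≤ centralizer ((Q : Subgroup M) : Set M) := by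
      intro g hg
      rw [hQ] at hg ⊢
      obtain ⟨m, hm⟩ := hπ (g : H ⧸ c.Z)
      -- `g` normalises the whole Sylow subgroup
      have hgP : π m ∈ normalizer ((P : Subgroup (H ⧸ c.Z)) : Set (H ⧸ c.Z)) := by
        refine mem_norm_of_conj_mem fun x hx => ?_
        obtain ⟨t, ht, rfl⟩ := (hPcoe ▸ hx : x ∈ (T : Subgroup H).map π)
        obtain ⟨a, ha, b, hb, rfl⟩ := c'.exists_mul_eq ht
        have h1 : π m * π a * (π m)⁻¹ ∈ (P : Subgroup (H ⧸ c.Z)) := by
          rw [hm]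
          exact conj_mem_of_norm (H := (P : Subgroup (H ⧸ c.Z)).subgroupOf M) hg
            (a := ⟨π a, hAM ⟨a, ha, rfl⟩⟩) (hPcoe ▸ ⟨a, ha.1, rfl⟩)
        have h2 : π m * π b * (π m)⁻¹ ∈ (P : Subgroup (H ⧸ c.Z)) := by
          rw [hMB _ (hm ▸ g.2) _ ⟨b, hb, rfl⟩, mul_inv_cancel_right]
          exact hPcoe ▸ ⟨b, hb.1, rfl⟩
        rw [map_mul, show π m * (π a * π b) * (π m)⁻¹ = π m * π a * (π m)⁻¹ * (π m * π b * (π m)⁻¹) by group]
        exact mul_mem h1 h2
      obtain ⟨α, β, -, -, hs, hw⟩ := c'.exists_scal (hlift hgP)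
      have hα : α = 1 := by
        have hx := c'.pt_mem_B 1 0
        have e : π (m * c'.pt 1 0 0 * m⁻¹ * (c'.pt 1 0 0)⁻¹) = 1 := by
          rw [map_mul, map_mul, map_mul, hMB _ (hm ▸ g.2) _ ⟨_, hx, rfl⟩, map_inv, map_inv,
            mul_inv_cancel_right, mul_inv_cancel]
        have h0 : m * c'.pt 1 0 0 * m⁻¹ * (c'.pt 1 0 0)⁻¹ ∈ c'.Z := hc' ▸ hker.1 e
        have h1 := h0.1.2
        rw [c'.X_mul (conj_mem_of_norm (hlift hgP) hx.1) (inv_mem hx.1), c'.X_inv hx.1,
          (hs _ hx.1).1, c'.X_pt, mul_one] at h1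
        exact field_eq_of_add c'.hF h1
      have hβ : β = 1 := by
        have hzz := c'.pt_mem_Z 1
        have := hw _ hzz
        rw [mem_center_iff.1 (hZc (hc' ▸ hzz)) m, mul_inv_cancel_right, c'.W_pt, hα, one_mul, mul_one] at this
        exact this.symm
      refine mem_centralizer_iff.2 fun q hq => Subtype.ext ?_
      obtain ⟨t, ht, e⟩ := (hPcoe ▸ hq : (q : H ⧸ c.Z) ∈ (T : Subgroup H).map π)
      simp only [Subgroup.coe_mul]
      rw [← e, ← hm, eq_comm, ← mul_inv_eq_one,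
        show π m * π t * (π t * π m)⁻¹ = π m * π t * (π m)⁻¹ * (π t)⁻¹ by group,
        ← map_inv, ← map_inv, ← map_mul, ← map_mul, ← map_mul, hker, ← hc']
      have ht' := conj_mem_of_norm (hlift hgP) ht
      refine c'.mem_Z.2 ⟨mul_mem ht' (inv_mem ht), ?_, ?_⟩
      · rw [c'.X_mul ht' (inv_mem ht), c'.X_inv ht, (hs t ht).1, hα, one_mul]; exact field_two c'.hF _
      · rw [c'.Y_mul ht' (inv_mem ht), c'.Y_inv ht, (hs t ht).2, hβ, one_mul]; exact field_two c'.hF _
    exact hAM.trans (Fusion.le_pCore hM (normal_twoGroup hO' M Q hburn))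
  have hA2 := hside c rfl _ normalClosure_normal le_normalClosure fun x hx y hy =>
    ((mem_centralizer_iff.1 (hcomm hx)) y (le_normalClosure hy)).symm
  have hB2 := hside c.swap c.swap_Z _ normalClosure_normal le_normalClosure fun x hx y hy => by
    rw [c.swap_B] at hy
    rw [c.swap_A] at hx
    exact (mem_centralizer_iff.1 (hcomm (le_normalClosure hy))) x hx
  rw [c.swap_A] at hB2
  have hTP : (T : Subgroup H).map π = pCore 2 (H ⧸ c.Z) := by
    refine le_antisymm ?_ (hPcoe ▸ le_sylow_of_normal _ (Fusion.pCore_isPGroup 2) P)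
    rintro _ ⟨t, ht, rfl⟩
    obtain ⟨a, ha, b, hb, rfl⟩ := c.exists_mul_eq ht
    rw [map_mul]
    exact mul_mem (hA2 ⟨a, ha, rfl⟩) (hB2 ⟨b, hb, rfl⟩)
  refine ⟨fun x hx g => ?_⟩
  have : π (g * x * g⁻¹) ∈ (T : Subgroup H).map π := by
    rw [hTP, map_mul, map_mul, map_inv]
    exact (pCore_normal 2 (H ⧸ c.Z)).conj_mem _ (hTP ▸ ⟨x, hx, rfl⟩) _
  obtain ⟨y, hy, e⟩ := this
  exact hcap hy e

namespace Crd

variable {S : Sylow 2 G} (c : Crd (S : Subgroup G) F)

/-- `C(z) = O(C(z)) N_{C(z)}(S)`. -/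
theorem exists_core_mul_normS {z : G} (hz : z ∈ c.Z) (h1 : z ≠ 1) {g : G} (hg : Commute g z) :
    ∃ o ∈ centralizerPPrimeCore 2 z, ∃ n ∈ normalizer ((S : Subgroup G) : Set G),
      Commute n z ∧ g = o * n := by
  haveI : Fact (Nat.Prime 2) := ⟨Nat.prime_two⟩
  set C := centralizer ({z} : Set G)
  have hSC : (S : Subgroup G) ≤ C := fun s hs =>
    mem_centralizer_singleton_iff.2 (c.commute_Z hz hs).eq.symm
  set T : Sylow 2 C := S.subtype hSC
  have hmapT : (T : Subgroup C).map C.subtype = (S : Subgroup G) := by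
    rw [Sylow.coe_subtype, map_subgroupOf_eq_of_le hSC]
  let cC := c.pull C.subtype C.subtype_injective (T : Subgroup C) hmapT
  set π := QuotientGroup.mk' (oddCore C)
  have hπ : Function.Surjective π := QuotientGroup.mk'_surjective _
  have hinj : ∀ s ∈ (T : Subgroup C), π s = 1 → s = 1 := fun s hs e => by
    have h2 : s ∈ (T : Subgroup C) ⊓ oddCore C := ⟨hs, (QuotientGroup.eq_one_iff s).1 e⟩
    have hcop : (Nat.card (T : Subgroup C)).Coprime (Nat.card (oddCore C)) := by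
      obtain ⟨k, hk⟩ := T.2.exists_card_eq
      rw [hk]
      exact Nat.Coprime.pow_left k (Nat.coprime_two_left.2 ZStar.odd_card_oddCore)
    rwa [(disjoint_iff.1 (disjoint_of_coprime_natCard hcop)), mem_bot] at h2
  let cQ := cC.push π (T.mapSurjective hπ : Subgroup (C ⧸ oddCore C)) (Sylow.coe_mapSurjective hπ T).symm hinj
  have hzC : z ∈ C := hSC (c.Z_le hz)
  have hzZ : (⟨z, hzC⟩ : C) ∈ cC.Z := (c.mem_pull_Z _ _ _ _).2 hz
  have hN : ((T.mapSurjective hπ : Subgroup (C ⧸ oddCore C))).Normal := by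
    refine sylow_normal_of_central cQ (z := π ⟨z, hzC⟩) ?_ (fun e => h1 ?_) ?_
      Core.pPrimeCore_quotient_eq_bot
    · rw [cC.push_Z]; exact ⟨_, hzZ, rfl⟩
    · exact congrArg Subtype.val (hinj _ (cC.Z_le hzZ) e)
    · refine mem_center_iff.2 fun q => ?_
      obtain ⟨m, rfl⟩ := hπ q
      rw [← map_mul, ← map_mul]
      exact congrArg π (Subtype.ext (mem_centralizer_singleton_iff.1 m.2))
  have hgC : g ∈ C := mem_centralizer_singleton_iff.2 hg.eq
  have hM : ((T : Subgroup C) ⊔ oddCore C).Normal := by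
    have e : (T : Subgroup C) ⊔ oddCore C = (T.mapSurjective hπ : Subgroup (C ⧸ oddCore C)).comap π := by
      rw [Sylow.coe_mapSurjective, comap_map_eq, QuotientGroup.ker_mk']
    rw [e]
    exact hN.comap π
  haveI := hM
  have htop := Sylow.normalizer_sup_eq_top'
    (N := (T : Subgroup C) ⊔ oddCore C) T le_sup_left
  have hmem : (⟨g, hgC⟩ : C) ∈ oddCore C ⊔ normalizer ((T : Subgroup C) : Set C) := by
    have hle : normalizer ((T : Subgroup C) : Set C) ⊔ ((T : Subgroup C) ⊔ oddCore C) ≤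
        oddCore C ⊔ normalizer ((T : Subgroup C) : Set C) :=
      sup_le le_sup_right (sup_le (le_normalizer.trans le_sup_right) le_sup_left)
    exact hle (htop ▸ mem_top _)
  obtain ⟨o, ho, n, hn, e⟩ := mem_sup_of_normal_left.1 hmem
  refine ⟨o, ⟨o, ho, rfl⟩, n, mem_norm_of_conj_mem fun s hs => ?_,
    mem_centralizer_singleton_iff.1 n.2, congrArg Subtype.val e.symm⟩
  have := conj_mem_of_norm hn (show (⟨s, hSC hs⟩ : C) ∈ (T : Subgroup C) from by
    rw [Sylow.coe_subtype, mem_subgroupOf]; exact hs)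
  rwa [Sylow.coe_subtype, mem_subgroupOf] at this

end Crd

end Cfsg.Lib.Syl34
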