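import Cfsg.Agent.Lib.Syl34.Th
import Cfsg.Agent.Lib.Syl34.CentZ
import Cfsg.Agent.Lib.Coprime.Generation
import Cfsg.Agent.Lib.Invol.Embedded
import Cfsg.Agent.Lib.Invol.OrderFormula
import Cfsg.Agent.Lib.Invol.SylowTools
import Cfsg.Agent.S0217
import Cfsg.Agent.S1225

/-!
# The subgroup generated by the signalizers of `Z`
-/

set_option autoImplicit false
set_option linter.style.haveILetI false
set_option linter.unusedSectionVars false

namespace Cfsg.Lib.Syl34

open Subgroup Cfsg Cfsg.Lib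

universe u

variable {G : Type u} [Group G] [Finite G] {F : Type*} [Field F] [Fintype F]

/-- A strongly embedded subgroup makes all involutions conjugate. -/
theorem isConj_of_stronglyEmbedded {H : Subgroup G} (hH : IsStronglyEmbedded H) {s t : G}
    (hs : orderOf s = 2) (ht : orderOf t = 2) : IsConj s t := by
  have heven := hH.2.1
  obtain ⟨⟨r, hr⟩, hr2⟩ := exists_prime_orderOf_dvd_card' (G := H) 2 (even_iff_two_dvd.1 heven)
  rw [Subgroup.orderOf_mk] at hr2
  obtain ⟨u, hu, huH⟩ : ∃ u : G, orderOf u = 2 ∧ u ∉ H := by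
    by_contra hall
    push Not at hall
    obtain ⟨g, -, hg⟩ := SetLike.not_le_iff_exists.1 fun h => hH.1 (top_unique h)
    exact hg ((Invol.stronglyEmbedded_iff hH.1 heven).1 hH r hr hr2 g
      (hall _ (by rw [Invol.orderOf_conj_eq, hr2])))
  exact (Cfsg.Agent.S1225.result H hH u hu huH r r hr2 hr hr2 hr).2 s t hs ht

namespace Crd

variable {S : Sylow 2 G} (c : Crd (S : Subgroup G) F)

/-- Balance at every involution of `A`. -/
def Bal : Prop := ∀ x ∈ c.A, x ≠ 1 → ∀ R : Subgroup G, Odd (Nat.card R) →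
  R ≤ centralizer ({x} : Set G) → c.A ≤ normalizer (R : Set G) → R ≤ th x

/-- The subgroup generated by the signalizers of the involutions of `Z`. -/
noncomputable def wZ : Subgroup G := ⨆ z : {z : G // z ∈ c.Z ∧ z ≠ 1}, th (z : G)

theorem swap_wZ : c.swap.wZ = c.wZ := by
  unfold wZ
  rw [c.swap_Z]

theorem le_wZ {z : G} (hz : z ∈ c.Z) (h1 : z ≠ 1) : th z ≤ c.wZ :=
  le_iSup_of_le (⟨z, hz, h1⟩ : {z : G // z ∈ c.Z ∧ z ≠ 1}) le_rfl

/-- An odd subgroup normalised by `A` lies in `wZ`. -/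
theorem le_wZ_of_norm_A {R : Subgroup G} (hodd : Odd (Nat.card R)) (hAR : c.A ≤ normalizer (R : Set G)) :
    R ≤ c.wZ := by
  have hZR : c.Z ≤ normalizer (R : Set G) := c.Z_le_A.trans hAR
  haveI : IsMulCommutative c.Z := ⟨⟨fun a b => Subtype.ext (c.commute_Z a.2 (c.Z_le b.2)).eq⟩⟩
  have hnc : ¬ IsCyclic c.Z := fun hc => by
    obtain ⟨g, hg⟩ := hc.exists_generator
    have h4 := orderOf_eq_card_of_forall_mem_zpowers hg
    have hle := orderOf_le_of_pow_eq_one (x := g) (n := 2) two_pos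
      (Subtype.ext (by rw [SubgroupClass.coe_pow, pow_two]; exact c.sq_Z g.2))
    rw [c.card_Z] at h4
    omega
  have hcop : (Nat.card c.Z).Coprime (Nat.card R) := by
    rw [c.card_Z, show (4 : ℕ) = 2 ^ 2 from rfl]
    exact (Nat.coprime_two_left.2 hodd).pow_left 2
  refine (Coprime.le_iSup_centralizer_of_not_isCyclic hnc hZR hcop).trans (iSup_le ?_)
  rintro ⟨z, hz, h1⟩
  refine le_trans ?_ (c.le_wZ hz h1)
  refine c.le_th_of_norm_A hz h1 (hodd.of_dvd_nat (card_dvd_of_le inf_le_left)) inf_le_right fun x hx => ?_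
  refine mem_norm_of_conj_mem fun r hr => Subgroup.mem_inf.2
    ⟨conj_mem_of_norm (hAR hx) (Subgroup.mem_inf.1 hr).1, mem_centralizer_singleton_iff.2 ?_⟩
  have h := (Commute.conj_iff x).2
    (show Commute r z from mem_centralizer_singleton_iff.1 (Subgroup.mem_inf.1 hr).2)
  rw [(c.commute_A hx hz.1).eq, mul_inv_cancel_right] at h
  exact h.eq

theorem A_le_norm_th {x : G} (hx : x ∈ c.A) : c.A ≤ normalizer (th x : Set G) := fun y hy =>
  cent_le_norm_th x (mem_centralizer_singleton_iff.2 (c.commute_A hy hx).eq)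

theorem th_le_wZ {x : G} (hx : x ∈ c.A) : th x ≤ c.wZ := c.le_wZ_of_norm_A (odd_th x) (c.A_le_norm_th hx)

variable {c}

theorem Bal.odd_wZ (hA : c.Bal) : Odd (Nat.card c.wZ) := by
  haveI : Fact (Nat.Prime 2) := ⟨Nat.prime_two⟩
  have hnd : ∀ x : G, ¬ 2 ∣ Nat.card (th x) := fun x h =>
    Nat.not_even_iff_odd.2 (odd_th x) (even_iff_two_dvd.2 h)
  have h := (Cfsg.Agent.S0217.result (p := 2) c.A (fun a ha b hb => (c.commute_A ha hb).eq)
    (fun a ha => by rw [pow_two]; exact c.sq_A ha) (by rw [c.card_A]; norm_num) th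
    (fun a _ _ => th_le a) (fun a _ _ => hnd a)
    (fun a ha _ b hb x hx => conj_mem_of_norm (c.A_le_norm_th ha hb) hx)
    (fun a _ _ => solvable_th a) (fun a ha _ b hb hb1 => by
      refine hA b hb hb1 _ ((odd_th a).of_dvd_nat (card_dvd_of_le inf_le_left)) inf_le_right fun y hy => ?_
      refine mem_norm_of_conj_mem fun r hr => Subgroup.mem_inf.2
        ⟨conj_mem_of_norm (c.A_le_norm_th ha hy) (Subgroup.mem_inf.1 hr).1,
          mem_centralizer_singleton_iff.2 ?_⟩
      have h := (Commute.conj_iff y).2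
        (show Commute r b from mem_centralizer_singleton_iff.1 (Subgroup.mem_inf.1 hr).2)
      rw [(c.commute_A hy hb).eq, mul_inv_cancel_right] at h
      exact h.eq)).1
  have hle : c.wZ ≤ ⨆ a : {a : G // a ∈ c.A ∧ a ≠ 1}, th (a : G) :=
    iSup_le fun z => le_iSup_of_le (⟨z, z.2.1.1, z.2.2⟩ : {a : G // a ∈ c.A ∧ a ≠ 1}) le_rfl
  exact (Nat.not_even_iff_odd.1 fun he => h (even_iff_two_dvd.1 he)).of_dvd_nat (card_dvd_of_le hle)

variable (c)

theorem normA_le_norm_wZ : normalizer (c.A : Set G) ≤ normalizer (c.wZ : Set G) := fun g hg => by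
  refine mem_norm_of_conj_mem fun w hw => ?_
  suffices c.wZ ≤ c.wZ.comap (MulAut.conj g).toMonoidHom from this hw
  refine iSup_le fun z x hx => ?_
  exact c.th_le_wZ (conj_mem_of_norm hg z.2.1.1) (th_conj g z hx)

theorem normB_le_norm_wZ : normalizer (c.B : Set G) ≤ normalizer (c.wZ : Set G) := by
  have := c.swap.normA_le_norm_wZ
  rwa [c.swap_A, c.swap_wZ] at this

theorem cent_le_norm_wZ {z : G} (hz : z ∈ c.Z) (h1 : z ≠ 1) :
    centralizer ({z} : Set G) ≤ normalizer (c.wZ : Set G) := fun g hg => by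
  obtain ⟨o, ho, n, hn, -, rfl⟩ := c.exists_core_mul_normS hz h1 (mem_centralizer_singleton_iff.1 hg)
  exact mul_mem (le_normalizer (c.le_wZ hz h1 ho)) (c.normA_le_norm_wZ (c.normS_le_norm_A hn))

/-- With the local conditions the normaliser of a nontrivial `wZ` is strongly embedded. -/
theorem stronglyEmbedded_wZ (hodd : Odd (Nat.card c.wZ)) (hne : c.wZ ≠ ⊥) (hO : oddCore G = ⊥)
    (hcent : ∀ x ∈ (S : Subgroup G), orderOf x = 2 → centralizer ({x} : Set G) ≤ normalizer (c.wZ : Set G))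
    (hfus : ∀ x ∈ (S : Subgroup G), orderOf x = 2 → ∀ g, g * x * g⁻¹ ∈ (S : Subgroup G) →
      ∃ h ∈ normalizer (c.wZ : Set G), h * x * h⁻¹ = g * x * g⁻¹) :
    IsStronglyEmbedded (normalizer (c.wZ : Set G)) := by
  haveI : Fact (Nat.Prime 2) := ⟨Nat.prime_two⟩
  set H := normalizer (c.wZ : Set G) with hH
  have hSH : (S : Subgroup G) ≤ H := fun s hs => c.normA_le_norm_wZ (c.S_le_norm_A hs)
  have htop : H ≠ ⊤ := fun e => hne (le_bot_iff.1 (hO ▸ ZStar.le_oddCore (normalizer_eq_top_iff.1 e) hodd))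
  have heven : Even (Nat.card H) := by
    refine even_iff_two_dvd.2 ?_
    refine dvd_trans ?_ (card_dvd_of_le hSH)
    rw [c.card_S]; norm_num
  have hinto : ∀ t ∈ H, orderOf t = 2 → ∃ m ∈ H, m * t * m⁻¹ ∈ (S : Subgroup G) := by
    intro t ht ht2
    obtain ⟨m, hm, P, hP, hSP, htP⟩ := Invol.exists_common_pGroup (p := 2) H hSH (zpowers_le.2 ht) S.2
      (IsPGroup.of_card (n := 1) (by rw [Nat.card_zpowers, ht2, pow_one]))
    exact ⟨m, hm, sylow_eq_of_le hP hSP (htP t (mem_zpowers t))⟩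
  refine (Invol.stronglyEmbedded_iff htop heven).2 fun t ht ht2 g hg => ?_
  obtain ⟨m, hm, hmt⟩ := hinto t ht ht2
  obtain ⟨m', hm', hmg⟩ := hinto _ hg (by rw [Invol.orderOf_conj_eq, ht2])
  set x := m * t * m⁻¹ with hx
  have hx2 : orderOf x = 2 := by rw [hx, Invol.orderOf_conj_eq, ht2]
  set k := m' * g * m⁻¹ with hk
  have hkx : k * x * k⁻¹ = m' * (g * t * g⁻¹) * m'⁻¹ := by simp only [hk, hx]; group
  obtain ⟨h, hh, e⟩ := hfus x hmt hx2 k (hkx ▸ hmg)
  have hc : h⁻¹ * k ∈ centralizer ({x} : Set G) := Invol.coset_iff_conj.2 e.symm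
  have hkH : k ∈ H := by simpa using mul_mem hh (hcent x hmt hx2 hc)
  rw [show g = m'⁻¹ * k * m by simp only [hk]; group]
  exact mul_mem (mul_mem (inv_mem hm') hkH) hm

end Crd

end Cfsg.Lib.Syl34
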