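import Cfsg.Agent.Lib.Syl34.CentZ
import Cfsg.Agent.Lib.FTCons.CoreClosure
import Cfsg.Agent.Lib.StrongEmb.Core
import Cfsg.Agent.S0205

/-!
# The signalizer `O(C(u))` and its behaviour at the centre
-/

set_option autoImplicit false
set_option linter.style.haveILetI false
set_option linter.unusedSectionVars false

namespace Cfsg.Lib.Syl34

open Subgroup Cfsg Cfsg.Lib

universe u

variable {G : Type u} [Group G] [Finite G]

/-- The signalizer `O(C(t))`. -/
abbrev th (t : G) : Subgroup G := centralizerPPrimeCore 2 t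

theorem th_le (t : G) : th t ≤ centralizer ({t} : Set G) := map_subtype_le _

theorem commute_of_mem_th {t c : G} (hc : c ∈ th t) : Commute c t :=
  mem_centralizer_singleton_iff.1 (th_le t hc)

theorem odd_th (t : G) : Odd (Nat.card (th t)) := by
  haveI : Fact (Nat.Prime 2) := ⟨Nat.prime_two⟩
  show Odd (Nat.card ↥((pPrimeCore 2 _).map _))
  rw [card_map_of_injective (centralizer ({t} : Set G)).subtype_injective, ← Nat.not_even_iff_odd,
    even_iff_two_dvd]
  exact Core.pPrimeCore_not_dvd 2 _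

theorem odd_of_mem_th {t c : G} (hc : c ∈ th t) : Odd (orderOf c) :=
  (odd_th t).of_dvd_nat (Subgroup.orderOf_dvd_natCard _ hc)

theorem solvable_th (t : G) : Group.IsSolvable (th t) := Cfsg.Agent.S0205.result (odd_th t)

theorem cent_le_norm_th (t : G) : centralizer ({t} : Set G) ≤ normalizer (th t : Set G) := fun g hg =>
  mem_norm_of_conj_mem fun c hc => by
    obtain ⟨y, hy, rfl⟩ := hc
    exact ⟨⟨g, hg⟩ * y * ⟨g, hg⟩⁻¹, (pPrimeCore_normal 2 _).conj_mem y hy ⟨g, hg⟩, rfl⟩

theorem th_conj (g t : G) {c : G} (hc : c ∈ th t) : g * c * g⁻¹ ∈ th (g * t * g⁻¹) :=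
  FTCons.centralizerPPrimeCore_map_conj 2 g t ⟨c, hc, rfl⟩

theorem th_conj_iff (g t : G) {c : G} : g * c * g⁻¹ ∈ th (g * t * g⁻¹) ↔ c ∈ th t := by
  refine ⟨fun h => ?_, th_conj g t⟩
  have := th_conj g⁻¹ _ h
  rwa [show g⁻¹ * (g * t * g⁻¹) * g⁻¹⁻¹ = t by group, show g⁻¹ * (g * c * g⁻¹) * g⁻¹⁻¹ = c by group] at this

/-- An odd subgroup of `C(t)` normalised by `C(t)` lies in the signalizer. -/
theorem le_th {t : G} {R : Subgroup G} (hR : R ≤ centralizer ({t} : Set G))
    (hn : centralizer ({t} : Set G) ≤ normalizer (R : Set G)) (hodd : Odd (Nat.card R)) : R ≤ th t := by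
  haveI : Fact (Nat.Prime 2) := ⟨Nat.prime_two⟩
  intro r hr
  refine ⟨⟨r, hR hr⟩, Core.le_pPrimeCore' (N := R.subgroupOf _)
    ((normal_subgroupOf_iff_le_normalizer hR).2 hn) ?_ hr, rfl⟩
  rw [Nat.card_congr (subgroupOfEquivOfLe hR).toEquiv]
  exact hodd.coprime_two_right

/-- An element of odd order with a power of two in a subgroup lies in it. -/
theorem mem_of_pow_two {R : Subgroup G} {r : G} (hr : Odd (orderOf r)) {k : ℕ} (h : r ^ 2 ^ k ∈ R) :
    r ∈ R := by
  obtain ⟨m, hm⟩ := exists_pow_eq_self_of_coprime (x := r) (n := 2 ^ k)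
    (Nat.Coprime.pow_left k hr.coprime_two_left)
  exact hm ▸ pow_mem h m

/-- An element of odd order squaring to one is trivial. -/
theorem eq_one_of_odd_of_sq {x : G} (hodd : Odd (orderOf x)) (h2 : x * x = 1) : x = 1 :=
  orderOf_eq_one_iff.1 (Nat.Coprime.eq_one_of_dvd hodd.coprime_two_right
    (orderOf_dvd_of_pow_eq_one (by rw [pow_two]; exact h2)))

namespace Crd

variable {F : Type*} [Field F] [Fintype F] {S : Sylow 2 G} (c : Crd (S : Subgroup G) F)

theorem cent_S_le_normS : centralizer ((S : Subgroup G) : Set G) ≤ normalizer ((S : Subgroup G) : Set G) :=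
  centralizer_le_normalizer _

/-- An element of odd order centralising `S` lies in the signalizer of each involution of `Z`. -/
theorem mem_th_of_cent_S {z : G} (hz : z ∈ c.Z) (h1 : z ≠ 1) {x : G}
    (hx : x ∈ centralizer ((S : Subgroup G) : Set G)) (hodd : Odd (orderOf x)) : x ∈ th z := by
  haveI : Fact (Nat.Prime 2) := ⟨Nat.prime_two⟩
  set CS := centralizer ((S : Subgroup G) : Set G)
  -- the odd core of `C(S)`
  set D := (oddCore CS).map CS.subtype
  have hxD : x ∈ D := by
    have hZCS : c.Z ≤ CS := fun w hw => mem_centralizer_iff.2 fun s hs => (c.commute_Z hw hs).eq.symm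
    refine ⟨⟨x, hx⟩, ?_, rfl⟩
    haveI hn : ((c.Z).subgroupOf CS).Normal := ⟨fun w hw g => by
      have hc : (g : G) * w * (g : G)⁻¹ = w := by
        rw [← ((mem_centralizer_iff.1 g.2) (w : G) (c.Z_le hw)), mul_inv_cancel_right]
      show (g : G) * w * (g : G)⁻¹ ∈ c.Z
      rwa [hc]⟩
    obtain ⟨T, hT⟩ := ((IsPGroup.to_le S.2 c.Z_le).comap_subtype (K := CS)).exists_le_sylow
    have hTe : (T : Subgroup CS) = c.Z.subgroupOf CS := by
      refine le_antisymm (fun t ht => ?_) hT
      have hS' : ((t : G)) ∈ (S : Subgroup G) := by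
        have hp := (T.2.map CS.subtype).to_sup_of_normal_right' S.2
          ((map_subtype_le _).trans (cent_S_le_normS (S := S)))
        exact (S.3 hp le_sup_right) ▸ le_sup_left (a := (T : Subgroup CS).map CS.subtype) ⟨t, ht, rfl⟩
      exact c.mem_Z_of_central hS' fun s hs => ((mem_centralizer_iff.1 t.2) s hs).symm
    have hnc : normalizer ((T : Subgroup CS) : Set CS) ≤ centralizer ((T : Subgroup CS) : Set CS) := by
      intro g _
      rw [hTe, mem_centralizer_iff]
      exact fun w hw => Subtype.ext ((mem_centralizer_iff.1 g.2) (w : G) (c.Z_le hw))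
    obtain ⟨Q, N, hN, hc⟩ := Fusion.hasNormalPComplement_of_normalizer_le_centralizer T hnc
    haveI := hN
    have hNodd : (Nat.card N).Coprime 2 := Fusion.coprime_card_of_complement hc
    refine Core.le_pPrimeCore' hN hNodd ?_
    rw [Fusion.eq_pResidual_of_complement hc]
    exact Fusion.mem_pResidual_of_coprime (by rw [Subgroup.orderOf_mk]; exact hodd.coprime_two_right)
  have hDodd : Odd (Nat.card D) := by
    rw [card_map_of_injective CS.subtype_injective]; exact ZStar.odd_card_oddCore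
  have hDC : D ≤ centralizer ({z} : Set G) := fun d hd => mem_centralizer_singleton_iff.2
    ((mem_centralizer_iff.1 (map_subtype_le _ hd)) z (c.Z_le hz)).symm
  -- `th z ⊔ D` is an odd normal subgroup of the centraliser
  have hDn : normalizer ((S : Subgroup G) : Set G) ≤ normalizer (D : Set G) := by
    refine fun n hn => StrongEmb.normalizer_le_map_char CS _ (mem_norm_of_conj_mem fun y hy => ?_)
    refine mem_centralizer_iff.2 fun s hs => ?_
    have hs' := conj_mem_of_norm (inv_mem hn) hs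
    calc s * (n * y * n⁻¹) = n * ((n⁻¹ * s * n⁻¹⁻¹) * y) * n⁻¹ := by group
      _ = n * (y * (n⁻¹ * s * n⁻¹⁻¹)) * n⁻¹ := by rw [(mem_centralizer_iff.1 hy) _ hs']
      _ = n * y * n⁻¹ * s := by group
  set R := th z ⊔ D
  have hRC : R ≤ centralizer ({z} : Set G) := sup_le (th_le z) hDC
  have hDth : D ≤ normalizer (th z : Set G) := hDC.trans (cent_le_norm_th z)
  have hRodd : Odd (Nat.card R) := by
    refine ((odd_th z).mul hDodd).of_dvd_nat ?_
    haveI : ((th z).subgroupOf R).Normal := (normal_subgroupOf_iff_le_normalizer le_sup_left).2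
      (sup_le le_normalizer hDth)
    have h := Core.card_sup_dvd_mul (D.subgroupOf R) ((th z).subgroupOf R)
    rw [← subgroupOf_sup le_sup_right le_sup_left, sup_comm D (th z),
      Nat.card_congr (subgroupOfEquivOfLe (le_refl R)).toEquiv,
      Nat.card_congr (subgroupOfEquivOfLe (le_sup_right : D ≤ R)).toEquiv,
      Nat.card_congr (subgroupOfEquivOfLe (le_sup_left : th z ≤ R)).toEquiv, mul_comm] at h
    exact h
  have hRn : centralizer ({z} : Set G) ≤ normalizer (R : Set G) := by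
    intro g hg
    obtain ⟨o, ho, n, hn, hnz, rfl⟩ := c.exists_core_mul_normS hz h1 (mem_centralizer_singleton_iff.1 hg)
    have hoR : o ∈ normalizer (R : Set G) := le_normalizer (le_sup_left (b := D) ho)
    refine mul_mem hoR (mem_normalizer_iff_map_conj_eq.2 ?_)
    show (th z ⊔ D).map (MulAut.conj n).toMonoidHom = th z ⊔ D
    rw [Subgroup.map_sup,
      Coprime.map_conj_eq_self (cent_le_norm_th z (mem_centralizer_singleton_iff.2 hnz.eq)),
      Coprime.map_conj_eq_self (hDn hn)]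
  exact le_th hRC hRn hRodd (le_sup_right (a := th z) hxD)

/-- An odd subgroup of the centraliser of an involution of `Z` normalised by `A` lies in the signalizer. -/
theorem le_th_of_norm_A {z : G} (hz : z ∈ c.Z) (h1 : z ≠ 1) {R : Subgroup G}
    (hodd : Odd (Nat.card R)) (hR : R ≤ centralizer ({z} : Set G))
    (hA : c.A ≤ normalizer (R : Set G)) : R ≤ th z := by
  haveI : Fact (Nat.Prime 2) := ⟨Nat.prime_two⟩
  intro r hr
  have hrodd := hodd.of_dvd_nat (Subgroup.orderOf_dvd_natCard R hr)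
  obtain ⟨o, ho, n, hn, hnz, hron⟩ := c.exists_core_mul_normS hz h1 (mem_centralizer_singleton_iff.1 (hR hr))
  have hnA : ∀ a ∈ c.A, n * a * n⁻¹ = a := by
    intro a ha
    set b := n * a * n⁻¹ * a⁻¹ with hb
    have hbA : b ∈ c.A := mul_mem (conj_mem_of_norm (c.normS_le_norm_A hn) ha) (inv_mem ha)
    set q := r * a * r⁻¹ * a⁻¹ with hq
    have hqR : q ∈ R := by
      rw [hq, show r * a * r⁻¹ * a⁻¹ = r * (a * r⁻¹ * a⁻¹) by group]
      exact mul_mem hr (conj_mem_of_norm (hA ha) (inv_mem hr))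
    -- `q` and `b` agree modulo the signalizer
    have hAC : ∀ {x : G}, x ∈ c.A → x ∈ normalizer (th z : Set G) := fun hx =>
      cent_le_norm_th z (mem_centralizer_singleton_iff.2 (c.commute_A hx hz.1).eq)
    have hqb : q * b⁻¹ ∈ th z := by
      have hnn : n * a * n⁻¹ ∈ normalizer (th z : Set G) :=
        hAC (conj_mem_of_norm (c.normS_le_norm_A hn) ha)
      have : q * b⁻¹ = o * ((n * a * n⁻¹) * o⁻¹ * (n * a * n⁻¹)⁻¹) := by rw [hq, hb, hron]; group
      rw [this]
      exact mul_mem ho (conj_mem_of_norm hnn (inv_mem ho))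
    have hq1 : Odd (orderOf q) := hodd.of_dvd_nat (Subgroup.orderOf_dvd_natCard R hqR)
    -- `q² ≡ b² = 1`, so `q` lies in the signalizer
    have hq2 : q ^ 2 ^ 1 ∈ th z := by
      have e : q ^ 2 ^ 1 = (q * b⁻¹) * (b * (q * b⁻¹) * b⁻¹) * (b * b) := by rw [pow_one, pow_two]; group
      rw [e, c.sq_A hbA, mul_one]
      exact mul_mem hqb (conj_mem_of_norm (hAC hbA) hqb)
    have hbth : b ∈ th z := by
      have := mul_mem (inv_mem hqb) (mem_of_pow_two hq1 hq2)
      rwa [mul_inv_rev, inv_inv, inv_mul_cancel_right] at this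
    have hb1 : b = 1 := by
      by_contra hne
      have h2 : orderOf b = 2 := orderOf_eq_prime (by rw [pow_two]; exact c.sq_A hbA) hne
      have := odd_of_mem_th hbth
      rw [h2] at this
      exact absurd this (by decide)
    exact mul_inv_eq_one.1 hb1
  obtain ⟨α, β, -, -, hs, hw⟩ := c.exists_scal hn
  have hβ : β = 1 := by
    have := (hs _ (c.pt_mem_A 1 0).1).2
    rw [hnA _ (c.pt_mem_A 1 0), Y_pt, mul_one] at this
    exact this.symm
  have hα : α = 1 := by
    have := hw _ (c.pt_mem_Z 1)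
    rw [hnA _ (c.pt_mem_Z 1).1, W_pt, hβ, mul_one, mul_one] at this
    exact this.symm
  -- the square of `n` centralises `S`
  have hn2 : n * n ∈ centralizer ((S : Subgroup G) : Set G) := by
    refine mem_centralizer_iff.2 fun s hs' => ?_
    obtain ⟨a, ha, b, hb, rfl⟩ := c.exists_mul_eq hs'
    have hnb := conj_mem_of_norm (c.normS_le_norm_B hn) hb
    set w := n * b * n⁻¹ * b⁻¹ with hw'
    have hwZ : w ∈ c.Z := c.mem_Z.2 ⟨mul_mem hnb.1 (inv_mem hb.1),
      by rw [c.X_mul hnb.1 (inv_mem hb.1), c.X_inv hb.1, (hs _ hb.1).1, hα, one_mul]; exact field_two c.hF _,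
      by rw [c.Y_mul hnb.1 (inv_mem hb.1), c.Y_inv hb.1, hnb.2, hb.2, add_zero]⟩
    have hb2 : n * n * b * (n * n)⁻¹ = b := by
      have e1 : n * b * n⁻¹ = w * b := by rw [hw', inv_mul_cancel_right]
      rw [conj_conj, e1, show n * (w * b) * n⁻¹ = n * w * n⁻¹ * (n * b * n⁻¹) by group, hnA w hwZ.1, e1,
        ← mul_assoc, c.sq_Z hwZ, one_mul]
    have ha2 : n * n * a * (n * n)⁻¹ = a := by rw [conj_conj, hnA a ha, hnA a ha]
    refine (mul_inv_eq_iff_eq_mul.1 ?_).symm
    rw [show n * n * (a * b) * (n * n)⁻¹ = n * n * a * (n * n)⁻¹ * (n * n * b * (n * n)⁻¹) by group, ha2, hb2]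
  obtain ⟨i, e, he, hie⟩ := Nat.exists_eq_two_pow_mul_odd (n := orderOf (n * n)) (orderOf_pos _).ne'
  have hodd' : Odd (orderOf ((n * n) ^ 2 ^ i)) := by
    rw [orderOf_pow_of_dvd (pow_ne_zero _ two_ne_zero) (hie ▸ Dvd.intro e rfl), hie,
      Nat.mul_div_cancel_left _ (pow_pos two_pos i)]
    exact he
  have hth := c.mem_th_of_cent_S hz h1 (pow_mem hn2 _) hodd'
  refine mem_of_pow_two hrodd (k := i + 1) ?_
  -- compute modulo the signalizer
  set C := centralizer ({z} : Set G)
  set π := QuotientGroup.mk' (oddCore C)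
  have hrC : r ∈ C := hR hr
  have hnC : n ∈ C := mem_centralizer_singleton_iff.2 hnz.eq
  obtain ⟨o', ho', eo⟩ := ho
  have e1 : (⟨r, hrC⟩ : C) = o' * ⟨n, hnC⟩ := Subtype.ext (hron.trans (by rw [← eo]; rfl))
  have e2 : π (⟨r, hrC⟩ ^ 2 ^ (i + 1)) = π ((⟨n, hnC⟩ * ⟨n, hnC⟩) ^ 2 ^ i) := by
    rw [map_pow, map_pow, e1, map_mul, show π o' = 1 from (QuotientGroup.eq_one_iff _).2 ho', one_mul,
      map_mul, ← pow_two, ← pow_mul, ← pow_succ']
  obtain ⟨y, hy, ey⟩ := hth
  have e3 : π ((⟨n, hnC⟩ * ⟨n, hnC⟩) ^ 2 ^ i) = 1 := by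
    refine (QuotientGroup.eq_one_iff _).2 ?_
    have : (⟨n, hnC⟩ * ⟨n, hnC⟩) ^ 2 ^ i = y := Subtype.ext (by simpa using ey.symm)
    rwa [this]
  exact ⟨_, (QuotientGroup.eq_one_iff _).1 (e2.trans e3), rfl⟩

end Crd

end Cfsg.Lib.Syl34
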