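import Cfsg.Agent.Lib.Linear.AutPSL.Out
import Cfsg.Agent.S0813
import Cfsg.Prelude.Def_Transfer

/-!
Groups that embed in `PGL₃(4)`: odd extensions of `PSL₃(4)`, and affine groups `16 : X` with `X` centralising
a fixed point free automorphism of order three.
-/

set_option autoImplicit false
set_option linter.style.haveILetI false
set_option linter.unusedSectionVars false

namespace Cfsg.Lib.Syl34

open Subgroup Cfsg Matrix
open Cfsg.Lib.Linear.AutPSL

section Aut

variable {n : ℕ} {F : Type*} [Field F] [Fintype F]

/-- The inner-diagonal automorphisms are normal. -/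
theorem innd_range_normal (p f : ℕ) [Fact p.Prime] (hf : 1 ≤ f) (hF : Fintype.card F = p ^ f) (hn : 2 ≤ n) :
    (innd : GL (Fin n) F →* MulAut (ProjectiveSpecialLinearGroup (Fin n) F)).range.Normal := by
  haveI := charP_of_card hf hF
  set R := (innd : GL (Fin n) F →* MulAut (ProjectiveSpecialLinearGroup (Fin n) F)).range
  have hI : ∀ g : GL (Fin n) F, ∀ y ∈ R, innd g * y * (innd g)⁻¹ ∈ R := fun g y hy =>
    R.mul_mem (R.mul_mem ⟨g, rfl⟩ hy) (R.inv_mem ⟨g, rfl⟩)
  have hS : ∀ σ : F ≃+* F, ∀ y ∈ R, fld σ * y * (fld σ)⁻¹ ∈ R := by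
    rintro σ _ ⟨g, rfl⟩
    exact ⟨GeneralLinearGroup.map σ.toRingHom g, by rw [fld_mul_innd, mul_inv_cancel_right]⟩
  have hG : ∀ y ∈ R, gr * y * (gr : MulAut (ProjectiveSpecialLinearGroup (Fin n) F))⁻¹ ∈ R := by
    rintro _ ⟨g, rfl⟩
    exact ⟨dual g, by rw [gr_mul_innd, mul_inv_cancel_right]⟩
  refine ⟨fun y hy β => ?_⟩
  obtain ⟨g, σ, h | h⟩ := exists_decomp (p := p) hn β
  · subst h
    have := hI g _ (hS σ y hy)
    simpa [mul_assoc] using this
  · subst h
    have := hI g _ (hS σ _ (hG y hy))
    simpa [mul_assoc] using this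

/-- The kernel of the inner-diagonal action is the centre. -/
theorem innd_ker (hn : 2 ≤ n) :
    (innd : GL (Fin n) F →* MulAut (ProjectiveSpecialLinearGroup (Fin n) F)).ker =
      Subgroup.center (GL (Fin n) F) := by
  classical
  haveI : Nontrivial (Fin n) := Fin.nontrivial_iff_two_le.2 hn
  ext g
  rw [MonoidHom.mem_ker]
  refine ⟨fun h => ?_, fun h => innd_scalar ?_⟩
  · obtain ⟨r, hr⟩ := innd_eq_one h
    refine Subgroup.mem_center_iff.2 fun x => Units.ext ?_
    rw [Units.val_mul, Units.val_mul, ← hr]
    exact (Matrix.scalar_commute r (Commute.all r) x.val).eq.symm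
  · refine Matrix.mem_range_scalar_of_commute_single fun i j hij => ?_
    have hu : IsUnit (1 + Matrix.single i j (1 : F)).det := by
      rw [show (1 + Matrix.single i j (1 : F)) = Matrix.transvection i j 1 from rfl,
        Matrix.det_transvection_of_ne i j hij]
      exact isUnit_one
    have h1 := congrArg Units.val (Subgroup.mem_center_iff.1 h (Matrix.GeneralLinearGroup.mk'' _ hu))
    rw [Units.val_mul, Units.val_mul] at h1
    show Matrix.single i j 1 * g.val = g.val * Matrix.single i j 1
    change (1 + Matrix.single i j (1 : F)) * g.val = g.val * (1 + Matrix.single i j (1 : F)) at h1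
    rw [add_mul, mul_add, one_mul, mul_one, add_right_inj] at h1
    exact h1

end Aut

/-- An odd extension of `PSL₃(4)` with trivial centraliser lies in `PGL₃(4)`. -/
theorem embed_of_psl34 {G : Type*} [Group G] [Finite G] {F : Type*} [Field F] [Fintype F]
    (hF : Fintype.card F = 4) (T : Subgroup G) [T.Normal] (hC : centralizer (T : Set G) = ⊥)
    (e : T ≃* ProjectiveSpecialLinearGroup (Fin 3) F) (hodd : Odd T.index) :
    ∃ f : G →* GL (Fin 3) F ⧸ Subgroup.center (GL (Fin 3) F), Function.Injective f := by
  classical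
  haveI : Fact (Nat.Prime 2) := ⟨Nat.prime_two⟩
  haveI : Nontrivial (Fin 3) := inferInstance
  set R := (innd : GL (Fin 3) F →* MulAut (ProjectiveSpecialLinearGroup (Fin 3) F)).range with hR
  haveI : R.Normal := innd_range_normal 2 2 (by norm_num) (by rw [hF]; norm_num) (by norm_num)
  have hidx : R.index = 4 := by
    have h1 := Cfsg.Agent.S0813.result (F := F) 2 2 (by norm_num) (by rw [hF]; norm_num) 3 (by norm_num)
      (by norm_num)
    have h2 : Nat.card R = Nat.card (ProjGenLinGroup (Fin 3) F) := by
      rw [hR, ← Subgroup.index_ker, innd_ker (by norm_num), Subgroup.index_eq_card]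
      rfl
    have h3 := R.card_mul_index
    rw [h1, h2, if_neg (by norm_num)] at h3
    have h4 : Nat.card R ≠ 0 := Nat.card_pos.ne'
    rw [h2] at h4
    exact Nat.eq_of_mul_eq_mul_left (Nat.pos_of_ne_zero h4) (by rw [h3]; ring)
  let φ : G →* MulAut (ProjectiveSpecialLinearGroup (Fin 3) F) :=
    (MulAut.congr e).toMonoidHom.comp (MulAut.conjNormal (H := T))
  have hφ : Function.Injective φ := by
    refine (injective_iff_map_eq_one _).2 fun x hx => ?_
    have hx' : MulAut.conjNormal (H := T) x = 1 := by
      apply (MulAut.congr e).injective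
      rw [map_one]; exact hx
    have : x ∈ centralizer (T : Set G) := by
      refine mem_centralizer_iff.2 fun a ha => ?_
      have := congrArg Subtype.val (DFunLike.congr_fun hx' ⟨a, ha⟩)
      rw [MulAut.conjNormal_apply, MulAut.one_apply] at this
      exact (mul_inv_eq_iff_eq_mul.1 this).symm
    rwa [hC, mem_bot] at this
  have hTR : ∀ t ∈ T, φ t ∈ R := by
    intro t ht
    obtain ⟨s, hs⟩ := QuotientGroup.mk_surjective (e ⟨t, ht⟩)
    refine ⟨SpecialLinearGroup.toGL s, ?_⟩
    have h1 : φ t = MulAut.conj (e ⟨t, ht⟩) := by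
      refine MulEquiv.ext fun a => ?_
      show e (MulAut.conjNormal t (e.symm a)) = _
      rw [MulAut.conj_apply]
      conv_rhs => rw [← e.apply_symm_apply a, ← map_inv, ← map_mul, ← map_mul]
      exact congrArg e (Subtype.ext (by simp [MulAut.conjNormal_apply]))
    rw [h1, ← hs]
    exact (conj_mk s).symm
  have hle : ∀ x, φ x ∈ R := by
    intro x
    set ψ : G →* MulAut (ProjectiveSpecialLinearGroup (Fin 3) F) ⧸ R := (QuotientGroup.mk' R).comp φ
    have hk : T ≤ ψ.ker := fun t ht => MonoidHom.mem_ker.2 ((QuotientGroup.eq_one_iff _).2 (hTR t ht))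
    have h1 : orderOf (ψ x) ∣ T.index := by
      refine orderOf_dvd_of_pow_eq_one ?_
      rw [← map_pow]
      exact MonoidHom.mem_ker.1 (hk (Subgroup.pow_index_mem T x))
    have h2 : orderOf (ψ x) ∣ 2 ^ 2 := by
      have := orderOf_dvd_natCard (ψ x)
      rwa [← Subgroup.index_eq_card, hidx] at this
    have h3 : orderOf (ψ x) = 1 :=
      Nat.Coprime.eq_one_of_dvd ((Nat.coprime_two_right.2 (hodd.of_dvd_nat h1)).pow_right 2) h2
    exact (QuotientGroup.eq_one_iff _).1 (orderOf_eq_one_iff.1 h3)
  set ek := QuotientGroup.quotientMulEquivOfEq (innd_ker (n := 3) (F := F) (by norm_num))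
  set er := (QuotientGroup.quotientKerEquivRange
    (innd : GL (Fin 3) F →* MulAut (ProjectiveSpecialLinearGroup (Fin 3) F))).symm
  refine ⟨ek.toMonoidHom.comp (er.toMonoidHom.comp (φ.codRestrict R hle)), fun a b hab => hφ ?_⟩
  exact congrArg Subtype.val (er.injective (ek.injective hab))

section Affine

variable {F : Type*} [Field F] [Fintype F]

/-- A root of `X² + X + 1` in the field of four elements, and the list of elements. -/
theorem exists_omega_list (hF : Fintype.card F = 4) :
    (2 : F) = 0 ∧ ∃ w : F, w * w = w + 1 ∧ w ≠ 0 ∧ w ≠ 1 ∧ ∀ x : F, x = 0 ∨ x = 1 ∨ x = w ∨ x = w + 1 := by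
  classical
  haveI : CharP F 2 := by
    haveI : Fact (Nat.Prime 2) := ⟨Nat.prime_two⟩
    exact charP_of_card (p := 2) (f := 2) (by norm_num) (by rw [hF]; norm_num)
  have h2 : (2 : F) = 0 := by exact_mod_cast CharP.cast_eq_zero F 2
  obtain ⟨w, hw⟩ : ∃ w : F, w ∉ ({0, 1} : Finset F) := by
    by_contra h
    push Not at h
    have := Finset.card_le_card (fun x _ => h x : (Finset.univ : Finset F) ⊆ {0, 1})
    rw [Finset.card_univ, hF] at this
    exact absurd (this.trans Finset.card_le_two) (by norm_num)
  simp only [Finset.mem_insert, Finset.mem_singleton, not_or] at hw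
  obtain ⟨hw0, hw1⟩ := hw
  have hw11 : w + 1 ≠ 0 := fun h => hw1 (by linear_combination h - h2)
  have hall : ∀ x : F, x = 0 ∨ x = 1 ∨ x = w ∨ x = w + 1 := by
    have hs : ({0, 1, w, w + 1} : Finset F) = Finset.univ := by
      refine Finset.eq_univ_of_card _ ?_
      rw [hF, Finset.card_eq_of_equiv (Equiv.refl _)]
      have e1 : (0 : F) ≠ 1 := zero_ne_one
      have e2 : (1 : F) ≠ w + 1 := fun h => hw0 (by linear_combination -h)
      have e3 : w ≠ w + 1 := fun h => one_ne_zero (α := F) (by linear_combination -h)
      simp [Finset.card_insert_of_notMem, e1, Ne.symm hw0, Ne.symm hw1, Ne.symm hw11, e2, e3]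
    intro x
    have := Finset.mem_univ x
    rw [← hs] at this
    simpa using this
  refine ⟨h2, w, ?_, hw0, hw1, hall⟩
  rcases hall (w * w) with h | h | h | h
  · exact absurd (mul_self_eq_zero.1 h) hw0
  · rcases mul_self_eq_one_iff.1 h with e | e
    · exact absurd e hw1
    · exact absurd (by linear_combination e - h2) (sub_ne_zero.2 hw1 : w - 1 ≠ 0) 
  · exact absurd (mul_left_cancel₀ hw0 (h.trans (mul_one w).symm)) hw1
  · exact h

/-- The endomorphism ring action of the field of four elements. -/
theorem exists_ringHom (hF : Fintype.card F = 4) {E : Type*} [Ring E] (hE : (2 : E) = 0) (O : E)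
    (hO : O * O = O + 1) : ∃ w : F, ∃ θ : F →+* E, θ w = O ∧ ∀ x : F, x = 0 ∨ x = 1 ∨ x = w ∨ x = w + 1 := by
  classical
  obtain ⟨h2, w, hw, hw0, hw1, hall⟩ := exists_omega_list hF
  have hw11 : w + 1 ≠ 0 := fun h => hw1 (by linear_combination h - h2)
  have e2 : w + 1 ≠ 1 := fun h => hw0 (by linear_combination h)
  have e3 : w + 1 ≠ w := fun h => one_ne_zero (α := F) (by linear_combination h)
  let t : F → E := fun x => if x = 0 then 0 else if x = 1 then 1 else if x = w then O else O + 1
  have t0 : t 0 = 0 := by simp [t]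
  have t1 : t 1 = 1 := by simp [t]
  have tw : t w = O := by simp [t, hw0, hw1]
  have tw1 : t (w + 1) = O + 1 := by simp [t, hw11, e2, e3]
  have f11 : (1 : F) + 1 = 0 := by linear_combination h2
  have fww : w + w = 0 := by linear_combination w * h2
  have g11 : (1 : E) + 1 = 0 := by rw [one_add_one_eq_two]; exact hE
  have gd : ∀ x : E, x + x = 0 := fun x => by rw [← two_mul, hE, zero_mul]
  refine ⟨w, { toFun := t, map_one' := t1, map_zero' := t0, map_add' := fun x y => ?_,
               map_mul' := fun x y => ?_ }, tw, hall⟩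
  · rcases hall x with hx | hx | hx | hx <;> rcases hall y with hy | hy | hy | hy <;> rw [hx, hy]
    all_goals simp only [zero_mul, mul_zero, one_mul, mul_one, t0, t1, tw, tw1]
    all_goals first
      | rfl
      | (rw [hw, tw1, hO])
      | (rw [show w * (w + 1) = 1 by linear_combination hw + w * h2, t1]
         rw [mul_add, mul_one, hO, add_right_comm, gd, zero_add])
      | (rw [show (w + 1) * w = 1 by linear_combination hw + w * h2, t1]
         rw [add_mul, one_mul, hO, add_right_comm, gd, zero_add])
      | (rw [show (w + 1) * (w + 1) = w by linear_combination hw + (w + 1) * h2, tw]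
         rw [add_mul, one_mul, mul_add, mul_one, hO, add_right_comm O 1 O, gd, zero_add, add_left_comm, g11,
           add_zero])
  · rcases hall x with hx | hx | hx | hx <;> rcases hall y with hy | hy | hy | hy <;> rw [hx, hy]
    all_goals simp only [zero_add, add_zero, t0, t1, tw, tw1]
    all_goals first
      | rfl
      | (rw [f11, t0, g11])
      | (rw [fww, t0, gd])
      | (rw [show (1 : F) + w = w + 1 by ring, tw1]; abel)
      | (rw [tw1])
      | (rw [show (1 : F) + (w + 1) = w by linear_combination h2, tw, add_left_comm, g11, add_zero])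
      | (rw [show w + 1 + 1 = w by linear_combination h2, tw, add_assoc, g11, add_zero])
      | (rw [show w + (w + 1) = 1 by linear_combination w * h2, t1, ← add_assoc, gd, zero_add])
      | (rw [show w + 1 + w = 1 by linear_combination w * h2, t1, add_right_comm, gd, zero_add])
      | (rw [show w + 1 + (w + 1) = 0 by linear_combination (w + 1) * h2, t0, gd])

omit [Fintype F] in
/-- The affine matrix. -/
def affMat (M : Matrix (Fin 2) (Fin 2) F) (v : Fin 2 → F) : Matrix (Fin 3) (Fin 3) F :=
  !![M 0 0, M 0 1, v 0; M 1 0, M 1 1, v 1; 0, 0, 1]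

omit [Fintype F] in
theorem affMat_mul (M N : Matrix (Fin 2) (Fin 2) F) (v u : Fin 2 → F) :
    affMat M v * affMat N u = affMat (M * N) (M *ᵥ u + v) := by
  ext i j
  fin_cases i <;> fin_cases j <;>
    simp [affMat, Matrix.mul_apply, Fin.sum_univ_three, Fin.sum_univ_two]

omit [Fintype F] in
theorem affMat_one : affMat (1 : Matrix (Fin 2) (Fin 2) F) 0 = 1 := by
  ext i j
  fin_cases i <;> fin_cases j <;> simp [affMat]

set_option maxHeartbeats 1000000 in
/-- An affine group `16 : X` whose point group centralises a fixed point free automorphism of order three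
lies in `PGL₃(4)`. -/
theorem embed_of_affine {G : Type*} [Group G] [Finite G] {F : Type*} [Field F] [Fintype F]
    (hF : Fintype.card F = 4) (A : Subgroup G) [A.Normal] (hA : Cfsg.IsElementaryAbelian 2 A)
    (hcard : Nat.card A = 16) (hC : centralizer (A : Set G) = A) (K : Subgroup G) (hK : A.IsComplement' K)
    (ω : MulAut A) (hω : orderOf ω = 3) (hfpf : ∀ a, ω a = a → a = 1)
    (hcomm : ∀ g : G, Commute ω (MulAut.conjNormal g)) :
    ∃ f : G →* GL (Fin 3) F ⧸ Subgroup.center (GL (Fin 3) F), Function.Injective f := by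
  classical
  letI : CommGroup A := { (inferInstance : Group A) with mul_comm := fun a b => hA.1.is_comm.comm a b }
  have hsq : ∀ a : A, a * a = 1 := fun a => Subtype.ext (by simpa [pow_two] using hA.2 a a.2)
  have hω3 : ∀ a, ω (ω (ω a)) = a := fun a => by
    have h := DFunLike.congr_fun (pow_orderOf_eq_one ω) a
    rw [hω, pow_succ, pow_two, MulAut.mul_apply, MulAut.mul_apply, MulAut.one_apply] at h
    exact h
  have hωω : ∀ a, ω (ω a) = ω a * a := fun a => by
    have h1 : a * ω a * ω (ω a) = 1 := hfpf _ (by rw [map_mul, map_mul, hω3]; ac_rfl)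
    calc ω (ω a) = (a * ω a)⁻¹ := eq_inv_of_mul_eq_one_right h1
      _ = a * ω a := inv_eq_of_mul_eq_one_right (hsq _)
      _ = ω a * a := mul_comm _ _
  set O : AddMonoid.End (Additive A) := MonoidHom.toAdditive ω.toMonoidHom with hOdef
  have hE : (2 : AddMonoid.End (Additive A)) = 0 := by
    refine AddMonoidHom.ext fun a => ?_
    rw [← one_add_one_eq_two]
    exact hsq (Additive.toMul a)
  have hO : O * O = O + 1 := AddMonoidHom.ext fun a => hωω (Additive.toMul a)
  obtain ⟨w, θ, hθw, hall⟩ := exists_ringHom hF hE O hO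
  letI : Module F (Additive A) := Module.compHom (Additive A) θ
  have hsmul : ∀ (x : F) (a : Additive A), x • a = θ x a := fun _ _ => rfl
  -- conjugation is linear
  obtain ⟨L, hLapp⟩ : ∃ L : G → (Additive A →ₗ[F] Additive A), ∀ g a,
      L g (Additive.ofMul a) = Additive.ofMul (MulAut.conjNormal g a) := ⟨fun g =>
    { toFun := MonoidHom.toAdditive (MulAut.conjNormal (H := A) g).toMonoidHom
      map_add' := map_add _
      map_smul' := fun x a => by
        simp only [hsmul, RingHom.id_apply]
        have hc : ∀ b : A, ω (MulAut.conjNormal g b) = MulAut.conjNormal g (ω b) := fun b =>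
          DFunLike.congr_fun (hcomm g).eq b
        rcases hall x with hx | hx | hx | hx <;> rw [hx]
        · simp only [map_zero]; exact map_zero _
        · simp only [map_one]; rfl
        · rw [hθw]; exact (hc (Additive.toMul a)).symm
        · rw [map_add, hθw, map_one]
          show MulAut.conjNormal g (ω (Additive.toMul a) * Additive.toMul a) =
            ω (MulAut.conjNormal g (Additive.toMul a)) * MulAut.conjNormal g (Additive.toMul a)
          rw [map_mul, hc] }, fun _ _ => rfl⟩
  haveI : Finite (Additive A) := inferInstanceAs (Finite A)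
  have hrank : Module.finrank F (Additive A) = 2 := by
    have h := Module.natCard_eq_pow_finrank (K := F) (V := Additive A)
    rw [show Nat.card (Additive A) = 16 from hcard, Nat.card_eq_fintype_card, hF] at h
    exact (Nat.pow_right_injective (show 2 ≤ 4 by norm_num) (h.symm.trans (by norm_num : 16 = 4 ^ 2)))
  let b : Module.Basis (Fin 2) F (Additive A) := Module.finBasisOfFinrankEq F _ hrank
  have hL1 : L 1 = LinearMap.id := LinearMap.ext fun a => by
    rw [← ofMul_toMul a, hLapp, map_one, MulAut.one_apply, LinearMap.id_apply]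
  have hLmul : ∀ g h, L (g * h) = (L g).comp (L h) := fun g h => LinearMap.ext fun a => by
    rw [← ofMul_toMul a, LinearMap.comp_apply, hLapp, hLapp, hLapp, map_mul, MulAut.mul_apply]
  -- the decomposition
  obtain ⟨d, hd, hu⟩ : ∃ d : G → A × K, (∀ g, ((d g).1 : G) * (d g).2 = g) ∧
      ∀ (g : G) (a : A) (k : K), (a : G) * k = g → d g = (a, k) := by
    choose d hd hu using fun g : G => (Subgroup.isComplement'_def.1 hK).existsUnique g
    exact ⟨d, hd, fun g a k e => (hu g (a, k) e).symm⟩
  have hA' : ∀ g h, d (g * h) =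
      ((d g).1 * MulAut.conjNormal ((d g).2 : G) (d h).1, (d g).2 * (d h).2) := by
    intro g h
    refine hu _ _ _ ?_
    rw [Subgroup.coe_mul, MulAut.conjNormal_apply, Subgroup.coe_mul]
    conv_rhs => rw [← hd g, ← hd h]
    group
  have hd1 : d 1 = (1, 1) := hu _ _ _ (by simp)
  let f : G →* Matrix (Fin 3) (Fin 3) F :=
    { toFun := fun g => affMat (LinearMap.toMatrix b b (L ((d g).2 : G)))
        (b.repr (Additive.ofMul (d g).1))
      map_one' := by
        rw [hd1]
        simp only [OneMemClass.coe_one, hL1, LinearMap.toMatrix_id, ofMul_one, map_zero, Finsupp.coe_zero]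
        exact affMat_one
      map_mul' := fun g h => by
        rw [affMat_mul, hA']
        simp only [Subgroup.coe_mul, hLmul]
        congr 1
        · rw [LinearMap.toMatrix_comp b b b]
        · rw [LinearMap.toMatrix_mulVec_repr, ← Finsupp.coe_add, ← map_add]
          refine congrArg (fun v => ⇑(b.repr v)) ?_
          rw [hLapp, ofMul_mul, add_comm] }
  refine ⟨(QuotientGroup.mk' _).comp f.toHomUnits, (injective_iff_map_eq_one _).2 fun g hg => ?_⟩
  have hz := (QuotientGroup.eq_one_iff _).1 hg
  obtain ⟨r, hr⟩ : f g ∈ Set.range (Matrix.scalar (Fin 3)) := by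
    refine Matrix.mem_range_scalar_of_commute_single fun i j hij => ?_
    have hu : IsUnit (1 + Matrix.single i j (1 : F)).det := by
      rw [show (1 + Matrix.single i j (1 : F)) = Matrix.transvection i j 1 from rfl,
        Matrix.det_transvection_of_ne i j hij]
      exact isUnit_one
    have h1 := congrArg Units.val (Subgroup.mem_center_iff.1 hz (Matrix.GeneralLinearGroup.mk'' _ hu))
    rw [Units.val_mul, Units.val_mul] at h1
    show Matrix.single i j 1 * f g = f g * Matrix.single i j 1
    change (1 + Matrix.single i j (1 : F)) * f g = f g * (1 + Matrix.single i j (1 : F)) at h1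
    rw [add_mul, mul_add, one_mul, mul_one, add_right_inj] at h1
    exact h1
  have hr1 : r = 1 := by simpa [f, affMat] using congrFun (congrFun hr 2) 2
  have hfg : f g = 1 := by rw [← hr, hr1, map_one]
  have hv : (d g).1 = 1 := by
    have h1 : b.repr (Additive.ofMul (d g).1) = 0 := by
      ext i
      fin_cases i
      · simpa [f, affMat] using congrFun (congrFun hfg 0) 2
      · simpa [f, affMat] using congrFun (congrFun hfg 1) 2
    exact Additive.ofMul.injective (by simpa using h1)
  have hk : ((d g).2 : G) = 1 := by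
    have h1 : LinearMap.toMatrix b b (L ((d g).2 : G)) = 1 := by
      ext i j
      fin_cases i <;> fin_cases j
      · simpa [f, affMat] using congrFun (congrFun hfg 0) 0
      · simpa [f, affMat] using congrFun (congrFun hfg 0) 1
      · simpa [f, affMat] using congrFun (congrFun hfg 1) 0
      · simpa [f, affMat] using congrFun (congrFun hfg 1) 1
    have h2 : L ((d g).2 : G) = LinearMap.id :=
      (LinearMap.toMatrix b b).injective (h1.trans (LinearMap.toMatrix_id b).symm)
    have hkA : ((d g).2 : G) ∈ A := by
      refine SetLike.le_def.1 hC.le (mem_centralizer_iff.2 fun a ha => ?_)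
      have h3 : MulAut.conjNormal ((d g).2 : G) ⟨a, ha⟩ = ⟨a, ha⟩ :=
        Additive.ofMul.injective ((hLapp _ _).symm.trans (LinearMap.congr_fun h2 _))
      have h4 := congrArg Subtype.val h3
      rw [MulAut.conjNormal_apply] at h4
      exact (mul_inv_eq_iff_eq_mul.1 h4).symm
    exact mem_bot.1 (disjoint_iff_inf_le.1 hK.disjoint ⟨hkA, (d g).2.2⟩)
  rw [← hd g, hv, hk, OneMemClass.coe_one, mul_one]

end Affine

end Cfsg.Lib.Syl34
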