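import Cfsg.Agent.Lib.Syl34.Four

/-!
# Pairs of involutions with product of odd order; the odd invariant subgroup
-/

set_option autoImplicit false
set_option linter.style.haveILetI false
set_option linter.unusedSectionVars false

namespace Cfsg.Lib.Syl34

open Subgroup Cfsg Cfsg.Lib

universe u

variable {L : Type u} [Group L] [Finite L]

/-- The involutions. -/
abbrev invols (L : Type u) [Group L] : Set L := {x | orderOf x = 2}

set_option maxRecDepth 10000 in
theorem a5_commuting : ∀ x : alternatingGroup (Fin 5), x * x = 1 → x ≠ 1 →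
    (Finset.univ.filter fun y : alternatingGroup (Fin 5) => y * x = x * y).card = 4 := by
  decide +kernel

theorem a5_cent {N : Type*} [Group N] (e : N ≃* alternatingGroup (Fin 5)) {x : N} (hx : orderOf x = 2) :
    Nat.card (centralizer ({x} : Set N)) = 4 := by
  classical
  have h := a5_commuting (e x) (by rw [← map_mul, Invol.inv_mul_self hx, map_one])
    (fun h => Invol.ne_one hx (e.injective (h.trans (map_one e).symm)))
  rw [← h, ← Fintype.card_subtype, ← Nat.card_eq_fintype_card]
  refine Nat.card_congr (e.toEquiv.subtypeEquiv fun g => ?_)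
  change g ∈ centralizer ({x} : Set N) ↔ e g * e x = e x * e g
  rw [mem_centralizer_singleton_iff, ← map_mul, ← map_mul, e.injective.eq_iff]

theorem a5_card {N : Type*} [Group N] (e : N ≃* alternatingGroup (Fin 5)) : Nat.card N = 60 := by
  rw [Nat.card_congr e.toEquiv]
  have h := two_mul_nat_card_alternatingGroup (α := Fin 5)
  rw [Nat.card_perm, Nat.card_eq_fintype_card (α := Fin 5), Fintype.card_fin,
    show Nat.factorial 5 = 120 from rfl] at h
  omega

theorem card_le_cent_mul {x : L} (hx : orderOf x = 2) :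
    Nat.card L ≤ Nat.card (centralizer ({x} : Set L)) * (invols L).ncard := by
  rw [← (centralizer ({x} : Set L)).card_mul_index]
  refine Nat.mul_le_mul_left _ ?_
  rw [Subgroup.index_eq_card, ← Nat.card_coe_set_eq]
  refine Nat.card_le_card_of_injective (fun q : L ⧸ centralizer ({x} : Set L) =>
    Quotient.liftOn' q (fun g : L => (⟨g * x * g⁻¹, by
      show orderOf _ = 2
      rw [Invol.orderOf_conj_eq, hx]⟩ : invols L))
      (fun g g' h => Subtype.ext (Invol.coset_iff_conj.1 (QuotientGroup.leftRel_apply.1 h)).symm)) ?_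
  intro p q
  induction p using QuotientGroup.induction_on
  induction q using QuotientGroup.induction_on
  intro e
  exact QuotientGroup.eq.2 (Invol.coset_iff_conj.2 (congrArg Subtype.val e).symm)

/-- Centralisers of order `4 r` for one `r` bound the bad partners below two thirds of the involutions. -/
theorem three_bad_lt {V : Sylow 2 L} (h : FourData V)
    (hL : Nonempty (L ≃* alternatingGroup (Fin 5)) ∨
      ∃ (F : Type) (_ : Field F) (_ : Fintype F), Fintype.card F % 2 = 1 ∧ 7 ≤ Fintype.card F ∧
        Nonempty (L ≃* Matrix.ProjectiveSpecialLinearGroup (Fin 2) F)) {x : L} (hx : orderOf x = 2) :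
    3 * (badSet x).ncard < 2 * (invols L).ncard := by
  rcases hL with ⟨⟨e⟩⟩ | ⟨F, hFi, hFt, hodd, h7, ⟨e⟩⟩
  · have hr : ∀ y : L, orderOf y = 2 → Nat.card (centralizer ({y} : Set L)) = 4 * 1 := fun y hy => by
      rw [a5_cent e hy]
    have h1 := badSet_ncard_le hx (fun w hw => h.invCent_le hr hw)
    have h2 := card_le_cent_mul hx
    rw [a5_cent e hx, a5_card e] at h2
    omega
  · letI := hFi
    letI := hFt
    set q := Fintype.card F with hq
    have hcent : ∀ y : L, orderOf y = 2 → Nat.card (centralizer ({y} : Set L)) =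
        Nat.card (centralizer ({e y} : Set (Matrix.ProjectiveSpecialLinearGroup (Fin 2) F))) := fun y _ =>
      Nat.card_congr (e.toEquiv.subtypeEquiv fun g => by
        change g ∈ centralizer ({y} : Set L) ↔
          e g ∈ centralizer ({e y} : Set (Matrix.ProjectiveSpecialLinearGroup (Fin 2) F))
        rw [mem_centralizer_singleton_iff, mem_centralizer_singleton_iff, ← map_mul, ← map_mul,
          e.injective.eq_iff])
    have ho : ∀ y : L, orderOf y = 2 → orderOf (e y) = 2 := fun y hy => by rw [MulEquiv.orderOf_eq, hy]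
    have hN : 2 * Nat.card L + q = q ^ 3 := by
      rw [Nat.card_congr e.toEquiv]
      exact GW.DGroup.card_psl_two (Nat.odd_iff.2 hodd)
    have h2 := card_le_cent_mul hx
    rw [hcent x hx] at h2
    rcases GW.card_centralizer_cases hodd h7 (ho x hx) with ⟨h4, hc⟩ | ⟨h4, hc⟩
    · obtain ⟨r, hr'⟩ : ∃ r, q = 4 * r + 1 := ⟨q / 4, by omega⟩
      have hr : ∀ y : L, orderOf y = 2 → Nat.card (centralizer ({y} : Set L)) = 4 * r := fun y hy => by
        rw [hcent y hy]
        rcases GW.card_centralizer_cases hodd h7 (ho y hy) with ⟨-, hy'⟩ | ⟨h4', -⟩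
        · rw [hy', ← hq, hr', Nat.add_sub_cancel]
        · omega
      have h1 := badSet_ncard_le hx (fun w hw => h.invCent_le hr hw)
      rw [hc, ← hq, hr', Nat.add_sub_cancel] at h2
      rw [hr'] at hN
      generalize (badSet x).ncard = b at *
      generalize (invols L).ncard = I at *
      generalize Nat.card L = n at *
      obtain ⟨s, rfl⟩ : ∃ s, r = s + 1 := ⟨r - 1, by omega⟩
      rw [show 2 * (s + 1) - 2 = 2 * s by omega] at h1
      by_contra hle
      nlinarith
    · obtain ⟨r, hr'⟩ : ∃ r, q + 1 = 4 * r := ⟨(q + 1) / 4, by omega⟩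
      have hr : ∀ y : L, orderOf y = 2 → Nat.card (centralizer ({y} : Set L)) = 4 * r := fun y hy => by
        rw [hcent y hy]
        rcases GW.card_centralizer_cases hodd h7 (ho y hy) with ⟨h4', -⟩ | ⟨-, hy'⟩
        · omega
        · rw [hy', ← hq, hr']
      have h1 := badSet_ncard_le hx (fun w hw => h.invCent_le hr hw)
      rw [hc, ← hq, hr'] at h2
      obtain ⟨s, rfl⟩ : ∃ s, r = s + 2 := ⟨r - 2, by omega⟩
      have hq' : q = 4 * s + 7 := by omega
      rw [hq'] at hN
      generalize (badSet x).ncard = b at *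
      generalize (invols L).ncard = I at *
      generalize Nat.card L = n at *
      rw [show 2 * (s + 2) - 2 = 2 * (s + 1) by omega] at h1
      by_contra hle
      nlinarith

variable {V : Sylow 2 L}

/-- The four-group data passes to a normal subgroup containing the four-group. -/
theorem FourData.normal_sub (h : FourData V) (N : Subgroup L) (hVN : (V : Subgroup L) ≤ N) :
    ∃ W : Sylow 2 N, FourData W := by
  haveI : Fact (Nat.Prime 2) := ⟨Nat.prime_two⟩
  refine ⟨V.subtype hVN, ?_, fun v hv => ?_, fun v hv h1 g hg => ?_⟩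
  · rw [Sylow.coe_subtype, Nat.card_congr (subgroupOfEquivOfLe hVN).toEquiv, h.card]
  · rw [Sylow.coe_subtype, mem_subgroupOf] at hv
    exact Subtype.ext (h.sq _ hv)
  · rw [Sylow.coe_subtype, mem_subgroupOf] at hv
    obtain ⟨o, ho, x, hx, e⟩ := h.cent (v : L) hv (fun e => h1 (Subtype.ext e)) g (hg.map N.subtype)
    have hoN : o ∈ N := by
      rw [show o = g * x⁻¹ by rw [← e, mul_inv_cancel_right]]
      exact mul_mem g.2 (inv_mem (hVN hx))
    refine ⟨⟨o, hoN⟩, ?_, ⟨x, hVN hx⟩, by rw [Sylow.coe_subtype, mem_subgroupOf]; exact hx, Subtype.ext e⟩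
    refine le_th (R := (th (v : L)).comap N.subtype) (fun r hr => ?_) (fun r hr => ?_) ?_ ho
    · exact mem_centralizer_singleton_iff.2 (Subtype.ext (commute_of_mem_th hr).eq)
    · refine mem_norm_of_conj_mem fun s hs => ?_
      show (r : L) * (s : L) * (r : L)⁻¹ ∈ th (v : L)
      exact conj_mem_of_norm (cent_le_norm_th (v : L) (mem_centralizer_singleton_iff.2
        (congrArg Subtype.val (mem_centralizer_singleton_iff.1 hr)))) hs
    · rw [← card_map_of_injective N.subtype_injective]
      exact (odd_th (v : L)).of_dvd_nat (card_dvd_of_le (map_comap_le _ _))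

theorem FourData.mem_of_invol (h : FourData V) {N : Subgroup L} [hN : N.Normal]
    (hVN : (V : Subgroup L) ≤ N) {x : L} (hx : orderOf x = 2) : x ∈ N := by
  obtain ⟨g, hg⟩ := h.exists_conj hx
  simpa [mul_assoc] using hN.conj_mem _ (hVN hg) g⁻¹

/-- More than a third of all ordered pairs of involutions have product of odd order. -/
theorem FourData.sq_lt_oddPairs (h : FourData V) (hO : oddCore L = ⊥) (hn : ¬ (V : Subgroup L).Normal) :
    (invols L).ncard ^ 2 < 3 * (oddPairs L).ncard := by
  classical
  haveI : Fintype L := Fintype.ofFinite L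
  obtain ⟨N, hN, hVN, hiso⟩ := h.exists_normal hO hn
  haveI := hN
  obtain ⟨W, hW⟩ := h.normal_sub N hVN
  have hI : (invols N).ncard = (invols L).ncard := by
    rw [← Set.ncard_image_of_injective _ N.subtype_injective]
    congr 1
    ext x
    constructor
    · rintro ⟨y, hy, rfl⟩
      exact (Subgroup.orderOf_coe y).trans hy
    · intro hx
      exact ⟨⟨x, h.mem_of_invol hVN hx⟩, (Subgroup.orderOf_mk _ _).trans hx, rfl⟩
  have hbad : ∀ x : L, orderOf x = 2 → 3 * (badSet x).ncard < 2 * (invols L).ncard := by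
    intro x hx
    have hxN := h.mem_of_invol hVN hx
    have := three_bad_lt hW hiso (x := (⟨x, hxN⟩ : N)) ((Subgroup.orderOf_mk _ _).trans hx)
    rw [hI] at this
    refine lt_of_le_of_lt (Nat.mul_le_mul_left 3 ?_) this
    rw [← Set.ncard_image_of_injective _ N.subtype_injective]
    refine Set.ncard_le_ncard (fun y hy => ?_) (Set.toFinite _)
    obtain ⟨hy2, hne, hev⟩ := hy
    exact ⟨⟨y, h.mem_of_invol hVN hy2⟩, ⟨(Subgroup.orderOf_mk _ _).trans hy2,
      fun e => hne (congrArg Subtype.val e), by rwa [← Subgroup.orderOf_coe]⟩, rfl⟩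
  set I := (invols L).toFinset with hIdef
  have hIc : (invols L).ncard = I.card := Set.ncard_eq_toFinset_card' _
  have hpos : 0 < I.card := by
    obtain ⟨v, hv, h1⟩ := (V : Subgroup L).bot_or_exists_ne_one.resolve_left
      (fun e => by have := h.card; rw [e, card_bot] at this; omega)
    exact Finset.card_pos.2 ⟨v, Set.mem_toFinset.2 (h.orderOf_two hv h1)⟩
  have hP : (oddPairs L).ncard = ((I ×ˢ I).filter fun p => Odd (orderOf (p.1 * p.2))).card := by
    rw [Set.ncard_eq_toFinset_card']
    congr 1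
    ext p
    simp [hIdef, oddPairs, invols, and_assoc]
  have hsum : ((I ×ˢ I).filter fun p => ¬ Odd (orderOf (p.1 * p.2))).card =
      ∑ x ∈ I, (badSet x).ncard := by
    rw [Finset.card_filter, Finset.sum_product]
    refine Finset.sum_congr rfl fun x hx => ?_
    rw [← Finset.card_filter, Set.ncard_eq_toFinset_card']
    congr 1
    ext y
    have hx2 : x ∈ invols L := Set.mem_toFinset.1 hx
    simp only [Finset.mem_filter, hIdef, Set.mem_toFinset, invols, badSet, Set.mem_setOf_eq,
      Nat.not_odd_iff_even]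
    refine ⟨fun ⟨hy, he⟩ => ⟨hy, ?_, he⟩, fun ⟨hy, _, he⟩ => ⟨hy, he⟩⟩
    rintro rfl
    rw [Invol.inv_mul_self hx2, orderOf_one] at he
    exact absurd he (by decide)
  have hsplit := Finset.card_filter_add_card_filter_not (s := I ×ˢ I)
    (fun p => Odd (orderOf (p.1 * p.2)))
  rw [Finset.card_product, ← hP, hsum] at hsplit
  have hlt : 3 * ∑ x ∈ I, (badSet x).ncard < 2 * (I.card * I.card) := by
    rw [Finset.mul_sum]
    calc ∑ x ∈ I, 3 * (badSet x).ncard < ∑ _x ∈ I, 2 * I.card :=
          Finset.sum_lt_sum_of_nonempty (Finset.card_pos.1 hpos) fun x hx => by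
            rw [← hIc]; exact hbad x (show x ∈ invols L from Set.mem_toFinset.1 hx)
      _ = 2 * (I.card * I.card) := by rw [Finset.sum_const, smul_eq_mul]; ring
  rw [hIc, pow_two]
  omega

/-- With a normal four-group the pairs of odd product are exactly the diagonal. -/
theorem FourData.sq_eq_oddPairs (h : FourData V) (hn : (V : Subgroup L).Normal) :
    (invols L).ncard ^ 2 = 3 * (oddPairs L).ncard := by
  have hmem : ∀ x : L, orderOf x = 2 → x ∈ (V : Subgroup L) := fun x hx => by
    obtain ⟨g, hg⟩ := h.exists_conj hx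
    simpa [mul_assoc] using hn.conj_mem _ hg g⁻¹
  have hI : (invols L).ncard = 3 := by
    have : invols L = ((V : Subgroup L) : Set L) \ {1} := by
      ext x
      exact ⟨fun hx => ⟨hmem x hx, Invol.ne_one hx⟩, fun hx => h.orderOf_two hx.1 hx.2⟩
    rw [this, Set.ncard_sdiff_singleton_of_mem (one_mem (V : Subgroup L)), ← Nat.card_coe_set_eq,
      SetLike.coe_sort_coe, h.card]
  have hP : (oddPairs L).ncard = (invols L).ncard := by
    rw [← Set.ncard_image_of_injective (invols L) (f := fun x : L => (x, x)) fun a b e => (Prod.ext_iff.1 e).1]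
    congr 1
    ext ⟨x, y⟩
    constructor
    · rintro ⟨hx, hy, hodd⟩
      refine ⟨x, hx, Prod.ext rfl ?_⟩
      have h2 := h.sq _ (mul_mem (hmem x hx) (hmem y hy))
      have h1 := eq_one_of_odd_of_sq hodd h2
      exact (eq_inv_of_mul_eq_one_right h1 |>.trans (Invol.inv_eq_self hx)).symm
    · rintro ⟨z, hz, e⟩
      obtain ⟨rfl, rfl⟩ := Prod.ext_iff.1 e
      refine ⟨hz, hz, ?_⟩
      show Odd (orderOf (z * z))
      rw [Invol.inv_mul_self hz, orderOf_one]
      exact odd_one
  rw [hP, hI]; norm_num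

/-- An odd subgroup invariant under the normaliser of `V` containing every signalizer is trivial unless
`V` is normal. -/
theorem FourData.eq_bot_of_invariant (h : FourData V) (hO : oddCore L = ⊥)
    (hn : ¬ (V : Subgroup L).Normal) (R : Subgroup L) (hR : Odd (Nat.card R))
    (hNR : normalizer ((V : Subgroup L) : Set L) ≤ normalizer (R : Set L))
    (hth : ∀ v ∈ (V : Subgroup L), v ≠ 1 → th v ≤ R) : R = ⊥ := by
  haveI : Fact (Nat.Prime 2) := ⟨Nat.prime_two⟩
  set NV := normalizer ((V : Subgroup L) : Set L)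
  set M := R ⊔ NV with hM
  have hMR : M ≤ normalizer (R : Set L) := sup_le le_normalizer hNR
  have hVM : (V : Subgroup L) ≤ M := le_normalizer.trans le_sup_right
  by_cases htop : M = ⊤
  · have hRn : R.Normal := normalizer_eq_top_iff.1 (top_unique (htop ▸ hMR))
    exact le_bot_iff.1 (hO ▸ ZStar.le_oddCore hRn hR)
  have hdec : ∀ m ∈ M, ∃ n ∈ NV, ∃ r ∈ R, n * r = m := fun m hm =>
    (Core.mem_sup_of_le_normalizer hNR).1 (by rw [sup_comm]; exact hm)
  have hcentM : ∀ v ∈ (V : Subgroup L), v ≠ 1 → ∀ g, Commute g v → g ∈ M := fun v hv h1 g hg => by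
    obtain ⟨o, ho, x, hx, rfl⟩ := h.cent v hv h1 g hg
    exact mul_mem (mem_sup_left (hth v hv h1 ho)) (hVM hx)
  have hinto : ∀ t ∈ M, orderOf t = 2 → ∃ m ∈ M, m * t * m⁻¹ ∈ (V : Subgroup L) := by
    intro t ht ht2
    obtain ⟨m, hm, P, hP, hVP, htP⟩ := Invol.exists_common_pGroup (p := 2) M hVM (zpowers_le.2 ht) V.2
      (IsPGroup.of_card (n := 1) (by rw [Nat.card_zpowers, ht2, pow_one]))
    exact ⟨m, hm, sylow_eq_of_le hP hVP (htP t (mem_zpowers t))⟩
  have hfus : ∀ v ∈ (V : Subgroup L), v ≠ 1 → ∀ g, g * v * g⁻¹ ∈ (V : Subgroup L) → g ∈ M := by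
    intro v hv h1 g hg
    haveI : IsMulCommutative (V : Subgroup L) := ⟨⟨fun a b => Subtype.ext (h.comm a.2 b.2).eq⟩⟩
    obtain ⟨n, hn', e⟩ := Fusion.exists_normalizer_conj_of_abelian V hv hg
    have hc : Commute (n⁻¹ * g) v := mul_inv_eq_iff_eq_mul.1 (by rw [conj_conj, ← e]; group)
    have hnM : n ∈ M := le_sup_right (a := R) hn'
    have := mul_mem hnM (hcentM v hv h1 _ hc)
    rwa [mul_inv_cancel_left] at this
  have hkey : ∀ t ∈ M, orderOf t = 2 → ∀ g, g * t * g⁻¹ ∈ M → g ∈ M := by
    intro t ht ht2 g hg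
    obtain ⟨m, hm, hmt⟩ := hinto t ht ht2
    obtain ⟨m', hm', hmg⟩ := hinto _ hg (by rw [Invol.orderOf_conj_eq, ht2])
    have := hfus _ hmt (fun e => Invol.ne_one ht2 (conj_eq_one_iff.1 e)) (m' * g * m⁻¹) (by
      rwa [show m' * g * m⁻¹ * (m * t * m⁻¹) * (m' * g * m⁻¹)⁻¹ = m' * (g * t * g⁻¹) * m'⁻¹ by group])
    rw [show g = m'⁻¹ * (m' * g * m⁻¹) * m by group]
    exact mul_mem (mul_mem (inv_mem hm') this) hm
  obtain ⟨v₀, hv₀, hv₀1⟩ := (V : Subgroup L).bot_or_exists_ne_one.resolve_left
    (fun e => by have := h.card; rw [e, card_bot] at this; omega)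
  have heven : Even (Nat.card M) := even_iff_two_dvd.2
    (h.orderOf_two hv₀ hv₀1 ▸ Subgroup.orderOf_dvd_natCard M (hVM hv₀))
  have hse : IsStronglyEmbedded M := (Invol.stronglyEmbedded_iff htop heven).2 hkey
  set K := M.normalCore
  have hKodd : Odd (Nat.card K) := by
    rw [← Nat.not_even_iff_odd, even_iff_two_dvd]
    intro h2
    obtain ⟨⟨t, ht⟩, ht2⟩ := exists_prime_orderOf_dvd_card' 2 h2
    rw [Subgroup.orderOf_mk] at ht2
    refine htop (eq_top_iff.2 fun g _ => hkey t (M.normalCore_le ht) ht2 g ?_)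
    exact M.normalCore_le ((inferInstance : K.Normal).conj_mem t ht g)
  have hK1 : K = ⊥ := le_bot_iff.1 (hO ▸ ZStar.le_oddCore inferInstance hKodd)
  have hfaith : ∀ g : L, (∀ x : L ⧸ M, g • x = x) → g = 1 := fun g hg => by
    have : g ∈ K := fun b => by
      have := Invol.smul_coset_eq_iff.1 (hg (QuotientGroup.mk b⁻¹))
      rwa [inv_inv] at this
    rwa [hK1, mem_bot] at this
  have hRV : ∀ t ∈ M, orderOf t = 2 → ∃ r ∈ R, ∃ x ∈ (V : Subgroup L), r * x = t := by
    intro t ht ht2
    obtain ⟨m, hm, hmt⟩ := hinto t ht ht2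
    obtain ⟨n, hn', r, hr, rfl⟩ := hdec m hm
    set x := n⁻¹ * (n * r * t * (n * r)⁻¹) * n
    have hx : x ∈ (V : Subgroup L) := by
      have := conj_mem_of_norm (inv_mem hn') hmt
      rwa [inv_inv] at this
    refine ⟨r⁻¹ * (x * r * x⁻¹), mul_mem (inv_mem hr)
      (conj_mem_of_norm (hMR (hVM hx)) hr), x, hx, ?_⟩
    simp only [x]; group
  have hcomm : ∀ s t : L, s ∈ M → t ∈ M → orderOf s = 2 → orderOf t = 2 → s * t * (s * t) ∈ R := by
    intro s t hs ht hs2 ht2
    obtain ⟨r, hr, x, hx, rfl⟩ := hRV s hs hs2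
    obtain ⟨r', hr', y, hy, rfl⟩ := hRV t ht ht2
    have hxn := hMR (hVM hx)
    have hxy := mul_mem hx hy
    have e : r * x * (r' * y) * (r * x * (r' * y)) =
        r * (x * r' * x⁻¹) * ((x * y) * (r * (x * r' * x⁻¹)) * (x * y)⁻¹) * (x * y * (x * y)) := by group
    rw [e, h.sq _ hxy, mul_one]
    have hq := mul_mem hr (conj_mem_of_norm hxn hr')
    exact mul_mem hq (conj_mem_of_norm (hMR (hVM hxy)) hq)
  have hfour : ∃ s t : L, s ∈ M ∧ t ∈ M ∧ orderOf s = 2 ∧ orderOf t = 2 ∧ s ≠ t ∧ Commute s t := by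
    obtain ⟨w, hw, hwne⟩ : ∃ w ∈ (V : Subgroup L), w ≠ 1 ∧ w ≠ v₀ := by
      by_contra hall
      push Not at hall
      classical
      haveI : Fintype L := Fintype.ofFinite L
      have hsub : ((V : Subgroup L) : Set L) ⊆ {1, v₀} := fun w hw => by
        by_cases h1 : w = 1
        · exact Or.inl h1
        · exact Or.inr (hall w hw h1)
      have := (Set.ncard_le_ncard hsub (Set.toFinite _)).trans (Set.ncard_insert_le _ _)
      rw [← Nat.card_coe_set_eq, SetLike.coe_sort_coe, h.card, Set.ncard_singleton] at this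
      omega
    exact ⟨v₀, w, hVM hv₀, hVM hw, h.orderOf_two hv₀ hv₀1, h.orderOf_two hw hwne.1, hwne.2.symm,
      h.comm hv₀ hw⟩
  have hmd : StrongEmb.ModData M R := ⟨hse, hfaith, le_sup_left, hMR, hR, hcomm, hfour⟩
  have hcR : ∀ v ∈ (V : Subgroup L), v ≠ 1 → ∀ r ∈ R, Commute r v := fun v hv h1 r hr =>
    hmd.commute_core (hVM hv) (h.orderOf_two hv h1) hr
  obtain ⟨N, hN, hVN, hiso⟩ := h.exists_normal hO hn
  haveI := hN
  rcases hiso with ⟨⟨e⟩⟩ | ⟨F, hFi, hFt, hodd, h7, ⟨e⟩⟩
  · -- five points, on all but one of which the four-group is regular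
    set α : L ⧸ M := QuotientGroup.mk 1
    obtain ⟨β, hβ⟩ := StrongEmb.exists_ne hse α
    refine hmd.trivial_of_fix le_sup_left hMR hβ fun r hr => ?_
    have hNM : N ⊔ M = ⊤ := by
      refine top_unique ?_
      haveI : Finite (Sylow 2 N) := inferInstance
      rw [← Sylow.normalizer_sup_eq_top' (N := N) V hVN, sup_comm]
      exact sup_le_sup le_rfl le_sup_right
    have h1 : Nat.card N = 60 := a5_card e
    have hidx : M.index ∣ 60 := by
      rw [← h1]
      have : M.index = M.relIndex N := by
        have h2 : M.relIndex (N ⊔ M) = M.index := by rw [hNM, relIndex_top_right]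
        rw [← h2]
        refine (Nat.card_eq_of_bijective (fun q : N ⧸ M.subgroupOf N =>
          Quotient.liftOn' q (fun n : N => (QuotientGroup.mk
            (⟨(n : L), mem_sup_left n.2⟩ : ↥(N ⊔ M)) : ↥(N ⊔ M) ⧸ M.subgroupOf (N ⊔ M)))
            (fun a b hab => QuotientGroup.eq.2 (by
              have := QuotientGroup.leftRel_apply.1 hab
              simpa [mem_subgroupOf] using this))) ⟨?_, ?_⟩).symm
        · intro p q
          induction p using QuotientGroup.induction_on
          induction q using QuotientGroup.induction_on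
          intro e'
          refine QuotientGroup.eq.2 ?_
          have := QuotientGroup.eq.1 e'
          simpa [mem_subgroupOf] using this
        · intro q
          induction q using QuotientGroup.induction_on with
          | _ g =>
            obtain ⟨n, hn', m, hm, e'⟩ := mem_sup_of_normal_left.1 g.2
            refine ⟨QuotientGroup.mk ⟨n, hn'⟩, QuotientGroup.eq.2 ?_⟩
            rw [mem_subgroupOf]
            simpa [← e'] using hm
      rw [this]
      exact index_dvd_card _
    have hoddI : Odd M.index := by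
      rw [← Nat.not_even_iff_odd, even_iff_two_dvd]
      exact fun h2 => V.not_dvd_index (h2.trans (index_dvd_of_le hVM))
    have hinj : ∀ v ∈ (V : Subgroup L), ∀ γ : L ⧸ M, γ ≠ α → v • γ = γ → v = 1 := fun v hv γ hγ hfix => by
      by_contra hv1
      exact hγ (Invol.se_fixed_unique hse (h.orderOf_two hv hv1) hfix (Invol.smul_coset_one_eq.2 (hVM hv)))
    have hn5 : Nat.card (L ⧸ M) ≤ 5 := by
      have hmod := (V.2 : IsPGroup 2 (V : Subgroup L)).card_modEq_card_fixedPoints (L ⧸ M)
      have hfp : MulAction.fixedPoints (V : Subgroup L) (L ⧸ M) = {α} := by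
        ext γ
        refine ⟨fun hγ => ?_, ?_⟩
        · by_contra hne
          exact hv₀1 (hinj v₀ hv₀ γ hne (hγ ⟨v₀, hv₀⟩))
        · rintro rfl v
          exact Invol.smul_coset_one_eq.2 (hVM v.2)
      -- the orbits away from `α` are regular
      classical
      haveI : Fintype L := Fintype.ofFinite L
      haveI : Fintype (L ⧸ M) := Fintype.ofFinite _
      have h4 : 4 ∣ Nat.card {γ : L ⧸ M // γ ≠ α} := by
        letI : MulAction (V : Subgroup L) {γ : L ⧸ M // γ ≠ α} :=
          { smul := fun v γ => ⟨(v : L) • (γ : L ⧸ M), fun e' => γ.2 (by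
              have h' : (v : L)⁻¹ • α = α := Invol.smul_coset_one_eq.2 (hVM (inv_mem v.2))
              rw [← e', inv_smul_smul] at h'
              exact h'.trans e')⟩
            one_smul := fun γ => Subtype.ext (one_smul _ _)
            mul_smul := fun v w γ => Subtype.ext (mul_smul _ _ _) }
        rw [Nat.card_congr (MulAction.selfEquivSigmaOrbits (V : Subgroup L) {γ : L ⧸ M // γ ≠ α})]
        haveI : Fintype (MulAction.orbitRel.Quotient (V : Subgroup L) {γ : L ⧸ M // γ ≠ α}) := Fintype.ofFinite _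
        rw [Nat.card_sigma]
        refine Finset.dvd_sum fun ω _ => ?_
        rw [Nat.card_congr (MulAction.orbitEquivQuotientStabilizer _ _), ← Subgroup.index_eq_card,
          show MulAction.stabilizer (V : Subgroup L) (Quotient.out ω) = ⊥ from eq_bot_iff.2 fun v hv =>
            mem_bot.2 (Subtype.ext (hinj v v.2 _ (Quotient.out ω).2 (congrArg Subtype.val hv))),
          index_bot, h.card]
      have hcard : Nat.card {γ : L ⧸ M // γ ≠ α} + 1 = M.index := by
        rw [Nat.card_eq_fintype_card, Fintype.card_subtype_compl, Fintype.card_subtype_eq,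
          Subgroup.index_eq_card, Nat.card_eq_fintype_card]
        have : 0 < Fintype.card (L ⧸ M) := Fintype.card_pos
        omega
      rw [← Subgroup.index_eq_card]
      have hle := Nat.le_of_dvd (by norm_num) hidx
      obtain ⟨j, hj⟩ := h4
      obtain ⟨k, hk⟩ := hoddI
      generalize M.index = d at *
      interval_cases d <;> omega
    -- so the four-group is transitive on the others
    have horb : ∀ γ : L ⧸ M, γ ≠ α → ∃ v ∈ (V : Subgroup L), v • β = γ := by
      intro γ hγ
      classical
      haveI : Fintype (L ⧸ M) := Fintype.ofFinite _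
      haveI : Fintype (V : Subgroup L) := Fintype.ofFinite _
      have hsub : (Finset.univ.image fun v : (V : Subgroup L) => (v : L) • β) = Finset.univ.erase α := by
        refine Finset.eq_of_subset_of_card_le (fun δ hδ => ?_) ?_
        · obtain ⟨v, -, rfl⟩ := Finset.mem_image.1 hδ
          refine Finset.mem_erase.2 ⟨fun e' => hβ ?_, Finset.mem_univ _⟩
          have h' : (v : L)⁻¹ • α = α := Invol.smul_coset_one_eq.2 (hVM (inv_mem v.2))
          rw [← e', inv_smul_smul] at h'
          exact h'.trans e'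
        · rw [Finset.card_image_of_injective, Finset.card_erase_of_mem (Finset.mem_univ _),
            Finset.card_univ, Finset.card_univ, ← Nat.card_eq_fintype_card, ← Nat.card_eq_fintype_card, h.card]
          · omega
          · intro v w e'
            have h' : ((w : L)⁻¹ * v) • β = β := by rw [mul_smul, show (v : L) • β = (w : L) • β from e', inv_smul_smul]
            exact Subtype.ext (inv_mul_eq_one.1 (hinj _ (mul_mem (inv_mem w.2) v.2) β hβ h')).symm
      have : γ ∈ Finset.univ.erase α := Finset.mem_erase.2 ⟨hγ, Finset.mem_univ _⟩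
      rw [← hsub, Finset.mem_image] at this
      obtain ⟨v, -, hv⟩ := this
      exact ⟨v, v.2, hv⟩
    have hrα : r • α = α := Invol.smul_coset_one_eq.2 (le_sup_left (b := NV) hr)
    obtain ⟨v, hv, hvb⟩ := horb (r • β) fun e' => hβ (MulAction.injective r (e'.trans hrα.symm))
    by_cases hv1 : v = 1
    · rw [MulAction.mem_stabilizer_iff, ← hvb, hv1, one_smul]
    exfalso
    have hpow : ∀ k : ℕ, r ^ k • β = v ^ k • β := fun k => by
      induction k with
      | zero => simp
      | succ k ih =>
        rw [pow_succ', mul_smul, ih, ← mul_smul, ((hcR v hv hv1 r hr).pow_right k).eq, mul_smul, ← hvb,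
          ← mul_smul, ← pow_succ]
    obtain ⟨k, hk⟩ := hR.of_dvd_nat (Subgroup.orderOf_dvd_natCard R hr)
    have := hpow (orderOf r)
    rw [pow_orderOf_eq_one, one_smul, hk, pow_succ, pow_mul, pow_two, h.sq v hv, one_pow, one_mul] at this
    exact hv1 (hinj v hv β hβ this.symm)
  · exfalso
    letI := hFi
    letI := hFt
    obtain ⟨w, hw, hw1, hwne⟩ : ∃ w ∈ (V : Subgroup L), w ≠ 1 ∧ w ≠ v₀ := by
      by_contra hall
      push Not at hall
      classical
      haveI : Fintype L := Fintype.ofFinite L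
      have hsub : ((V : Subgroup L) : Set L) ⊆ {1, v₀} := fun w hw => by
        by_cases h1 : w = 1
        · exact Or.inl h1
        · exact Or.inr (hall w hw h1)
      have := (Set.ncard_le_ncard hsub (Set.toFinite _)).trans (Set.ncard_insert_le _ _)
      rw [← Nat.card_coe_set_eq, SetLike.coe_sort_coe, h.card, Set.ncard_singleton] at this
      omega
    -- the centraliser of an involution of the four-group in `N` has order four
    have hcen : ∀ g ∈ N, Commute g v₀ → g ∈ (V : Subgroup L) := by
      intro g hg hgc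
      obtain ⟨o, ho, x, hx, e'⟩ := h.cent v₀ hv₀ hv₀1 g hgc
      have hoR := hth v₀ hv₀ hv₀1 ho
      have hoN : o ∈ N := by
        rw [show o = g * x⁻¹ by rw [← e', mul_inv_cancel_right]]
        exact mul_mem hg (inv_mem (hVN hx))
      by_cases ho1 : o = 1
      · rw [← e', ho1, one_mul]; exact hx
      exfalso
      have hy : e ⟨o, hoN⟩ * e ⟨o, hoN⟩ ≠ 1 := fun h' => ho1 (by
        rw [← map_mul, MulEquiv.map_eq_one_iff] at h'
        exact eq_one_of_odd_of_sq (odd_of_mem_th ho) (congrArg Subtype.val h'))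
      refine hwne (congrArg Subtype.val (e.injective (GW.psl_involution_unique hodd hy
        (a := e ⟨w, hVN hw⟩) (b := e ⟨v₀, hVN hv₀⟩) ?_ ?_ ?_ ?_)))
      · rw [MulEquiv.orderOf_eq, Subgroup.orderOf_mk, h.orderOf_two hw hw1]
      · rw [MulEquiv.orderOf_eq, Subgroup.orderOf_mk, h.orderOf_two hv₀ hv₀1]
      · exact (show Commute (⟨w, hVN hw⟩ : N) ⟨o, hoN⟩ from Subtype.ext (hcR w hw hw1 o hoR).eq.symm).map e
      · exact (show Commute (⟨v₀, hVN hv₀⟩ : N) ⟨o, hoN⟩ from Subtype.ext (hcR v₀ hv₀ hv₀1 o hoR).eq.symm).map e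
    have ho : orderOf (e ⟨v₀, hVN hv₀⟩) = 2 := by
      rw [MulEquiv.orderOf_eq, Subgroup.orderOf_mk, h.orderOf_two hv₀ hv₀1]
    have hle : Nat.card (centralizer ({e ⟨v₀, hVN hv₀⟩} :
        Set (Matrix.ProjectiveSpecialLinearGroup (Fin 2) F))) ≤ 4 := by
      rw [← h.card]
      refine Nat.card_le_card_of_injective (fun g => ⟨((e.symm g.1 : N) : L), hcen _ (e.symm g.1).2 ?_⟩) ?_
      · have hg := mem_centralizer_singleton_iff.1 g.2
        have := congrArg e.symm hg
        rw [map_mul, map_mul, e.symm_apply_apply] at this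
        exact congrArg Subtype.val this
      · intro a b hab
        exact Subtype.ext (e.symm.injective (Subtype.ext (by simpa using congrArg Subtype.val hab)))
    rcases GW.card_centralizer_cases hodd h7 ho with ⟨-, hc⟩ | ⟨-, hc⟩ <;> rw [hc] at hle <;> omega

end Cfsg.Lib.Syl34
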