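import Cfsg.Agent.Lib.Syl34.Top

/-!
# The simple normal subgroup in the spread case
-/

set_option autoImplicit false
set_option linter.style.haveILetI false
set_option linter.unusedSectionVars false

namespace Cfsg.Lib.Syl34

open Subgroup Cfsg Cfsg.Lib

universe u

variable {G : Type u} [Group G] [Finite G] {F : Type*} [Field F] [Fintype F]

namespace Crd

variable {S : Sylow 2 G} (c : Crd (S : Subgroup G) F)

/-- The coordinates of a normal subgroup containing `S`. -/
noncomputable def sub (T : Subgroup G) (hST : (S : Subgroup G) ≤ T) :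
    Crd ((S.subtype hST : Sylow 2 T) : Subgroup T) F :=
  c.pull T.subtype T.subtype_injective _ (by rw [Sylow.coe_subtype, map_subgroupOf_eq_of_le hST])

theorem mem_sub_A {T : Subgroup G} {hST : (S : Subgroup G) ≤ T} {x : T} :
    x ∈ (c.sub T hST).A ↔ (x : G) ∈ c.A := c.mem_pull_A ..

theorem mem_sub_B {T : Subgroup G} {hST : (S : Subgroup G) ≤ T} {x : T} :
    x ∈ (c.sub T hST).B ↔ (x : G) ∈ c.B := c.mem_pull_B ..

theorem mem_sub_Z {T : Subgroup G} {hST : (S : Subgroup G) ≤ T} {x : T} :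
    x ∈ (c.sub T hST).Z ↔ (x : G) ∈ c.Z := c.mem_pull_Z ..

theorem sub_swap_A (T : Subgroup G) (hST : (S : Subgroup G) ≤ T) :
    (c.swap.sub T hST).A = (c.sub T hST).B := by
  ext x; rw [mem_sub_A, mem_sub_B, swap_A]

theorem sub_swap_Z (T : Subgroup G) (hST : (S : Subgroup G) ≤ T) :
    (c.swap.sub T hST).Z = (c.sub T hST).Z := by
  ext x; rw [mem_sub_Z, mem_sub_Z, swap_Z]

/-- The normal subgroup containing `S` is spread if the group is. -/
theorem sub_spread {T : Subgroup G} [T.Normal] (hST : (S : Subgroup G) ≤ T) (hsp : ¬ c.Norml) :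
    ¬ (c.sub T hST).Norml := by
  haveI : Fact (Nat.Prime 2) := ⟨Nat.prime_two⟩
  intro hN
  refine hsp fun g hg => ?_
  set R : Subgroup T := (((S : Subgroup G).map (MulAut.conj g).toMonoidHom)).subgroupOf T
  have hle : (S : Subgroup G).map (MulAut.conj g).toMonoidHom ≤ T := by
    rintro _ ⟨s, hs, rfl⟩
    exact Subgroup.Normal.conj_mem inferInstance s (hST hs) g
  have hR : IsPGroup 2 R := (S.2.map _).comap_subtype
  have hA : (c.sub T hST).A ≤ R := fun x hx => by
    refine mem_subgroupOf.2 ⟨g⁻¹ * (x : G) * g, c.A_le ?_, by simp [mul_assoc]⟩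
    simpa using conj_mem_of_norm (inv_mem hg) ((c.mem_sub_A).1 hx)
  obtain ⟨k, hk, hkR⟩ := (c.sub T hST).exists_norm_conj_le hR hA
  have hkS : (k : G) * g ∈ normalizer ((S : Subgroup G) : Set G) := mem_norm_of_conj_mem fun s hs => by
    have hgs : g * s * g⁻¹ ∈ (S : Subgroup G).map (MulAut.conj g).toMonoidHom := ⟨s, hs, rfl⟩
    have := hkR ⟨_, hle hgs⟩ hgs
    rw [Sylow.coe_subtype, mem_subgroupOf] at this
    rw [conj_conj]
    simpa using this
  have hkZ : (k : G) ∈ normalizer (c.Z : Set G) := mem_norm_of_conj_mem fun z hz =>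
    (c.mem_sub_Z).1 (conj_mem_of_norm (hN hk) ((c.mem_sub_Z (x := ⟨z, hST (c.Z_le hz)⟩)).2 hz))
  simpa using mul_mem (inv_mem hkZ) (c.normS_le_norm_Z hkS)

/-- In the spread case there is a simple normal subgroup containing `S` with trivial centraliser. -/
theorem exists_simple (hsp : ¬ c.Norml) (hO : oddCore G = ⊥) (hT : NoTwoCore G) :
    ∃ (T : Subgroup G) (_ : T.Normal) (_ : (S : Subgroup G) ≤ T),
      IsSimpleGroup T ∧ ¬ IsMulCommutative T ∧ centralizer (T : Set G) = ⊥ := by
  haveI : Fact (Nat.Prime 2) := ⟨Nat.prime_two⟩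
  have htop : (⊤ : Subgroup G) ≠ ⊥ := fun e => by
    have h1 : (c.pt 1 0 0 : G) ∈ (⊥ : Subgroup G) := e ▸ mem_top _
    have := congrArg c.X (mem_bot.1 h1)
    rw [X_pt, c.X_one] at this
    exact one_ne_zero this
  obtain ⟨T, hTn, -, hTne, hmin⟩ := Group.MinFactor.exists_minimal_normal (inferInstance : (⊤ : Subgroup G).Normal) htop
  haveI := hTn
  obtain ⟨z, hz, hz1, hzT⟩ := c.exists_Z_of_normal hO T hTne
  have hAT := c.A_le_of_normal hsp T hz hz1 hzT
  have hST : (S : Subgroup G) ≤ T := (c.inf_cases hsp T hAT).resolve_left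
    fun h => c.false_of_inf_eq_A hsp hO hT T hAT h
  have hC : centralizer (T : Set G) = ⊥ := by
    by_contra hne
    obtain ⟨w, hw, hw1, hwC⟩ := c.exists_Z_of_normal hO (centralizer (T : Set G)) hne
    have hAC := c.A_le_of_normal hsp (centralizer (T : Set G)) hw hw1 hwC
    refine false_of_comm_normal hT (C := T ⊓ centralizer (T : Set G)) (fun x hx y hy => ?_)
      (Subgroup.mem_inf.2 ⟨hzT, hAC (c.Z_le_A hz)⟩) hz1 (c.sq_Z hz)
    exact (mem_centralizer_iff.1 (Subgroup.mem_inf.1 hy).2 x (Subgroup.mem_inf.1 hx).1)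
  have hnc : ¬ IsMulCommutative T := fun h => false_of_comm_normal hT (C := T)
    (fun x hx y hy => congrArg Subtype.val (mul_comm' (⟨x, hx⟩ : T) ⟨y, hy⟩)) hzT hz1 (c.sq_Z hz)
  haveI : Nontrivial T := ⟨⟨z, hzT⟩, 1, fun e => hz1 (congrArg Subtype.val e)⟩
  refine ⟨T, hTn, hST, ⟨fun N hN => ?_⟩, hnc, hC⟩
  ·
    rw [or_iff_not_imp_left]
    intro hNne
    haveI := hN
    have hOT : oddCore T = ⊥ := by
      rw [← map_eq_bot_iff_of_injective _ T.subtype_injective, ← le_bot_iff, ← hO]
      refine ZStar.le_oddCore inferInstance ?_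
      rw [card_map_of_injective T.subtype_injective]
      exact ZStar.odd_card_oddCore
    -- every conjugate of `N` contains `A`
    have key : ∀ g : G, c.A ≤ (N.map T.subtype).map (MulAut.conj g).toMonoidHom := by
      intro g
      set N' := ((N.map T.subtype).map (MulAut.conj g).toMonoidHom).subgroupOf T
      haveI : N'.Normal := ⟨fun x hx t => by
        obtain ⟨_, ⟨y, hy, rfl⟩, e⟩ := mem_subgroupOf.1 hx
        have ht : g⁻¹ * (t : G) * g ∈ T := by
          simpa using Subgroup.Normal.conj_mem inferInstance (t : G) t.2 g⁻¹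
        refine mem_subgroupOf.2 ⟨_, ⟨_, hN.conj_mem y hy ⟨_, ht⟩, rfl⟩, ?_⟩
        simp only [MulEquiv.coe_toMonoidHom, MulAut.conj_apply] at e ⊢
        simp only [Subgroup.subtype_apply, Subgroup.coe_mul, InvMemClass.coe_inv, ← e]
        group⟩
      have hN'ne : N' ≠ ⊥ := fun e => hNne (by
        rw [eq_bot_iff]
        intro y hy
        have hgy : g * (y : G) * g⁻¹ ∈ T := Subgroup.Normal.conj_mem inferInstance (y : G) y.2 g
        have hm : (⟨_, hgy⟩ : T) ∈ N' := mem_subgroupOf.2 ⟨_, ⟨y, hy, rfl⟩, rfl⟩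
        rw [e, mem_bot] at hm
        exact mem_bot.2 (Subtype.ext (conj_eq_one_iff.1 (congrArg Subtype.val hm))))
      obtain ⟨w, hw, hw1, hwN⟩ := (c.sub T hST).exists_Z_of_normal hOT N' hN'ne
      have hA' := (c.sub T hST).A_le_of_normal (c.sub_spread hST hsp) N' hw hw1 hwN
      exact fun a ha => mem_subgroupOf.1 (hA' ((c.mem_sub_A (x := ⟨a, hAT ha⟩)).2 ha))
    have hcore : (N.map T.subtype).normalCore = T := by
      refine hmin _ inferInstance ((normalCore_le _).trans (map_subtype_le _)) fun e => hz1 ?_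
      rw [← mem_bot, ← e]
      intro g
      obtain ⟨_, ⟨y, hy, rfl⟩, e'⟩ := key g⁻¹ (c.Z_le_A hz)
      refine ⟨y, hy, ?_⟩
      simp only [MulEquiv.coe_toMonoidHom, MulAut.conj_apply, inv_inv] at e'
      rw [← e']
      group
    refine eq_top_iff.2 fun t _ => ?_
    obtain ⟨y, hy, e⟩ := normalCore_le _ (hcore.symm ▸ t.2 : (t : G) ∈ (N.map T.subtype).normalCore)
    rwa [← Subtype.ext e]

end Crd

end Cfsg.Lib.Syl34
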