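import Cfsg.Agent.Lib.Syl34.EndLocal
import Cfsg.Agent.Lib.Syl34.Simple
import Cfsg.Agent.Lib.Syl34.Embed
import Cfsg.Agent.Lib.Solv.GaschutzAbelian

/-!
# The case of a normal `A`: the field structure on `A` commuting with the group
-/

set_option autoImplicit false
set_option linter.style.haveILetI false
set_option linter.unusedSectionVars false

namespace Cfsg.Lib.Syl34

open Subgroup Cfsg Cfsg.Lib

universe u

section Field

variable {F : Type*} [Field F] [Fintype F] (hF : Fintype.card F = 4)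
include hF

/-- The linearised polynomial of an additive map. -/
theorem additive_form (f : F → F) (hadd : ∀ a b, f (a + b) = f a + f b) {w : F} (w0 : w ≠ 0) (w1 : w ≠ 1)
    (y : F) : f y = (f 1 + (f w + w * f 1)) * y + (f w + w * f 1) * (y * y) := by
  have h0 : f 0 = 0 := by
    have := hadd 0 0
    rw [add_zero] at this
    exact this.trans (field_two hF _)
  have hq := field_quad hF w0 w1
  rcases field_cases hF w0 w1 y with rfl | rfl | rfl | rfl
  · rw [h0]; ring
  · linear_combination -field_two hF (f w + w * f 1)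
  · linear_combination -(f y + y * f 1) * hq + field_two hF (f y)
  · rw [hadd]
    linear_combination -(f w + w * f 1) * hq - field_two hF (w * f 1 + (f w + w * f 1) * w)

/-- The coefficients of a linearised polynomial are determined. -/
theorem additive_coeff {m n m' n' : F} (h : ∀ y, m * y + n * (y * y) = m' * y + n' * (y * y)) :
    m = m' ∧ n = n' := by
  obtain ⟨w, w0, w1⟩ := exists_omega hF
  have h1 := h 1
  have hw := h w
  have hq := field_quad hF w0 w1
  have hn : n = n' := by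
    refine mul_left_cancel₀ (sub_ne_zero.2 w1) (mul_left_cancel₀ w0 ?_)
    linear_combination hw - w * h1
  refine ⟨?_, hn⟩
  subst hn
  linear_combination h1

end Field

variable {G : Type u} [Group G] [Finite G] {F : Type*} [Field F] [Fintype F]

namespace Crd

variable {S : Sylow 2 G} (c : Crd (S : Subgroup G) F)

/-- Multiplication by `k` in the structure given by the line `W = l Y`. -/
noncomputable def om (l : F → F) (k : F) (a : G) : G :=
  c.pt 0 (k * c.Y a) (k * (c.W a + l (c.Y a)) + l (k * c.Y a))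

theorem W_mul_A {a b : G} (ha : a ∈ c.A) (hb : b ∈ c.A) : c.W (a * b) = c.W a + c.W b := by
  rw [c.W_mul ha.1 hb.1, ha.2, zero_mul, add_zero]

theorem ext_A {a b : G} (ha : a ∈ c.A) (hb : b ∈ c.A) (hY : c.Y a = c.Y b) (hW : c.W a = c.W b) : a = b :=
  c.ext ha.1 hb.1 (by rw [ha.2, hb.2]) hY hW

theorem decomp {a : G} (ha : a ∈ c.A) (l : F → F) :
    a = c.pt 0 (c.Y a) (l (c.Y a)) * c.pt 0 0 (c.W a + l (c.Y a)) := by
  refine c.ext_A ha (mul_mem (c.pt_mem_A ..) (c.pt_mem_A ..)) ?_ ?_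
  · rw [c.Y_mul (c.pt_mem ..) (c.pt_mem ..), Y_pt, Y_pt, add_zero]
  · rw [c.W_mul_A (c.pt_mem_A ..) (c.pt_mem_A ..), W_pt, W_pt]
    linear_combination -field_two c.hF (l (c.Y a))

section Line

variable {l : F → F} (hl : ∀ a b, l (a + b) = l a + l b)
include hl

include c in
theorem l_zero : l 0 = 0 := by
  have := hl 0 0
  rw [add_zero] at this
  exact this.trans (field_two c.hF _)

theorem om_mem (k : F) (a : G) : c.om l k a ∈ c.A := c.pt_mem_A ..

theorem om_mul (k : F) {a b : G} (ha : a ∈ c.A) (hb : b ∈ c.A) :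
    c.om l k (a * b) = c.om l k a * c.om l k b := by
  refine c.ext_A (c.pt_mem_A ..) (mul_mem (c.pt_mem_A ..) (c.pt_mem_A ..)) ?_ ?_
  · simp only [om, Y_pt, c.Y_mul (c.pt_mem ..) (c.pt_mem ..), c.Y_mul ha.1 hb.1]; ring
  · simp only [om, W_pt, c.W_mul_A (c.pt_mem_A ..) (c.pt_mem_A ..), c.W_mul_A ha hb, c.Y_mul ha.1 hb.1,
      mul_add, hl]
    ring

theorem om_om (k k' : F) {a : G} (ha : a ∈ c.A) : c.om l k (c.om l k' a) = c.om l (k * k') a := by
  refine c.ext_A (c.pt_mem_A ..) (c.pt_mem_A ..) ?_ ?_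
  · simp only [om, Y_pt]; ring
  · simp only [om, W_pt, Y_pt]
    rw [mul_assoc k k' (c.Y a)]
    linear_combination k * field_two c.hF (l (k' * c.Y a))

theorem om_one {a : G} (ha : a ∈ c.A) : c.om l 1 a = a := by
  refine c.ext_A (c.pt_mem_A ..) ha ?_ ?_
  · simp [om]
  · simp only [om, W_pt, one_mul]
    linear_combination field_two c.hF (l (c.Y a))

theorem om_fpf {k : F} (hk : k ≠ 1) {a : G} (ha : a ∈ c.A) (h : c.om l k a = a) : a = 1 := by
  have hY := congrArg c.Y h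
  simp only [om, Y_pt] at hY
  have hY0 : c.Y a = 0 := by
    by_contra hne
    exact hk ((mul_eq_right₀ hne).1 hY)
  have hW := congrArg c.W h
  simp only [om, W_pt, hY0, mul_zero, c.l_zero hl, add_zero] at hW
  have hW0 : c.W a = 0 := by
    by_contra hne
    exact hk ((mul_eq_right₀ hne).1 hW)
  exact c.ext_A ha (one_mem _) (hY0.trans c.Y_one.symm) (hW0.trans c.W_one.symm)

theorem om_Z (k : F) {z : G} (hz : z ∈ c.Z) : c.om l k z ∈ c.Z := by
  refine c.mem_Z.2 ⟨c.pt_mem .., c.X_pt .., ?_⟩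
  simp [om, hz.2.2]

/-- The elements of `S` commute with the structure of any line. -/
theorem om_S (k : F) {s a : G} (hs : s ∈ (S : Subgroup G)) (ha : a ∈ c.A) :
    c.om l k (s * a * s⁻¹) = s * c.om l k a * s⁻¹ := by
  rw [c.S_conj_A hs ha, c.S_conj_A hs (c.om_mem hl k a)]
  have h1 := c.pt_mem_A 0 (c.X s * c.Y a)
  refine c.ext_A (c.pt_mem_A ..) (mul_mem (c.pt_mem_A ..) (c.om_mem hl k a)) ?_ ?_
  · simp only [om, Y_pt, c.Y_mul (c.pt_mem ..) (c.pt_mem ..), c.Y_mul (c.pt_mem ..) ha.1, zero_add]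
  · simp only [om, W_pt, Y_pt, c.W_mul_A (c.pt_mem_A ..) (c.pt_mem_A ..), c.W_mul_A h1 ha,
      c.Y_mul (c.pt_mem ..) ha.1, zero_add]
    ring

/-- The elements commuting with the structure. -/
def omCent (hAn : c.A.Normal) (k : F) : Subgroup G where
  carrier := {g | ∀ a ∈ c.A, c.om l k (g * a * g⁻¹) = g * c.om l k a * g⁻¹}
  one_mem' := fun a _ => by simp
  mul_mem' := fun {g h} hg hh a ha => by
    rw [conj_conj, hg _ (hAn.conj_mem a ha h), hh a ha, conj_conj]
  inv_mem' := fun {g} hg a ha => by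
    have h1 := hg _ (hAn.conj_mem a ha g⁻¹)
    rw [show g * (g⁻¹ * a * g⁻¹⁻¹) * g⁻¹ = a by group] at h1
    rw [h1]; group

/-- An element normalising `Z` and the line commutes with the structure. -/
theorem mem_omCent_of_line (hAn : c.A.Normal) (k : F) {g : G} (hgZ : g ∈ normalizer (c.Z : Set G))
    (hline : ∀ y, c.W (g * c.pt 0 y (l y) * g⁻¹) = l (c.Y (g * c.pt 0 y (l y) * g⁻¹))) :
    g ∈ c.omCent (l := l) hAn k := by
  obtain ⟨α, β, -, -, hY, hW, -⟩ :=
    c.exists_scal_of_norm (g := g) (by rw [normalizer_eq_top_iff.2 hAn]; exact mem_top g) hgZ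
  have key : ∀ a ∈ c.A, c.W (g * a * g⁻¹) = l (β * c.Y a) + α * β * (c.W a + l (c.Y a)) := by
    intro a ha
    conv_lhs => rw [c.decomp ha l]
    rw [show g * (c.pt 0 (c.Y a) (l (c.Y a)) * c.pt 0 0 (c.W a + l (c.Y a))) * g⁻¹ =
      g * c.pt 0 (c.Y a) (l (c.Y a)) * g⁻¹ * (g * c.pt 0 0 (c.W a + l (c.Y a)) * g⁻¹) by group,
      c.W_mul_A (hAn.conj_mem _ (c.pt_mem_A ..) g) (hAn.conj_mem _ (c.pt_mem_A ..) g), hline,
      hY _ (c.pt_mem_A ..), hW _ (c.pt_mem_Z _), Y_pt, W_pt]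
  intro a ha
  refine c.ext_A (c.pt_mem_A ..) (hAn.conj_mem _ (c.om_mem hl k a) g) ?_ ?_
  · rw [hY _ (c.om_mem hl k a)]
    simp only [om, Y_pt, hY a ha]
    ring
  · rw [key _ (c.om_mem hl k a)]
    simp only [om, W_pt, Y_pt, hY a ha, key a ha]
    rw [show k * (β * c.Y a) = β * (k * c.Y a) by ring]
    linear_combination k * field_two c.hF (l (β * c.Y a)) - α * β * field_two c.hF (l (k * c.Y a))

end Line

/-- With `A` normal and `Z` normal there is an invariant line. -/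
theorem exists_structure_norml (hO : oddCore G = ⊥) (hAn : c.A.Normal) (hN : c.Norml)
    (hC : centralizer (c.A : Set G) = c.A) :
    ∃ (l : F → F) (_ : ∀ a b, l (a + b) = l a + l b), ∀ g : G, ∀ k : F, ∀ a ∈ c.A,
      c.om l k (g * a * g⁻¹) = g * c.om l k a * g⁻¹ := by
  classical
  haveI : Fact (Nat.Prime 2) := ⟨Nat.prime_two⟩
  have hNA : ∀ g : G, g ∈ normalizer (c.A : Set G) := fun g => by
    rw [normalizer_eq_top_iff.2 hAn]; exact mem_top g
  have hNS : ∀ g : G, g ∈ normalizer ((S : Subgroup G) : Set G) := by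
    intro g
    obtain ⟨n, hn, hY, hZ⟩ := c.exists_normS_of_norm (hNA g) (hN (hNA g))
    have hu : c.Unip (n⁻¹ * g) := by
      refine ⟨fun z hz => ?_, fun a ha => ?_⟩
      · rw [conj_conj, hZ z hz]; group
      · have h1 := hAn.conj_mem a ha g
        have h2 := hAn.conj_mem a ha n
        have hz' : g * a * g⁻¹ * (n * a * n⁻¹)⁻¹ ∈ c.Z := c.mem_Z.2 ⟨mul_mem h1.1 (inv_mem h2.1),
          by rw [c.X_mul h1.1 (inv_mem h2.1), c.X_inv h2.1, h1.2, h2.2, add_zero],
          by rw [c.Y_mul h1.1 (inv_mem h2.1), c.Y_inv h2.1, hY a ha]; exact field_two c.hF _⟩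
        have := conj_mem_of_norm (inv_mem (hN (hNA n))) hz'
        rwa [show n⁻¹ * (g * a * g⁻¹ * (n * a * n⁻¹)⁻¹) * n⁻¹⁻¹ = n⁻¹ * g * a * (n⁻¹ * g)⁻¹ * a⁻¹ by
          group] at this
    obtain ⟨s, hs, hact⟩ := c.exists_S_of_unip hu
    have hx : s⁻¹ * (n⁻¹ * g) ∈ c.A := by
      rw [← hC]
      refine mem_centralizer_iff.2 fun a ha => ?_
      refine (mul_inv_eq_iff_eq_mul.1 ?_).symm
      rw [conj_conj, hact a ha]; group
    have : g = n * (s * (s⁻¹ * (n⁻¹ * g))) := by group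
    rw [this]
    exact mul_mem hn (le_normalizer (mul_mem hs hx.1))
  haveI hSn : (S : Subgroup G).Normal := normalizer_eq_top_iff.1 (eq_top_iff.2 fun g _ => hNS g)
  obtain ⟨H, hH⟩ := Subgroup.exists_right_complement'_of_coprime (N := (S : Subgroup G)) S.card_coprime_index
  have hodd : Odd (Nat.card H) := by
    rw [← hH.symm.index_eq_card]
    exact Nat.not_even_iff_odd.1 fun he => S.not_dvd_index (even_iff_two_dvd.1 he)
  haveI := Fintype.ofFinite H
  obtain ⟨w, w0, w1⟩ := exists_omega c.hF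
  -- the linearised polynomial of an element
  have hWadd : ∀ g : G, ∀ y y' : F, c.W (g * c.pt 0 (y + y') 0 * g⁻¹) =
      c.W (g * c.pt 0 y 0 * g⁻¹) + c.W (g * c.pt 0 y' 0 * g⁻¹) := by
    intro g y y'
    rw [← c.W_mul_A (hAn.conj_mem _ (c.pt_mem_A y 0) g) (hAn.conj_mem _ (c.pt_mem_A y' 0) g),
      show g * c.pt 0 y 0 * g⁻¹ * (g * c.pt 0 y' 0 * g⁻¹) = g * (c.pt 0 y 0 * c.pt 0 y' 0) * g⁻¹ by group]
    congr 1
    congr 1
    congr 1
    refine c.ext_A (c.pt_mem_A ..) (mul_mem (c.pt_mem_A ..) (c.pt_mem_A ..)) ?_ ?_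
    · rw [c.Y_mul (c.pt_mem ..) (c.pt_mem ..), Y_pt, Y_pt, Y_pt]
    · rw [c.W_mul_A (c.pt_mem_A ..) (c.pt_mem_A ..), W_pt, W_pt, W_pt, add_zero]
  let nn : G → F := fun g => c.W (g * c.pt 0 w 0 * g⁻¹) + w * c.W (g * c.pt 0 1 0 * g⁻¹)
  let mm : G → F := fun g => c.W (g * c.pt 0 1 0 * g⁻¹) + nn g
  have hform : ∀ g : G, ∀ a ∈ c.A,
      c.W (g * a * g⁻¹) = c.sa g * c.sb g * c.W a + mm g * c.Y a + nn g * (c.Y a * c.Y a) := by
    intro g a ha
    conv_lhs => rw [show a = c.pt 0 (c.Y a) 0 * c.pt 0 0 (c.W a) from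
      c.ext_A ha (mul_mem (c.pt_mem_A ..) (c.pt_mem_A ..))
        (by rw [c.Y_mul (c.pt_mem ..) (c.pt_mem ..), Y_pt, Y_pt, add_zero])
        (by rw [c.W_mul_A (c.pt_mem_A ..) (c.pt_mem_A ..), W_pt, W_pt, zero_add])]
    rw [show g * (c.pt 0 (c.Y a) 0 * c.pt 0 0 (c.W a)) * g⁻¹ =
      g * c.pt 0 (c.Y a) 0 * g⁻¹ * (g * c.pt 0 0 (c.W a) * g⁻¹) by group,
      c.W_mul_A (hAn.conj_mem _ (c.pt_mem_A ..) g) (hAn.conj_mem _ (c.pt_mem_A ..) g),
      (c.scal (hNS g)).2.1 _ (c.pt_mem_Z _), W_pt,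
      additive_form c.hF (fun y => c.W (g * c.pt 0 y 0 * g⁻¹)) (hWadd g) w0 w1 (c.Y a)]
    ring
  have hcoc : ∀ g h : G, mm (g * h) = c.sa g * c.sb g * mm h + mm g * c.sb h ∧
      nn (g * h) = c.sa g * c.sb g * nn h + nn g * (c.sb h * c.sb h) := by
    intro g h
    refine additive_coeff c.hF fun y => ?_
    have h1 := hform (g * h) _ (c.pt_mem_A y 0)
    rw [conj_conj, hform g _ (hAn.conj_mem _ (c.pt_mem_A y 0) h), hform h _ (c.pt_mem_A y 0),
      ((c.scal (hNS h)).1 _ (c.pt_mem ..)).2, W_pt, Y_pt] at h1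
    linear_combination -h1
  have hb0 : ∀ g : G, c.sb g ≠ 0 := fun g => (c.scal (hNS g)).2.2.2
  have hsb : ∀ g h : G, c.sb (g * h) = c.sb g * c.sb h := fun g h => (c.sa_mul (hNS g) (hNS h)).2
  let U : G → F := fun g => mm g / c.sb g
  let V : G → F := fun g => nn g / (c.sb g * c.sb g)
  have hU : ∀ g h, U (g * h) = c.sa g * U h + U g := by
    intro g h
    have := hb0 g
    have := hb0 h
    simp only [U, (hcoc g h).1, hsb]
    field_simp
    try ring
  have hV : ∀ g h, V (g * h) = c.sa g / c.sb g * V h + V g := by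
    intro g h
    have := hb0 g
    have := hb0 h
    simp only [V, (hcoc g h).2, hsb]
    field_simp
    try ring
  have havg : ∀ (T : G → F) (r : G → F), (∀ g h, T (g * h) = r g * T h + T g) → ∀ g : H,
      r g * (∑ h : H, T h) + T g = ∑ h : H, T h := by
    intro T r hT g
    obtain ⟨j, hj⟩ := hodd
    have h1 : ∑ h : H, T ((g : G) * h) = ∑ h : H, T h :=
      Fintype.sum_equiv (Equiv.mulLeft g) _ _ fun h => rfl
    simp only [hT, Finset.sum_add_distrib, ← Finset.mul_sum, Finset.sum_const, Finset.card_univ,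
      ← Nat.card_eq_fintype_card, hj, nsmul_eq_mul] at h1
    push_cast at h1
    linear_combination h1 - (j : F) * field_two c.hF (T g)
  set u := ∑ h : H, U h
  set v := ∑ h : H, V h
  let l : F → F := fun y => u * y + v * (y * y)
  have hl : ∀ a b, l (a + b) = l a + l b := fun a b => by
    simp only [l]; linear_combination field_two c.hF (v * (a * b))
  refine ⟨l, hl, fun g k => ?_⟩
  suffices g ∈ c.omCent (l := l) hAn k from this
  obtain ⟨⟨s, h⟩, rfl, -⟩ := (Subgroup.isComplement'_def.1 hH).existsUnique g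
  refine mul_mem (fun a ha => c.om_S hl k s.2 ha) (c.mem_omCent_of_line hl hAn k (hN (hNA _)) fun y => ?_)
  rw [hform _ _ (c.pt_mem_A ..), ((c.scal (hNS h)).1 _ (c.pt_mem ..)).2, W_pt, Y_pt]
  have e1 := havg U c.sa hU h
  have e2 := havg V (fun g => c.sa g / c.sb g) hV h
  have := hb0 (h : G)
  change c.sa (h : G) * u + mm (h : G) / c.sb (h : G) = u at e1
  change c.sa (h : G) / c.sb (h : G) * v + nn (h : G) / (c.sb (h : G) * c.sb (h : G)) = v at e2
  field_simp at e1 e2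
  simp only [l]
  linear_combination y * e1 + y * y * e2

/-- With `A` normal and `Z` not normal the lines give the structure. -/
theorem exists_structure_spread (hAn : c.A.Normal) (hsp : ¬ c.Norml) :
    ∃ (l : F → F) (_ : ∀ a b, l (a + b) = l a + l b), ∀ g : G, ∀ k : F, ∀ a ∈ c.A,
      c.om l k (g * a * g⁻¹) = g * c.om l k a * g⁻¹ := by
  classical
  haveI : Fact (Nat.Prime 2) := ⟨Nat.prime_two⟩
  have hNA : ∀ g : G, g ∈ normalizer (c.A : Set G) := fun g => by
    rw [normalizer_eq_top_iff.2 hAn]; exact mem_top g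
  obtain ⟨h, -, hhZ⟩ := SetLike.not_le_iff_exists.1 hsp
  have hnot : ∀ {z : G}, z ∈ c.Z → z ≠ 1 → h * z * h⁻¹ ∉ c.Z := fun hz h1 e =>
    hhZ (c.norm_Z_of_meet (hNA h) hz h1 e)
  -- the coordinate of the line
  let Ψ : c.Z → F := fun z => c.Y (h * z * h⁻¹)
  have hΨadd : ∀ z z' : c.Z, Ψ (z * z') = Ψ z + Ψ z' := fun z z' => by
    simp only [Ψ, Subgroup.coe_mul]
    rw [show h * ((z : G) * z') * h⁻¹ = h * z * h⁻¹ * (h * z' * h⁻¹) by group,
      c.Y_mul (hAn.conj_mem _ z.2.1 h).1 (hAn.conj_mem _ z'.2.1 h).1]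
  have hinj : Function.Injective Ψ := fun z z' e => by
    by_contra hne
    have h0 : Ψ (z * z') = 0 := by rw [hΨadd, e]; exact field_two c.hF _
    have hA' := hAn.conj_mem _ (mul_mem z.2.1 z'.2.1) h
    refine hnot (mul_mem z.2 z'.2) (fun e' => hne (Subtype.ext ?_)) (c.mem_Z.2 ⟨hA'.1, hA'.2, h0⟩)
    calc (z : G) = (z : G) * z' * z' := by rw [mul_assoc, c.sq_Z z'.2, mul_one]
      _ = z' := by rw [e', one_mul]
  have hbij := (Nat.bijective_iff_injective_and_card Ψ).2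
    ⟨hinj, by rw [c.card_Z, Nat.card_eq_fintype_card, c.hF]⟩
  let Φ := Equiv.ofBijective Ψ hbij
  let l : F → F := fun y => c.W (h * (Φ.symm y : G) * h⁻¹)
  have hΦY : ∀ y, c.Y (h * (Φ.symm y : G) * h⁻¹) = y := fun y => Φ.apply_symm_apply y
  have hl : ∀ a b, l (a + b) = l a + l b := fun a b => by
    have e : Φ.symm (a + b) = Φ.symm a * Φ.symm b := hinj (by
      rw [hΨadd]; show Φ (Φ.symm (a + b)) = Φ (Φ.symm a) + Φ (Φ.symm b)
      simp only [Equiv.apply_symm_apply])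
    simp only [l, e, Subgroup.coe_mul]
    rw [← c.W_mul_A (hAn.conj_mem _ (Φ.symm a).2.1 h) (hAn.conj_mem _ (Φ.symm b).2.1 h)]
    congr 1
    group
  -- the line is the conjugate of `Z`
  have hline : ∀ a ∈ c.A, c.W a = l (c.Y a) → h⁻¹ * a * h ∈ c.Z := by
    intro a ha e
    have : a = h * (Φ.symm (c.Y a) : G) * h⁻¹ :=
      c.ext_A ha (hAn.conj_mem _ (Φ.symm _).2.1 h) (hΦY _).symm e
    rw [this, show h⁻¹ * (h * (Φ.symm (c.Y a) : G) * h⁻¹) * h = (Φ.symm (c.Y a) : G) by group]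
    exact (Φ.symm _).2
  have hline' : ∀ z ∈ c.Z, c.W (h * z * h⁻¹) = l (c.Y (h * z * h⁻¹)) := fun z hz => by
    show _ = c.W (h * (Φ.symm (Ψ ⟨z, hz⟩) : G) * h⁻¹)
    rw [show Φ.symm (Ψ ⟨z, hz⟩) = (⟨z, hz⟩ : c.Z) from Φ.symm_apply_apply _]
  -- every conjugate of `Z` is preserved by the structure
  have hpres : ∀ (k : F) (g z : G), z ∈ c.Z → g⁻¹ * c.om l k (g * z * g⁻¹) * g ∈ c.Z := by
    intro k g z hz
    have hgA := hAn.conj_mem _ hz.1 g
    by_cases hgz : g * z * g⁻¹ ∈ c.Z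
    · rcases eq_or_ne z 1 with rfl | h1
      · have h' : c.om l k 1 = 1 := by
          simp [om, c.Y_one, c.W_one, c.l_zero hl]
          exact c.ext_A (c.pt_mem_A 0 0) (one_mem _) (by simp [c.Y_one]) (by simp [c.W_one])
        rw [mul_one, mul_inv_cancel, h', mul_one, inv_mul_cancel]
        exact one_mem _
      · have := conj_mem_of_norm (inv_mem (c.norm_Z_of_meet (hNA g) hz h1 hgz)) (c.om_Z hl k hgz)
        rwa [inv_inv] at this
    · set a := g * z * g⁻¹ with ha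
      have hy : c.Y a ≠ 0 := fun e => hgz (c.mem_Z.2 ⟨hgA.1, hgA.2, e⟩)
      have h1 : z ≠ 1 := fun e => hgz (by rw [ha, e, mul_one, mul_inv_cancel]; exact one_mem _)
      obtain ⟨x, hx⟩ : ∃ x : F, x * c.Y a + c.W a = l (c.Y a) :=
        ⟨(l (c.Y a) - c.W a) / c.Y a, by rw [div_mul_cancel₀ _ hy]; ring⟩
      set s := c.pt x 0 0
      have hs : s ∈ (S : Subgroup G) := c.pt_mem ..
      have hb := hline _ (c.A_conj hs hgA) (by
        rw [c.S_conj_A hs hgA, c.W_mul_A (c.pt_mem_A ..) hgA, c.Y_mul (c.pt_mem ..) hgA.1, W_pt, Y_pt,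
          zero_add, X_pt]
        exact hx)
      set m := h⁻¹ * s * g
      have hm : m ∈ normalizer (c.Z : Set G) := c.norm_Z_of_meet (hNA m) hz h1 (by
        rwa [show m * z * m⁻¹ = h⁻¹ * (s * (g * z * g⁻¹) * s⁻¹) * h by simp only [m]; group])
      -- the structure preserves the line
      have hom : h⁻¹ * c.om l k (s * a * s⁻¹) * h ∈ c.Z := by
        refine hline _ (c.om_mem hl k _) ?_
        have hb' : c.W (s * a * s⁻¹) = l (c.Y (s * a * s⁻¹)) := by
          have := hline' _ hb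
          rwa [show h * (h⁻¹ * (s * a * s⁻¹) * h) * h⁻¹ = s * a * s⁻¹ by group] at this
        simp only [om, W_pt, Y_pt, hb']
        linear_combination k * field_two c.hF (l (c.Y (s * a * s⁻¹)))
      rw [c.om_S hl k hs hgA] at hom
      have := conj_mem_of_norm (inv_mem hm) hom
      rwa [show m⁻¹ * (h⁻¹ * (s * c.om l k a * s⁻¹) * h) * m⁻¹⁻¹ = g⁻¹ * c.om l k a * g by
        simp only [m]; group] at this
  obtain ⟨w, w0, w1⟩ := exists_omega c.hF
  -- the transform of multiplication by `w` is a scalar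
  have htw : ∀ g : G, ∃ r : F, ∀ a ∈ c.A, g⁻¹ * c.om l w (g * a * g⁻¹) * g = c.om l r a := by
    intro g
    let φ : G → G := fun a => g⁻¹ * c.om l w (g * a * g⁻¹) * g
    have hφA : ∀ a, φ a ∈ c.A := fun a => by
      simpa using hAn.conj_mem _ (c.om_mem hl w (g * a * g⁻¹)) g⁻¹
    have hφmul : ∀ a ∈ c.A, ∀ b ∈ c.A, φ (a * b) = φ a * φ b := by
      intro a ha b hb
      simp only [φ]
      rw [show g * (a * b) * g⁻¹ = g * a * g⁻¹ * (g * b * g⁻¹) by group,
        c.om_mul hl w (hAn.conj_mem a ha g) (hAn.conj_mem b hb g)]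
      group
    have hφl : ∀ (e z : G), z ∈ c.Z → e⁻¹ * φ (e * z * e⁻¹) * e ∈ c.Z := fun e z hz => by
      have := hpres w (g * e) z hz
      rwa [show g * e * z * (g * e)⁻¹ = g * (e * z * e⁻¹) * g⁻¹ by group,
        show (g * e)⁻¹ * c.om l w (g * (e * z * e⁻¹) * g⁻¹) * (g * e) = e⁻¹ * φ (e * z * e⁻¹) * e by
          simp only [φ]; group] at this
    let f : F → F := fun v => c.W (φ (c.pt 0 0 v))
    let e' : F → F := fun y => c.Y (φ (c.pt 0 y (l y)))
    have hfZ : ∀ v, φ (c.pt 0 0 v) ∈ c.Z := fun v => by simpa using hφl 1 _ (c.pt_mem_Z v)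
    have hkey : ∀ x y, f (x * y) = x * e' y := by
      intro x y
      have hs : c.pt x 0 0 ∈ (S : Subgroup G) := c.pt_mem ..
      set q := h⁻¹ * c.pt 0 y (l y) * h
      have hq : q ∈ c.Z := hline _ (c.pt_mem_A ..) (by simp)
      have h0 := hφl (c.pt x 0 0 * h) q hq
      rw [show c.pt x 0 0 * h * q * (c.pt x 0 0 * h)⁻¹ = c.pt x 0 0 * c.pt 0 y (l y) * (c.pt x 0 0)⁻¹ by
        simp only [q]; group, c.S_conj_A hs (c.pt_mem_A ..), X_pt, Y_pt,
        hφmul _ (c.pt_mem_A ..) _ (c.pt_mem_A ..)] at h0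
      have h0' := hline' _ h0
      rw [show h * ((c.pt x 0 0 * h)⁻¹ * (φ (c.pt 0 0 (x * y)) * φ (c.pt 0 y (l y))) * (c.pt x 0 0 * h)) * h⁻¹ =
        (c.pt x 0 0)⁻¹ * (φ (c.pt 0 0 (x * y)) * φ (c.pt 0 y (l y))) * (c.pt x 0 0)⁻¹⁻¹ by group,
        c.S_conj_A (inv_mem hs) (mul_mem (hfZ _).1 (hφA _)),
        c.W_mul_A (c.pt_mem_A ..) (mul_mem (hfZ _).1 (hφA _)), c.Y_mul (c.pt_mem ..) (mul_mem (hfZ _).1 (hφA _)).1,
        W_pt, Y_pt, zero_add, c.X_inv hs, X_pt, c.W_mul_A (hfZ _).1 (hφA _),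
        c.Y_mul (hfZ _).1.1 (hφA _).1, (hfZ _).2.2, zero_add] at h0'
      -- the line itself
      have h1 := hφl h q hq
      rw [show h * q * h⁻¹ = c.pt 0 y (l y) by simp only [q]; group] at h1
      have h1' := hline' _ h1
      rw [show h * (h⁻¹ * φ (c.pt 0 y (l y)) * h) * h⁻¹ = φ (c.pt 0 y (l y)) by group] at h1'
      simp only [f, e']
      linear_combination h0' - h1' - field_two c.hF (x * c.Y (φ (c.pt 0 y (l y))))
    set r := e' 1
    refine ⟨r, fun a ha => ?_⟩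
    have hf : ∀ v, f v = r * v := fun v => by
      have := hkey v 1
      rw [mul_one] at this
      rw [this, mul_comm]
    have he : ∀ y, e' y = r * y := fun y => by
      have := hkey 1 y
      rw [one_mul, one_mul, hf] at this
      exact this.symm
    show φ a = _
    conv_lhs => rw [c.decomp ha l, hφmul _ (c.pt_mem_A ..) _ (c.pt_mem_A ..)]
    have hlw : c.W (φ (c.pt 0 (c.Y a) (l (c.Y a)))) = l (e' (c.Y a)) := by
      have hq : h⁻¹ * c.pt 0 (c.Y a) (l (c.Y a)) * h ∈ c.Z := hline _ (c.pt_mem_A ..) (by simp)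
      have h1 := hφl h _ hq
      rw [show h * (h⁻¹ * c.pt 0 (c.Y a) (l (c.Y a)) * h) * h⁻¹ = c.pt 0 (c.Y a) (l (c.Y a)) by group] at h1
      have h1' := hline' _ h1
      rwa [show h * (h⁻¹ * φ (c.pt 0 (c.Y a) (l (c.Y a))) * h) * h⁻¹ = φ (c.pt 0 (c.Y a) (l (c.Y a))) by
        group] at h1'
    refine c.ext_A (mul_mem (hφA _) (hφA _)) (c.om_mem hl r a) ?_ ?_
    · rw [c.Y_mul (hφA _).1 (hφA _).1, (hfZ _).2.2, add_zero]
      simp only [om, Y_pt]
      exact he _
    · rw [c.W_mul_A (hφA _) (hφA _), hlw, he]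
      simp only [om, W_pt]
      have := hf (c.W a + l (c.Y a))
      simp only [f] at this
      rw [this]
      ring
  refine ⟨l, hl, ?_⟩
  -- only two scalars occur
  have hrw : ∀ g : G, ∀ r : F, (∀ a ∈ c.A, g⁻¹ * c.om l w (g * a * g⁻¹) * g = c.om l r a) →
      r = w ∨ r = w * w := by
    intro g r hr
    have hz := c.pt_mem_A 0 (1 : F)
    have hne : c.pt 0 0 (1 : F) ≠ 1 := fun e => one_ne_zero (α := F) (by
      have := congrArg c.W e; rwa [W_pt, c.W_one] at this)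
    have h := hr _ hz
    have hga := hAn.conj_mem _ hz g
    rcases field_cases c.hF w0 w1 r with e | e | e | e
    · exfalso
      have h0 : c.om l r (c.pt 0 0 1) = 1 :=
        c.ext_A (c.om_mem hl _ _) (one_mem _) (by simp [om, e, c.Y_one]) (by simp [om, e, c.W_one, c.l_zero hl])
      rw [h0] at h
      have h' : c.om l w (g * c.pt 0 0 1 * g⁻¹) = 1 := by
        rw [← inv_mul_cancel g] at h
        exact mul_left_cancel (a := g⁻¹) (mul_right_cancel (b := g) (h.trans (by group)))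
      have h'' := congrArg (c.om l (w * w)) h'
      rw [c.om_om hl _ _ hga, show w * w * w = 1 from field_cube c.hF w0, c.om_one hl hga] at h''
      have h1 : c.om l (w * w) 1 = 1 :=
        c.ext_A (c.om_mem hl _ _) (one_mem _) (by simp [om, c.Y_one]) (by simp [om, c.W_one, c.Y_one, c.l_zero hl])
      exact hne (conj_eq_one_iff.1 (h''.trans h1))
    · exfalso
      rw [e, c.om_one hl hz] at h
      refine hne (conj_eq_one_iff.1 (c.om_fpf hl w1 hga ?_))
      conv_rhs => rw [← h]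
      group
    · exact Or.inl e
    · exact Or.inr (e.trans (by linear_combination -field_quad c.hF w0 w1 + field_two c.hF (w + 1)))
  set P := c.omCent (l := l) hAn w
  have hmemP : ∀ g : G, (∀ a ∈ c.A, g⁻¹ * c.om l w (g * a * g⁻¹) * g = c.om l w a) → g ∈ P :=
    fun g hg a ha => by rw [← hg a ha]; group
  have hsq : ∀ g : G, g * g ∈ P := by
    intro g
    obtain ⟨r, hr⟩ := htw g
    rcases hrw g r hr with e | e
    · have : g ∈ P := hmemP g (e ▸ hr)
      exact mul_mem this this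
    · refine hmemP _ fun a ha => ?_
      have hga := hAn.conj_mem a ha g
      have hr' : ∀ x ∈ c.A, g⁻¹ * c.om l (w * w) (g * x * g⁻¹) * g = c.om l w x := fun x hx => by
        have hgx := hAn.conj_mem x hx g
        have h1 : c.om l w (g * x * g⁻¹) = g * c.om l r x * g⁻¹ := by rw [← hr x hx]; group
        rw [← c.om_om hl w w hgx, h1, hr _ (c.om_mem hl r x), c.om_om hl r r hx, e,
          show w * w * (w * w) = w by linear_combination w * field_cube c.hF w0]
      have h2 := hr _ hga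
      rw [show g * g * a * (g * g)⁻¹ = g * (g * a * g⁻¹) * g⁻¹ by group, mul_inv_rev,
        show g⁻¹ * g⁻¹ * c.om l w (g * (g * a * g⁻¹) * g⁻¹) * (g * g) =
          g⁻¹ * (g⁻¹ * c.om l w (g * (g * a * g⁻¹) * g⁻¹) * g) * g by group, h2, e, hr' a ha]
  have htwo : ∀ t : G, ∀ i : ℕ, orderOf t ∣ 2 ^ i → t ∈ P := by
    intro t i hi
    obtain ⟨j, -, hj⟩ := (Nat.dvd_prime_pow Nat.prime_two).1 hi
    obtain ⟨m, hm⟩ := Invol.exists_conj_mem_sylow S (K := zpowers t)
      (IsPGroup.of_card (n := j) (by rw [Nat.card_zpowers, hj]))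
    set s := m * t * m⁻¹ with hs'
    have hs : s ∈ (S : Subgroup G) := hm t (mem_zpowers t)
    obtain ⟨r, hr⟩ := htw m⁻¹
    intro a ha
    have h1 : c.om l w (m⁻¹ * (s * (m * a * m⁻¹) * s⁻¹) * m⁻¹⁻¹) =
        m⁻¹ * c.om l r (s * (m * a * m⁻¹) * s⁻¹) * m := by
      rw [← hr _ (c.A_conj hs (hAn.conj_mem a ha m))]; group
    have h2 : c.om l r (m * a * m⁻¹) = m * c.om l w a * m⁻¹ := by
      rw [← hr _ (hAn.conj_mem a ha m), show m⁻¹ * (m * a * m⁻¹) * m⁻¹⁻¹ = a by group]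
      group
    rw [c.om_S hl r hs (hAn.conj_mem a ha m), h2] at h1
    calc c.om l w (t * a * t⁻¹) = c.om l w (m⁻¹ * (s * (m * a * m⁻¹) * s⁻¹) * m⁻¹⁻¹) := by
          rw [hs']; group
      _ = _ := h1
      _ = t * c.om l w a * t⁻¹ := by rw [hs']; group
  have hall : ∀ g : G, g ∈ P := by
    intro g
    obtain ⟨i, d, ⟨j, rfl⟩, hid⟩ := Nat.exists_eq_two_pow_mul_odd (n := orderOf g) (orderOf_pos g).ne'
    have h1 : g ^ (2 * j + 1) ∈ P := htwo _ i
      (orderOf_dvd_of_pow_eq_one (by rw [← pow_mul, mul_comm, ← hid, pow_orderOf_eq_one]))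
    have h2 := inv_mem (pow_mem (hsq g) j)
    have := mul_mem h1 h2
    rwa [← pow_two, ← pow_mul, pow_succ', mul_assoc, mul_inv_cancel, mul_one] at this
  intro g k a ha
  have hga := hAn.conj_mem a ha g
  have hw : c.om l w (g * a * g⁻¹) = g * c.om l w a * g⁻¹ := hall g a ha
  rcases field_cases c.hF w0 w1 k with e | e | e | e
  · have hz : ∀ b, c.om l 0 b = 1 := fun b =>
      c.ext_A (c.om_mem hl 0 b) (one_mem _) (by simp [om, c.Y_one]) (by simp [om, c.W_one, c.l_zero hl])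
    rw [e, hz, hz, mul_one, mul_inv_cancel]
  · rw [e, c.om_one hl hga, c.om_one hl ha]
  · rw [e, hw]
  · have h2 : k = w * w := e.trans (by linear_combination -field_quad c.hF w0 w1 + field_two c.hF (w + 1))
    rw [h2, ← c.om_om hl w w hga, hw, hall g _ (c.om_mem hl w a), c.om_om hl w w ha]

/-- A group of type `L₃(4)` with trivial odd core and normal `A` lies in `PGL₃(4)`. -/
theorem embed_of_normal_A (hO : oddCore G = ⊥) (hAn : c.A.Normal) :
    ∃ f : G →* GL (Fin 3) F ⧸ Subgroup.center (GL (Fin 3) F), Function.Injective f := by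
  classical
  haveI : Fact (Nat.Prime 2) := ⟨Nat.prime_two⟩
  haveI := hAn
  haveI hcm : IsMulCommutative c.A := ⟨⟨fun a b => Subtype.ext (c.commute_A a.2 b.2).eq⟩⟩
  -- `A` is its own centraliser
  have hC : centralizer (c.A : Set G) = c.A := by
    refine le_antisymm ?_ fun a ha => mem_centralizer_iff.2 fun b hb => (c.commute_A hb ha).eq
    set C := centralizer (c.A : Set G)
    have hAC : ∀ x ∈ C, ∀ a ∈ c.A, Commute x a := fun x hx a ha => (mem_centralizer_iff.1 hx a ha).symm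
    have hCS : ∀ x ∈ C, x ∈ (S : Subgroup G) → x ∈ c.A := fun x hx hxS =>
      c.mem_A_of_commute (c.pt_mem_A 1 0) (fun h => by simpa using h.2.2) hxS (hAC x hx _ (c.pt_mem_A ..))
    obtain ⟨Q, hQ⟩ := exists_sylow_inf S C
    have hCp : IsPGroup 2 C := normal_twoGroup hO C Q fun g _ => mem_centralizer_iff.2 fun q hq =>
      Subtype.ext (hAC g g.2 _ (hCS _ q.2 (mem_subgroupOf.1 (hQ ▸ hq)))).eq.symm
    exact fun x hx => hCS x hx (le_sylow_of_normal C hCp S hx)
  -- a complement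
  obtain ⟨K, hK⟩ : ∃ K : Subgroup G, c.A.IsComplement' K := by
    let B₀ : Subgroup G :=
      { carrier := {s | s ∈ (S : Subgroup G) ∧ c.Y s = 0 ∧ c.W s = 0}
        one_mem' := ⟨one_mem _, c.Y_one, c.W_one⟩
        mul_mem' := fun {a b} ha hb => ⟨mul_mem ha.1 hb.1, by rw [c.Y_mul ha.1 hb.1, ha.2.1, hb.2.1, add_zero],
          by rw [c.W_mul ha.1 hb.1, ha.2.2, hb.2.2, hb.2.1, mul_zero, add_zero, add_zero]⟩
        inv_mem' := fun {a} ha => ⟨inv_mem ha.1, by rw [c.Y_inv ha.1, ha.2.1],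
          by rw [c.W_inv ha.1, ha.2.2, ha.2.1, mul_zero, add_zero]⟩ }
    refine GaschutzAbelian.exists_complement c.A (S : Subgroup G) c.A_le ?_ B₀ (fun s hs => hs.1) ?_ ?_
    · rw [c.card_A, show (16 : ℕ) = 2 ^ 4 from rfl]
      exact (Nat.prime_two.coprime_iff_not_dvd.2 S.not_dvd_index).pow_left 4
    · refine (Subgroup.eq_bot_iff_forall _).2 fun s hs => ?_
      obtain ⟨h1, h2⟩ := Subgroup.mem_inf.1 hs
      exact c.ext_A h2 (one_mem _) (h1.2.1.trans c.Y_one.symm) (h1.2.2.trans c.W_one.symm)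
    · refine le_antisymm (sup_le c.A_le fun s hs => hs.1) fun s hs => ?_
      set b := c.pt (c.X s) 0 0
      have hb : b ∈ B₀ := ⟨c.pt_mem .., c.Y_pt .., c.W_pt ..⟩
      have ha : s * b⁻¹ ∈ c.A := ⟨mul_mem hs (inv_mem (c.pt_mem ..)), by
        rw [c.X_mul hs (inv_mem (c.pt_mem ..)), c.X_inv (c.pt_mem ..), X_pt]; exact field_two c.hF _⟩
      simpa using mul_mem (le_sup_left (b := B₀) ha) (le_sup_right (a := c.A) hb)
  obtain ⟨l, hl, hcomm⟩ : ∃ (l : F → F) (_ : ∀ a b, l (a + b) = l a + l b), ∀ g : G, ∀ k : F, ∀ a ∈ c.A,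
      c.om l k (g * a * g⁻¹) = g * c.om l k a * g⁻¹ := by
    by_cases hN : c.Norml
    · exact c.exists_structure_norml hO hAn hN hC
    · exact c.exists_structure_spread hAn hN
  obtain ⟨w, w0, w1⟩ := exists_omega c.hF
  let ω : MulAut c.A :=
    { toFun := fun a => ⟨c.om l w a, c.om_mem hl w a⟩
      invFun := fun a => ⟨c.om l (w * w) a, c.om_mem hl _ a⟩
      left_inv := fun a => Subtype.ext (by
        show c.om l (w * w) (c.om l w a) = a
        rw [c.om_om hl _ _ a.2, field_cube c.hF w0, c.om_one hl a.2])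
      right_inv := fun a => Subtype.ext (by
        show c.om l w (c.om l (w * w) a) = a
        rw [c.om_om hl _ _ a.2, ← mul_assoc, field_cube c.hF w0, c.om_one hl a.2])
      map_mul' := fun a b => Subtype.ext (c.om_mul hl w a.2 b.2) }
  have hfpf : ∀ a, ω a = a → a = 1 := fun a e =>
    Subtype.ext (c.om_fpf hl w1 a.2 (congrArg Subtype.val e))
  refine embed_of_affine c.hF c.A ⟨hcm, fun a ha => by rw [pow_two]; exact c.sq_A ha⟩ c.card_A hC K hK ω ?_
    hfpf fun g => MulEquiv.ext fun a => Subtype.ext ?_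
  · haveI : Fact (Nat.Prime 3) := ⟨Nat.prime_three⟩
    refine orderOf_eq_prime (MulEquiv.ext fun a => Subtype.ext ?_) fun e => ?_
    · show c.om l w (c.om l w (c.om l w a)) = a
      rw [c.om_om hl _ _ a.2, c.om_om hl _ _ a.2, ← mul_assoc, field_cube c.hF w0, c.om_one hl a.2]
    · have := congrArg c.W (congrArg Subtype.val
        (hfpf ⟨c.pt 0 0 1, c.pt_mem_A ..⟩ (by rw [e]; rfl)))
      simp [c.W_one] at this
  · show c.om l w (g * a * g⁻¹) = g * c.om l w a * g⁻¹
    exact hcomm g w a a.2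

end Crd

end Cfsg.Lib.Syl34
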