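import Cfsg.Agent.Lib.Syl34.Loc

/-!
# The automiser of a maximal elementary abelian subgroup on the stabiliser of the centre
-/

set_option autoImplicit false
set_option linter.style.haveILetI false
set_option linter.unusedSectionVars false

namespace Cfsg.Lib.Syl34

open Subgroup Cfsg.Lib

variable {G : Type*} [Group G] {F : Type*} [Field F] [Fintype F]

/-- Conjugation by a product. -/
theorem conj_conj (g h a : G) : g * h * a * (g * h)⁻¹ = g * (h * a * h⁻¹) * g⁻¹ := by group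

namespace Crd

variable {S : Sylow 2 G} (c : Crd (S : Subgroup G) F)

/-- Every element of the normaliser of `A` normalises `Z`. -/
def Norml : Prop := normalizer (c.A : Set G) ≤ normalizer (c.Z : Set G)

/-- The elements trivial on `Z` and on `A/Z`. -/
def Unip (g : G) : Prop :=
  (∀ z ∈ c.Z, g * z * g⁻¹ = z) ∧ ∀ a ∈ c.A, g * a * g⁻¹ * a⁻¹ ∈ c.Z

variable {c}

theorem Unip.mem_A {g a : G} (hg : c.Unip g) (ha : a ∈ c.A) : g * a * g⁻¹ ∈ c.A := by
  have := mul_mem (hg.2 a ha).1 ha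
  rwa [inv_mul_cancel_right] at this

theorem unip_one : c.Unip 1 := ⟨fun z _ => by group, fun a _ => by simp [c.Z.one_mem]⟩

theorem Unip.mul {g h : G} (hg : c.Unip g) (hh : c.Unip h) : c.Unip (g * h) :=
  ⟨fun z hz => by rw [conj_conj, hh.1 z hz, hg.1 z hz], fun a ha => by
    have h1 := hh.2 a ha
    have h2 := hg.2 _ (hh.mem_A ha)
    have := mul_mem h2 h1
    rwa [show g * (h * a * h⁻¹) * g⁻¹ * (h * a * h⁻¹)⁻¹ * (h * a * h⁻¹ * a⁻¹) =
      g * h * a * (g * h)⁻¹ * a⁻¹ by group] at this⟩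

/-- The action of an element trivial on `Z` and `A/Z` is translation by an element of `Z`. -/
theorem Unip.conj_eq {g a : G} (hg : c.Unip g) (ha : a ∈ c.A) :
    ∃ u ∈ c.Z, g * a * g⁻¹ = u * a ∧ g * (u * a) * g⁻¹ = a := by
  refine ⟨_, hg.2 a ha, by group, ?_⟩
  rw [show g * (g * a * g⁻¹ * a⁻¹ * a) * g⁻¹ =
    g * (g * a * g⁻¹ * a⁻¹) * g⁻¹ * (g * a * g⁻¹ * a⁻¹) * a by group, hg.1 _ (hg.2 a ha),
    c.sq_Z (hg.2 a ha), one_mul]

theorem Unip.sq {g a : G} (hg : c.Unip g) (ha : a ∈ c.A) : g * g * a * (g * g)⁻¹ = a := by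
  obtain ⟨u, -, h1, h2⟩ := hg.conj_eq ha
  rw [conj_conj, h1, h2]

theorem Unip.comm {g h a : G} (hg : c.Unip g) (hh : c.Unip h) (ha : a ∈ c.A) :
    g * h * a * (g * h)⁻¹ = h * g * a * (h * g)⁻¹ := by
  obtain ⟨u, hu, h1, -⟩ := hg.conj_eq ha
  obtain ⟨v, hv, h2, -⟩ := hh.conj_eq ha
  rw [conj_conj, conj_conj, h1, h2, show g * (v * a) * g⁻¹ = g * v * g⁻¹ * (g * a * g⁻¹) by group,
    show h * (u * a) * h⁻¹ = h * u * h⁻¹ * (h * a * h⁻¹) by group, hg.1 v hv, hh.1 u hu, h1, h2,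
    ← mul_assoc, ← mul_assoc, (c.commute_Z hv (c.Z_le hu)).eq]

variable (c)

theorem unip_of_mem {s : G} (hs : s ∈ (S : Subgroup G)) : c.Unip s := by
  refine ⟨fun z hz => ?_, fun a ha => ?_⟩
  · rw [← (c.commute_Z hz hs).eq, mul_inv_cancel_right]
  · obtain ⟨h1, h2, -⟩ := c.comm_coords hs ha.1
    exact c.mem_Z.2 ⟨mul_mem (mul_mem (mul_mem hs ha.1) (inv_mem hs)) (inv_mem ha.1), h1, h2⟩

theorem unip_of_centralizes {g : G} (h : ∀ a ∈ c.A, g * a * g⁻¹ = a) : c.Unip g :=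
  ⟨fun z hz => h z hz.1, fun a ha => by rw [h a ha, mul_inv_cancel]; exact c.Z.one_mem⟩

/-- The subgroup of elements trivial on `Z` and on `A/Z`. -/
def unipSub [Finite G] : Subgroup G :=
  subgroupOfFinite {g | c.Unip g} unip_one (fun hg hh => hg.mul hh)
where
  /-- A finite submonoid is a subgroup. -/
  subgroupOfFinite [Finite G] (s : Set G) (h1 : (1 : G) ∈ s)
      (hm : ∀ {a b : G}, a ∈ s → b ∈ s → a * b ∈ s) : Subgroup G :=
    { carrier := s
      one_mem' := h1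
      mul_mem' := hm
      inv_mem' := fun {g} hg => by
        obtain ⟨n, hn⟩ := Nat.exists_eq_succ_of_ne_zero (orderOf_pos g).ne'
        have hp : ∀ k : ℕ, g ^ k ∈ s := fun k => by
          induction k with
          | zero => simpa using h1
          | succ k ih => rw [pow_succ]; exact hm ih hg
        have : g⁻¹ = g ^ n := inv_eq_of_mul_eq_one_right (by
          rw [← pow_succ', ← Nat.succ_eq_add_one, ← hn, pow_orderOf_eq_one])
        rw [this]; exact hp n }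

variable [Finite G]

theorem mem_unipSub {g : G} : g ∈ c.unipSub ↔ c.Unip g := Iff.rfl

theorem Unip.inv {g : G} (hg : c.Unip g) : c.Unip g⁻¹ := c.unipSub.inv_mem hg

/-- An element trivial on `Z` and on `A/Z` acts on `A` as an element of `S` does. -/
theorem exists_S_of_unip {g : G} (hg : c.Unip g) :
    ∃ s ∈ (S : Subgroup G), ∀ a ∈ c.A, g * a * g⁻¹ = s * a * s⁻¹ := by
  haveI : Fact (Nat.Prime 2) := ⟨Nat.prime_two⟩
  obtain ⟨i, d, ⟨j, hj⟩, hid⟩ := Nat.exists_eq_two_pow_mul_odd (n := orderOf g) (orderOf_pos g).ne'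
  have hgd : c.Unip (g ^ d) := c.unipSub.pow_mem hg d
  have hp : IsPGroup 2 (zpowers (g ^ d)) := by
    obtain ⟨k, -, hk⟩ := (Nat.dvd_prime_pow Nat.prime_two).1
      (orderOf_dvd_of_pow_eq_one (n := 2 ^ i) (x := g ^ d) (by
        rw [← pow_mul, mul_comm, ← hid, pow_orderOf_eq_one]))
    exact IsPGroup.of_card (n := k) (by rw [Nat.card_zpowers, hk])
  obtain ⟨m, hm, R, hR, hSR, hzR⟩ := Invol.exists_common_pGroup (p := 2) c.unipSub
    (fun s hs => c.unip_of_mem hs) (zpowers_le.2 hgd) S.2 hp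
  have hs := sylow_eq_of_le hR hSR (hzR _ (mem_zpowers _))
  refine ⟨_, hs, fun a ha => ?_⟩
  have hm' : c.Unip m := hm
  rw [(hm'.mul hgd).comm (Unip.inv c hm') ha, show m⁻¹ * (m * g ^ d) = g ^ d by group]
  have hj' : ∀ k : ℕ, (g * g) ^ k * a * ((g * g) ^ k)⁻¹ = a := fun k => by
    induction k with
    | zero => simp
    | succ k ih => rw [pow_succ, conj_conj, hg.sq ha, ih]
  rw [hj, pow_succ', pow_mul, pow_two, conj_conj, hj' j]

/-- On `Z` and `A/Z` an element normalising `A` and `Z` acts as an element of the normaliser of `S`. -/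
theorem exists_normS_of_norm {g : G} (hA : g ∈ normalizer (c.A : Set G))
    (hZ : g ∈ normalizer (c.Z : Set G)) :
    ∃ n ∈ normalizer ((S : Subgroup G) : Set G),
      (∀ a ∈ c.A, c.Y (g * a * g⁻¹) = c.Y (n * a * n⁻¹)) ∧ ∀ z ∈ c.Z, g * z * g⁻¹ = n * z * n⁻¹ := by
  haveI : Fact (Nat.Prime 2) := ⟨Nat.prime_two⟩
  have hL : (S : Subgroup G).map (MulAut.conj g).toMonoidHom ≤ c.unipSub := by
    rintro _ ⟨s, hs, rfl⟩
    refine ⟨fun z hz => ?_, fun a ha => ?_⟩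
    · have hz' := (mem_normalizer_iff.1 hZ (g⁻¹ * z * g)).2 (by
        rwa [show g * (g⁻¹ * z * g) * g⁻¹ = z by group])
      rw [MulEquiv.coe_toMonoidHom, MulAut.conj_apply,
        show g * s * g⁻¹ * z * (g * s * g⁻¹)⁻¹ = g * (s * (g⁻¹ * z * g) * s⁻¹) * g⁻¹ by group,
        (c.unip_of_mem hs).1 _ hz']
      group
    · have ha' := (mem_normalizer_iff.1 hA (g⁻¹ * a * g)).2 (by
        rwa [show g * (g⁻¹ * a * g) * g⁻¹ = a by group])
      rw [MulEquiv.coe_toMonoidHom, MulAut.conj_apply,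
        show g * s * g⁻¹ * a * (g * s * g⁻¹)⁻¹ * a⁻¹ =
          g * (s * (g⁻¹ * a * g) * s⁻¹ * (g⁻¹ * a * g)⁻¹) * g⁻¹ by group]
      exact conj_mem_of_norm hZ ((c.unip_of_mem hs).2 _ ha')
  obtain ⟨m, hm, R, hR, hSR, hLR⟩ := Invol.exists_common_pGroup (p := 2) c.unipSub
    (fun s hs => c.unip_of_mem hs) hL S.2 (S.2.map _)
  have hn : m * g ∈ normalizer ((S : Subgroup G) : Set G) := mem_norm_of_conj_mem fun s hs => by
    refine sylow_eq_of_le hR hSR ?_
    have := hLR (g * s * g⁻¹) ⟨s, hs, rfl⟩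
    rwa [conj_conj]
  have hm' : c.Unip m := hm
  refine ⟨m * g, hn, fun a ha => ?_, fun z hz => ?_⟩
  · have h1 := conj_mem_of_norm hA ha
    obtain ⟨u, hu, h2, -⟩ := hm'.conj_eq h1
    rw [conj_conj, h2, c.Y_mul (c.Z_le hu) h1.1, hu.2.2, zero_add]
  · rw [conj_conj, hm'.1 _ (conj_mem_of_norm hZ hz)]

/-- An element normalising `A` and `Z` acts on `Z` and on `A/Z` by scalars. -/
theorem exists_scal_of_norm {g : G} (hA : g ∈ normalizer (c.A : Set G))
    (hZ : g ∈ normalizer (c.Z : Set G)) :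
    ∃ α β : F, α ≠ 0 ∧ β ≠ 0 ∧ (∀ a ∈ c.A, c.Y (g * a * g⁻¹) = β * c.Y a) ∧
      (∀ z ∈ c.Z, c.W (g * z * g⁻¹) = α * β * c.W z) ∧
      ∃ n ∈ normalizer ((S : Subgroup G) : Set G), ∀ s ∈ (S : Subgroup G),
        c.X (n * s * n⁻¹) = α * c.X s ∧ c.Y (n * s * n⁻¹) = β * c.Y s := by
  obtain ⟨n, hn, h1, h2⟩ := c.exists_normS_of_norm hA hZ
  obtain ⟨α, β, hα, hβ, hs, hz⟩ := c.exists_scal hn
  exact ⟨α, β, hα, hβ, fun a ha => by rw [h1 a ha, (hs a ha.1).2],
    fun z hzZ => by rw [h2 z hzZ, hz z hzZ], n, hn, hs⟩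

/-- An element normalising `A` and `Z` that fixes one involution of `Z` fixes them all. -/
theorem fix_Z_of_fix {g : G} (hA : g ∈ normalizer (c.A : Set G)) (hZ : g ∈ normalizer (c.Z : Set G))
    {z : G} (hz : z ∈ c.Z) (h1 : z ≠ 1) (hfix : g * z * g⁻¹ = z) :
    ∀ w ∈ c.Z, g * w * g⁻¹ = w := by
  obtain ⟨α, β, -, -, -, h2, -⟩ := c.exists_scal_of_norm hA hZ
  intro w hw
  have hw0 : c.W z ≠ 0 := fun e => h1 (c.ext (c.Z_le hz) (S : Subgroup G).one_mem
    (by rw [hz.1.2, c.X_one]) (by rw [hz.2.2, c.Y_one]) (by rw [e, c.W_one]))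
  have hone : α * β = 1 := by
    have := h2 z hz
    rw [hfix] at this
    exact (mul_eq_right₀ hw0).1 this.symm
  have hw' := conj_mem_of_norm hZ hw
  exact c.ext (c.Z_le hw') (c.Z_le hw) (by rw [hw'.1.2, hw.1.2]) (by rw [hw'.2.2, hw.2.2])
    (by rw [h2 w hw, hone, one_mul])

end Crd

end Cfsg.Lib.Syl34
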