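import Cfsg.Agent.Lib.Syl34.BothPairs

/-!
# No spread normaliser: the classes met by the centraliser of an involution of `Z`
-/

set_option autoImplicit false
set_option linter.style.haveILetI false
set_option linter.unusedSectionVars false

namespace Cfsg.Lib.Syl34

open Subgroup Cfsg Cfsg.Lib

universe u

variable {G : Type u} [Group G] [Finite G] {F : Type*} [Field F] [Fintype F]

/-- Congruence modulo `O(C(z))`. -/
def thRel (z x y : G) : Prop := x * y⁻¹ ∈ th z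

theorem thRel.refl (z x : G) : thRel z x x := by
  show x * x⁻¹ ∈ th z
  rw [mul_inv_cancel]; exact one_mem _

theorem thRel.symm {z x y : G} (h : thRel z x y) : thRel z y x := by
  show y * x⁻¹ ∈ th z
  rw [← inv_inv y, ← mul_inv_rev]; exact inv_mem h

theorem thRel.trans {z x y w : G} (h : thRel z x y) (h' : thRel z y w) : thRel z x w := by
  show x * w⁻¹ ∈ th z
  rw [show x * w⁻¹ = x * y⁻¹ * (y * w⁻¹) by group]; exact mul_mem h h'

theorem thRel.mul {z x x' y y' : G} (hx : Commute x z) (h : thRel z x x') (h' : thRel z y y') :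
    thRel z (x * y) (x' * y') := by
  show x * y * (x' * y')⁻¹ ∈ th z
  rw [show x * y * (x' * y')⁻¹ = x * (y * y'⁻¹) * x⁻¹ * (x * x'⁻¹) by group]
  exact mul_mem (conj_mem_of_norm (cent_le_norm_th z (mem_centralizer_singleton_iff.2 hx.eq)) h') h

theorem thRel.conj {z x y g : G} (hg : Commute g z) (h : thRel z x y) :
    thRel z (g * x * g⁻¹) (g * y * g⁻¹) := by
  show g * x * g⁻¹ * (g * y * g⁻¹)⁻¹ ∈ th z
  rw [show g * x * g⁻¹ * (g * y * g⁻¹)⁻¹ = g * (x * y⁻¹) * g⁻¹ by group]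
  exact conj_mem_of_norm (cent_le_norm_th z (mem_centralizer_singleton_iff.2 hg.eq)) h

theorem thRel.pow {z x x' : G} (hx : Commute x z) (h : thRel z x x') (k : ℕ) : thRel z (x ^ k) (x' ^ k) := by
  induction k with
  | zero => rw [pow_zero, pow_zero]; exact thRel.refl z 1
  | succ k ih => rw [pow_succ', pow_succ']; exact thRel.mul hx h ih

/-- The conjugates of `t` commuting with `z`. -/
abbrev centClass (t z : G) : Set G := {y | IsConj t y ∧ Commute y z}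

namespace Crd

variable {S : Sylow 2 G} (c : Crd (S : Subgroup G) F)

include c in
theorem thRel_eq {z s s' : G} (hs : s ∈ (S : Subgroup G)) (hs' : s' ∈ (S : Subgroup G))
    (h : thRel z s s') : s = s' := by
  haveI : Fact (Nat.Prime 2) := ⟨Nat.prime_two⟩
  obtain ⟨k, hk⟩ := S.2 ⟨s * s'⁻¹, mul_mem hs (inv_mem hs')⟩
  have hk' : (s * s'⁻¹) ^ 2 ^ k = 1 := congrArg Subtype.val hk
  exact mul_inv_eq_one.1 (orderOf_eq_one_iff.1 (Nat.eq_one_of_dvd_coprimes
    ((odd_of_mem_th h).coprime_two_left.pow_left k) (orderOf_dvd_of_pow_eq_one hk') dvd_rfl))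

/-- An involution of `C(z)` is conjugate under `O(C(z))` to one of `S`. -/
theorem exists_th_conj {z x : G} (hz : z ∈ c.Z) (h1 : z ≠ 1) (hx : orderOf x = 2) (hc : Commute x z) :
    ∃ o ∈ th z, ∃ s ∈ (S : Subgroup G), x = o * s * o⁻¹ ∧ thRel z x s := by
  haveI : Fact (Nat.Prime 2) := ⟨Nat.prime_two⟩
  set C := centralizer ({z} : Set G)
  have hSC : (S : Subgroup G) ≤ C := fun s hs => mem_centralizer_singleton_iff.2 (c.commute_Z hz hs).eq.symm
  obtain ⟨m, hm, P, hP, hSP, hxP⟩ := Invol.exists_common_pGroup (p := 2) C hSC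
    (zpowers_le.2 (mem_centralizer_singleton_iff.2 hc.eq)) S.2
    (IsPGroup.of_card (n := 1) (by rw [Nat.card_zpowers, hx, pow_one]))
  have hs := sylow_eq_of_le hP hSP (hxP x (mem_zpowers x))
  obtain ⟨o, ho, n, hn, hnz, rfl⟩ := c.exists_core_mul_normS hz h1 (mem_centralizer_singleton_iff.1 hm)
  have hn' : n⁻¹ ∈ normalizer ((S : Subgroup G) : Set G) := inv_mem hn
  set s := n⁻¹ * (o * n * x * (o * n)⁻¹) * n⁻¹⁻¹ with hsdef
  have hnth : n⁻¹ ∈ normalizer (th z : Set G) :=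
    inv_mem (cent_le_norm_th z (mem_centralizer_singleton_iff.2 hnz.eq))
  set o' := n⁻¹ * o⁻¹ * n⁻¹⁻¹ with ho'
  have ho'th : o' ∈ th z := conj_mem_of_norm hnth (inv_mem ho)
  have hsS : s ∈ (S : Subgroup G) := conj_mem_of_norm hn' hs
  have e : x = o' * s * o'⁻¹ := by simp only [hsdef, ho']; group
  refine ⟨o', ho'th, s, hsS, e, ?_⟩
  show x * s⁻¹ ∈ th z
  rw [e, show o' * s * o'⁻¹ * s⁻¹ = o' * (s * o'⁻¹ * s⁻¹) by group]
  exact mul_mem ho'th (conj_mem_of_norm (cent_le_norm_th z (hSC hsS)) (inv_mem ho'th))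

section Norml

variable {c} (hA : c.Norml) (hB : c.swap.Norml)
include hA hB

theorem exists_rep {z a x : G} (hz : z ∈ c.Z) (h1 : z ≠ 1) (ha : a ∈ c.A) (haZ : a ∉ c.Z)
    (hx : x ∈ centClass a z) : ∃ a' ∈ c.A, a' ∉ c.Z ∧ thRel z x a' := by
  obtain ⟨o, ho, s, hs, e, hrel⟩ := c.exists_th_conj hz h1
    (orderOf_of_isConj (c.orderOf_A ha fun e => haZ (e ▸ one_mem _)) hx.1) hx.2
  obtain ⟨g, hg⟩ := isConj_iff.1 hx.1
  have := mem_A_of_conj hA hB ha haZ (g := o⁻¹ * g) (by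
    rw [conj_conj, hg, e, inv_inv, show o⁻¹ * (o * s * o⁻¹) * o = s by group]; exact hs)
  rw [conj_conj, hg, e, inv_inv, show o⁻¹ * (o * s * o⁻¹) * o = s by group] at this
  exact ⟨s, this.1, this.2, hrel⟩

omit hA hB in
/-- A conjugate of `a` and a conjugate of `b` have `z` in the group of their product exactly when their
representatives have commutator `z`. -/
theorem mem_zpowers_iff_comm {z x y a' b' : G} (hz : z ∈ c.Z) (hz1 : z ≠ 1)
    (hxz : Commute x z) (hyz : Commute y z) (ha' : a' ∈ c.A) (haZ' : a' ∉ c.Z) (hb' : b' ∈ c.B)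
    (hbZ' : b' ∉ c.Z) (hxa : thRel z x a') (hyb : thRel z y b') :
    z ∈ zpowers (x * y) ↔ a' * b' * a'⁻¹ * b'⁻¹ = z := by
  set s := a' * b' with hs
  set e := a' * b' * a'⁻¹ * b'⁻¹ with he
  have hS := mul_mem ha'.1 hb'.1
  have hs2 : s * s = e := by
    rw [he, inv_eq_of_mul_eq_one_right (c.sq_A ha'), inv_eq_of_mul_eq_one_right (c.sq_B hb'), hs, mul_assoc,
      mul_assoc, mul_assoc]
  have heZ : e ∈ c.Z := c.mem_Z.2 ⟨mul_mem (mul_mem hS (inv_mem ha'.1)) (inv_mem hb'.1),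
    (c.comm_coords ha'.1 hb'.1).1, (c.comm_coords ha'.1 hb'.1).2.1⟩
  have hrel : thRel z (x * y) s := thRel.mul hxz hxa hyb
  have hcz : Commute (x * y) z := hxz.mul_left hyz
  have hpow : ∀ j : ℕ, s ^ (2 * j) = 1 ∨ s ^ (2 * j) = e := fun j => by
    induction j with
    | zero => exact Or.inl (pow_zero s)
    | succ j ih =>
      rw [mul_add, mul_one, pow_add, pow_two, hs2]
      rcases ih with h | h <;> rw [h]
      · exact Or.inr (one_mul e)
      · exact Or.inl (c.sq_Z heZ)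
  constructor
  · intro h
    obtain ⟨k, hk⟩ := (Submonoid.mem_powers_iff _ _).1 (mem_powers_iff_mem_zpowers.2 h)
    have hzk : thRel z z (s ^ k) := hk ▸ thRel.pow hcz hrel k
    have hzs : z = s ^ k := c.thRel_eq (c.Z_le hz) (pow_mem hS k) hzk
    rcases Nat.even_or_odd' k with ⟨j, rfl | rfl⟩
    · rcases hpow j with h' | h'
      · exact absurd (hzs.trans h') hz1
      · exact (hzs.trans h').symm
    · exfalso
      have hej : s ^ (2 * j) ∈ c.Z := by rcases hpow j with h' | h' <;> rw [h'] <;> [exact one_mem _; exact heZ]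
      have h0 : c.X z = c.X (s ^ (2 * j) * s) := by rw [hzs, pow_succ]
      rw [hz.1.2, c.X_mul (c.Z_le hej) hS, hej.1.2, c.X_mul ha'.1 hb'.1, ha'.2, zero_add, zero_add] at h0
      exact hbZ' (c.mem_Z.2 ⟨hb'.1, h0.symm, hb'.2⟩)
  · intro h
    have h2 : thRel z ((x * y) ^ 2) z := by
      have := thRel.pow hcz hrel 2
      rwa [pow_two s, hs2, h] at this
    set o := (x * y) ^ 2 * z⁻¹ with ho
    have hoz : Commute o z := commute_of_mem_th h2
    obtain ⟨j, hj⟩ := odd_of_mem_th h2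
    refine mem_zpowers_iff.2 ⟨((2 * orderOf o : ℕ) : ℤ), ?_⟩
    rw [zpow_natCast, pow_mul, show (x * y) ^ 2 = o * z by rw [ho, inv_mul_cancel_right], hoz.mul_pow,
      pow_orderOf_eq_one, one_mul, hj, pow_succ, pow_mul, pow_two, c.sq_Z hz, one_pow, one_mul]

end Norml

/-- The representatives of the pairs with commutator `z`. -/
abbrev commPairs (z : G) : Set (G × G) :=
  {p | (p.1 ∈ c.A ∧ p.1 ∉ c.Z) ∧ (p.2 ∈ c.B ∧ p.2 ∉ c.Z) ∧ p.1 * p.2 * p.1⁻¹ * p.2⁻¹ = z}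

theorem card_AZ : {x : G | x ∈ c.A ∧ x ∉ c.Z}.ncard = 12 := by
  rw [show {x : G | x ∈ c.A ∧ x ∉ c.Z} = (c.A : Set G) \ (c.Z : Set G) from rfl,
    Set.ncard_sdiff (fun x hx => (c.Z_le_A hx : x ∈ c.A)), ← Nat.card_coe_set_eq, ← Nat.card_coe_set_eq,
    SetLike.coe_sort_coe, SetLike.coe_sort_coe, c.card_A, c.card_Z]

theorem card_commPairs {z : G} (hz : z ∈ c.Z) (h1 : z ≠ 1) : (c.commPairs z).ncard = 48 := by
  classical
  have hw := c.W_ne_zero hz h1
  rw [← Nat.card_coe_set_eq]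
  let f : {y : F // y ≠ 0} × F × F → c.commPairs z := fun p =>
    ⟨(c.pt 0 p.1.1 p.2.1, c.pt (c.W z / p.1.1) 0 p.2.2),
      ⟨c.pt_mem_A .., fun h => p.1.2 (by simpa using h.2.2)⟩,
      ⟨c.pt_mem_B .., fun h => div_ne_zero hw p.1.2 (by simpa using h.1.2)⟩, by
      obtain ⟨h1, h2, h3⟩ := c.comm_coords (c.pt_mem 0 p.1.1 p.2.1) (c.pt_mem (c.W z / p.1.1) 0 p.2.2)
      refine c.ext (mul_mem (mul_mem (mul_mem (c.pt_mem ..) (c.pt_mem ..)) (inv_mem (c.pt_mem ..)))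
        (inv_mem (c.pt_mem ..))) (c.Z_le hz) (by rw [h1, hz.1.2]) (by rw [h2, hz.2.2]) ?_
      rw [h3, X_pt, X_pt, Y_pt, Y_pt, zero_mul, zero_add, div_mul_cancel₀ _ p.1.2]⟩
  have hbij : Function.Bijective f := by
    constructor
    · intro p q hpq
      have e1 := congrArg (fun r : c.commPairs z => r.1.1) hpq
      have e2 := congrArg (fun r : c.commPairs z => r.1.2) hpq
      have a1 := congrArg c.Y e1
      have a2 := congrArg c.W e1
      have a3 := congrArg c.W e2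
      simp only [f, Y_pt, W_pt] at a1 a2 a3
      exact Prod.ext (Subtype.ext a1) (Prod.ext a2 a3)
    · rintro ⟨⟨a, b⟩, ⟨ha, haZ⟩, ⟨hb, hbZ⟩, e⟩
      have hy : c.Y a ≠ 0 := fun h => haZ ⟨ha, ha.1, h⟩
      have hX : c.X b = c.W z / c.Y a := by
        rw [eq_div_iff hy]
        have := (c.comm_coords ha.1 hb.1).2.2
        rw [show a * b * a⁻¹ * b⁻¹ = z from e, ha.2, zero_mul, zero_add] at this
        exact this.symm
      refine ⟨(⟨c.Y a, hy⟩, c.W a, c.W b), Subtype.ext (Prod.ext ?_ ?_)⟩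
      · exact c.ext (c.pt_mem ..) ha.1 (by rw [X_pt, ha.2]) (Y_pt ..) (W_pt ..)
      · exact c.ext (c.pt_mem ..) hb.1 (by rw [X_pt, hX]) (by rw [Y_pt, hb.2]) (W_pt ..)
  rw [← Nat.card_eq_of_bijective f hbij, Nat.card_prod, Nat.card_prod,
    Nat.card_eq_fintype_card, Nat.card_eq_fintype_card, Fintype.card_subtype_compl,
    Fintype.card_subtype_eq, c.hF]

section Norml

variable {c} (hA : c.Norml) (hB : c.swap.Norml)
include hA hB

/-- The number of conjugates of `a` commuting with `z`. -/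
theorem card_centClass {n : G} (hn : n ∈ normalizer ((S : Subgroup G) : Set G)) {α β : F} (hαβ : α * β = 1)
    (hβ : β ≠ 1) (hs : ∀ s ∈ (S : Subgroup G), c.X (n * s * n⁻¹) = α * c.X s ∧ c.Y (n * s * n⁻¹) = β * c.Y s)
    {z a : G} (hz : z ∈ c.Z) (h1 : z ≠ 1) (ha : a ∈ c.A) (haZ : a ∉ c.Z) :
    (centClass a z).ncard = 12 * {y : G | y ∈ centClass a z ∧ thRel z y a}.ncard ∧
      ∀ a' ∈ c.A, a' ∉ c.Z → {y : G | y ∈ centClass a z ∧ thRel z y a'}.ncard =
        {y : G | y ∈ centClass a z ∧ thRel z y a}.ncard := by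
  classical
  haveI : Fintype G := Fintype.ofFinite G
  have hnz : n * z * n⁻¹ = z := by
    obtain ⟨α', β', -, -, hs', hz'⟩ := c.exists_scal hn
    have hα' : α' = α := by
      have := (hs _ (c.pt_mem 1 0 0)).1
      rw [(hs' _ (c.pt_mem 1 0 0)).1, X_pt, mul_one, mul_one] at this
      exact this
    have hβ' : β' = β := by
      have := (hs _ (c.pt_mem 0 1 0)).2
      rw [(hs' _ (c.pt_mem 0 1 0)).2, Y_pt, mul_one, mul_one] at this
      exact this
    have hzz := conj_mem_of_norm (c.normS_le_norm_Z hn) hz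
    exact c.ext (c.Z_le hzz) (c.Z_le hz) (by rw [hzz.1.2, hz.1.2]) (by rw [hzz.2.2, hz.2.2])
      (by rw [hz' z hz, hα', hβ', hαβ, one_mul])
  have hK : ∀ a' ∈ c.A, a' ∉ c.Z → ∃ g ∈ centralizer ({z} : Set G), g * a * g⁻¹ = a' := fun a' ha' haZ' =>
    exists_conj_AZ hA hn hβ (fun s hs' => (hs s hs').2)
      (fun s hs' => mem_centralizer_singleton_iff.2 (c.commute_Z hz hs').eq.symm)
      (mem_centralizer_singleton_iff.2 (mul_inv_eq_iff_eq_mul.1 hnz)) ha haZ ha' haZ'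
  set fib := fun a' : G => {y : G | y ∈ centClass a z ∧ thRel z y a'} with hfib
  have heq : ∀ a' ∈ c.A, a' ∉ c.Z → (fib a').ncard = (fib a).ncard := by
    intro a' ha' haZ'
    obtain ⟨g, hg, rfl⟩ := hK a' ha' haZ'
    have hgz : Commute g z := mem_centralizer_singleton_iff.1 hg
    rw [← Set.ncard_image_of_injective (fib a) (MulAut.conj g).injective]
    congr 1
    ext y
    constructor
    · rintro ⟨⟨hy, hyz⟩, hrel⟩
      refine ⟨g⁻¹ * y * g⁻¹⁻¹, ⟨⟨hy.trans (isConj_iff.2 ⟨g⁻¹, rfl⟩),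
        ((hgz.inv_left.mul_left hyz).mul_left hgz.inv_left.inv_left)⟩, ?_⟩, by simp [mul_assoc]⟩
      have := thRel.conj hgz.inv_left hrel
      rwa [show g⁻¹ * (g * a * g⁻¹) * g⁻¹⁻¹ = a by group] at this
    · rintro ⟨x, ⟨⟨hx, hxz⟩, hrel⟩, rfl⟩
      exact ⟨⟨hx.trans (isConj_iff.2 ⟨g, rfl⟩), (hgz.mul_left hxz).mul_left hgz.inv_left⟩, thRel.conj hgz hrel⟩
  refine ⟨?_, heq⟩
  -- split along the representatives
  have hch : ∀ y, ∃ a', y ∈ centClass a z → a' ∈ c.A ∧ a' ∉ c.Z ∧ thRel z y a' := fun y => by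
    by_cases hy : y ∈ centClass a z
    · obtain ⟨a', h⟩ := exists_rep hA hB hz h1 ha haZ hy; exact ⟨a', fun _ => h⟩
    · exact ⟨1, fun h => absurd h hy⟩
  choose r hr using hch
  set R := {x : G | x ∈ c.A ∧ x ∉ c.Z} with hR
  have hmaps : ∀ y ∈ (centClass a z).toFinset, r y ∈ R.toFinset := fun y hy =>
    Set.mem_toFinset.2 ⟨(hr y (Set.mem_toFinset.1 hy)).1, (hr y (Set.mem_toFinset.1 hy)).2.1⟩
  rw [Set.ncard_eq_toFinset_card', Finset.card_eq_sum_card_fiberwise hmaps,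
    Finset.sum_congr rfl (g := fun _ => (fib a).ncard) (fun a' ha' => ?_), Finset.sum_const, smul_eq_mul,
    ← Set.ncard_eq_toFinset_card' R, c.card_AZ]
  obtain ⟨ha'A, ha'Z⟩ := (Set.mem_toFinset.1 ha' : a' ∈ R)
  rw [← heq a' ha'A ha'Z, Set.ncard_eq_toFinset_card']
  congr 1
  ext y
  simp only [Finset.mem_filter, Set.mem_toFinset]
  constructor
  · rintro ⟨hy, rfl⟩
    exact ⟨hy, (hr y hy).2.2⟩
  · rintro ⟨hy, hrel⟩
    exact ⟨hy, c.thRel_eq (hr y hy).1.1 ha'A.1 ((hr y hy).2.2.symm.trans hrel)⟩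

/-- The number of pairs from the two outer classes with `z` in the group of their product. -/
theorem card_pairs_AB {n : G} (hn : n ∈ normalizer ((S : Subgroup G) : Set G)) {α β : F} (hαβ : α * β = 1)
    (hβ : β ≠ 1) (hα : α ≠ 1)
    (hs : ∀ s ∈ (S : Subgroup G), c.X (n * s * n⁻¹) = α * c.X s ∧ c.Y (n * s * n⁻¹) = β * c.Y s)
    {z a b : G} (hz : z ∈ c.Z) (h1 : z ≠ 1) (ha : a ∈ c.A) (haZ : a ∉ c.Z) (hb : b ∈ c.B) (hbZ : b ∉ c.Z) :
    Nat.card {q : G × G // IsConj a q.1 ∧ IsConj b q.2 ∧ z ∈ zpowers (q.1 * q.2)} =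
      48 * {y : G | y ∈ centClass a z ∧ thRel z y a}.ncard *
        {y : G | y ∈ centClass b z ∧ thRel z y b}.ncard := by
  classical
  haveI : Fintype G := Fintype.ofFinite G
  have hB' : c.swap.swap.Norml := by simpa [Norml, swap_A, swap_Z, swap_B] using hA
  have hbA : b ∈ c.swap.A := by rw [swap_A]; exact hb
  have hbZ' : b ∉ c.swap.Z := by rw [swap_Z]; exact hbZ
  have hzS : z ∈ c.swap.Z := by rw [swap_Z]; exact hz
  obtain ⟨-, heqb⟩ := card_centClass (c := c.swap) hB hB' hn (α := β) (β := α) (by rw [mul_comm, hαβ]) hα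
    (fun s hs' => by rw [swap_X, swap_X, swap_Y, swap_Y]; exact (hs s hs').symm) hzS h1 hbA hbZ'
  obtain ⟨-, heqa⟩ := card_centClass hA hB hn hαβ hβ hs hz h1 ha haZ
  have ha2 : orderOf a = 2 := c.orderOf_A ha fun e => haZ (e ▸ one_mem _)
  have hb2 : orderOf b = 2 := c.swap.orderOf_A hbA fun e => hbZ (e ▸ one_mem _)
  set T := {q : G × G | IsConj a q.1 ∧ IsConj b q.2 ∧ z ∈ zpowers (q.1 * q.2)} with hT
  have hcomm : ∀ q ∈ T, q.1 ∈ centClass a z ∧ q.2 ∈ centClass b z := fun q ⟨h, h', hzq⟩ => by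
    obtain ⟨e1, e2⟩ := commute_of_mem_zpowers (orderOf_of_isConj ha2 h) (orderOf_of_isConj hb2 h')
      (c.sq_Z hz) hzq
    exact ⟨⟨h, e1⟩, ⟨h', e2⟩⟩
  have hch : ∀ q, ∃ p : G × G, q ∈ T → (p.1 ∈ c.A ∧ p.1 ∉ c.Z ∧ thRel z q.1 p.1) ∧
      (p.2 ∈ c.B ∧ p.2 ∉ c.Z ∧ thRel z q.2 p.2) := fun q => by
    by_cases hq : q ∈ T
    · obtain ⟨h, h'⟩ := hcomm q hq
      obtain ⟨a', ea⟩ := exists_rep hA hB hz h1 ha haZ h
      obtain ⟨b', hb', hbz', eb⟩ := exists_rep (c := c.swap) hB hB' hzS h1 hbA hbZ' h'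
      rw [swap_A] at hb'
      rw [swap_Z] at hbz'
      exact ⟨(a', b'), fun _ => ⟨ea, hb', hbz', eb⟩⟩
    · exact ⟨(1, 1), fun h => absurd h hq⟩
  choose r hr using hch
  have hmaps : ∀ q ∈ T.toFinset, r q ∈ (c.commPairs z).toFinset := fun q hq => by
    have hq' := Set.mem_toFinset.1 hq
    obtain ⟨⟨hpA, hpZ, hpr⟩, hpB, hpZ', hpr'⟩ := hr q hq'
    obtain ⟨h, h'⟩ := hcomm q hq'
    exact Set.mem_toFinset.2 ⟨⟨hpA, hpZ⟩, ⟨hpB, hpZ'⟩,
      (mem_zpowers_iff_comm hz h1 h.2 h'.2 hpA hpZ hpB hpZ' hpr hpr').1 hq'.2.2⟩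
  show Nat.card T = _
  rw [Nat.card_coe_set_eq, Set.ncard_eq_toFinset_card', Finset.card_eq_sum_card_fiberwise hmaps,
    Finset.sum_congr rfl (g := fun _ => {y : G | y ∈ centClass a z ∧ thRel z y a}.ncard *
      {y : G | y ∈ centClass b z ∧ thRel z y b}.ncard) (fun p hp => ?_), Finset.sum_const, smul_eq_mul,
    ← Set.ncard_eq_toFinset_card', c.card_commPairs hz h1, mul_assoc]
  obtain ⟨⟨hpA, hpZ⟩, ⟨hpB, hpZ'⟩, hpc⟩ := (Set.mem_toFinset.1 hp : p ∈ c.commPairs z)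
  rw [← heqa p.1 hpA hpZ, ← heqb p.2 (by rw [swap_A]; exact hpB) (by rw [swap_Z]; exact hpZ'),
    ← Set.ncard_prod, Set.ncard_eq_toFinset_card']
  congr 1
  ext q
  simp only [Finset.mem_filter, Set.mem_toFinset, Set.mem_prod]
  constructor
  · rintro ⟨hq, rfl⟩
    exact ⟨⟨(hcomm q hq).1, (hr q hq).1.2.2⟩, ⟨(hcomm q hq).2, (hr q hq).2.2.2⟩⟩
  · rintro ⟨⟨h, hrel⟩, ⟨h', hrel'⟩⟩
    have hq : q ∈ T := ⟨h.1, h'.1,
      (mem_zpowers_iff_comm hz h1 h.2 h'.2 hpA hpZ hpB hpZ' hrel hrel').2 hpc⟩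
    obtain ⟨⟨hA1, -, e1⟩, hB1, -, e2⟩ := hr q hq
    exact ⟨hq, Prod.ext (c.thRel_eq hA1.1 hpA.1 (e1.symm.trans hrel))
      (c.thRel_eq hB1.1 hpB.1 (e2.symm.trans hrel'))⟩

end Norml

end Crd

end Cfsg.Lib.Syl34
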