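import Cfsg.Agent.Lib.Syl34.BothCent
import Cfsg.Agent.Lib.Syl34.Functor
import Cfsg.Agent.S1225

/-!
# A group without spread normaliser has a 2-core
-/

set_option autoImplicit false
set_option linter.style.haveILetI false
set_option linter.unusedSectionVars false

namespace Cfsg.Lib.Syl34

open Subgroup Cfsg Cfsg.Lib

universe u

variable {G : Type u} [Group G] [Finite G] {F : Type*} [Field F] [Fintype F]

namespace Crd

variable {S : Sylow 2 G} {c : Crd (S : Subgroup G) F}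

/-- The image of `Z` in the quotient of every centraliser `C(a)`, `a ∈ A \ Z`, is normal. -/
def AllNormal (c : Crd (S : Subgroup G) F) : Prop :=
  ∀ (hA : c.Norml) (a : G) (ha : a ∈ c.A) (haZ : a ∉ c.Z) (A₁ : Subgroup G) (hF : c.IsFix a A₁),
    letI := kerL_normal hA ha haZ hF
    ((c.Z.subgroupOf (centralizer ({a} : Set G))).map (QuotientGroup.mk' (kerL a A₁))).Normal

theorem exists_of_not_allNormal (hA : c.Norml) (h : ¬ AllNormal c) :
    ∃ (a : G) (ha : a ∈ c.A) (haZ : a ∉ c.Z) (A₁ : Subgroup G) (hF : c.IsFix a A₁),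
      ¬ (letI := kerL_normal hA ha haZ hF
        ((c.Z.subgroupOf (centralizer ({a} : Set G))).map (QuotientGroup.mk' (kerL a A₁))).Normal) := by
  by_contra hall
  exact h fun hA' a ha haZ A₁ hF => by_contra fun hn => hall ⟨a, ha, haZ, A₁, hF, hn⟩

section AtA

variable (hA : c.Norml) (hB : c.swap.Norml) {a : G} (ha : a ∈ c.A) (haZ : a ∉ c.Z)
  {A₁ : Subgroup G} (hF : c.IsFix a A₁)
include hA hB ha haZ hF

/-- Either `C(a)` moves `Z`, or the image of `Z` is normal. -/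
theorem exists_move_or_normal :
    (∃ g ∈ normalizer (c.A : Set G), Commute g a ∧ ∃ γ : F, γ ≠ 1 ∧ ∀ z ∈ c.Z, c.W (g * z * g⁻¹) = γ * c.W z) ∨
      letI := kerL_normal hA ha haZ hF
      ((c.Z.subgroupOf (centralizer ({a} : Set G))).map (QuotientGroup.mk' (kerL a A₁))).Normal := by
  letI := kerL_normal hA ha haZ hF
  by_cases hmove : ∃ g ∈ normalizer (c.A : Set G), Commute g a ∧
      ∃ γ : F, γ ≠ 1 ∧ ∀ z ∈ c.Z, c.W (g * z * g⁻¹) = γ * c.W z
  · exact Or.inl hmove
  right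
  haveI : Fact (Nat.Prime 2) := ⟨Nat.prime_two⟩
  have hfix : ∀ g ∈ normalizer (c.A : Set G), Commute g a → ∀ z ∈ c.Z, g * z * g⁻¹ = z := by
    intro g hg hga z hz
    obtain ⟨α, β, -, -, -, hW, -⟩ := c.exists_scal_of_norm hg (hA hg)
    have hone : α * β = 1 := by
      by_contra hne
      exact hmove ⟨g, hg, hga, α * β, hne, hW⟩
    have hz' := conj_mem_of_norm (hA hg) hz
    exact c.ext (c.Z_le hz') (c.Z_le hz) (by rw [hz'.1.2, hz.1.2]) (by rw [hz'.2.2, hz.2.2])
      (by rw [hW z hz, hone, one_mul])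
  obtain ⟨V, hV, hVe, -⟩ := fourData hA ha haZ hF
  set π := QuotientGroup.mk' (kerL a A₁)
  haveI : IsMulCommutative (V : Subgroup (centralizer ({a} : Set G) ⧸ kerL a A₁)) :=
    ⟨⟨fun p q => Subtype.ext (hV.comm p.2 q.2).eq⟩⟩
  have hburn : normalizer ((V : Subgroup (centralizer ({a} : Set G) ⧸ kerL a A₁)) :
        Set (centralizer ({a} : Set G) ⧸ kerL a A₁)) ≤
      centralizer ((V : Subgroup (centralizer ({a} : Set G) ⧸ kerL a A₁)) :
        Set (centralizer ({a} : Set G) ⧸ kerL a A₁)) := by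
    intro l hl
    obtain ⟨g, rfl⟩ := QuotientGroup.mk'_surjective _ l
    obtain ⟨m, hm, hmg⟩ := exists_norm_of_quotient hA ha haZ hF (g := g) fun z hz => by
      have h1 := conj_mem_of_norm hl (show π z ∈ (V : Subgroup _) by rw [hVe]; exact ⟨z, hz, rfl⟩)
      rw [hVe] at h1
      obtain ⟨z', hz', e⟩ := h1
      refine ⟨z', hz', ?_⟩
      rw [← QuotientGroup.eq_one_iff, ← QuotientGroup.mk'_apply, map_mul, map_inv, map_mul, map_mul,
        map_inv, e, inv_mul_cancel]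
    refine mem_centralizer_iff.2 fun v hv => ?_
    replace hv : v ∈ (V : Subgroup (centralizer ({a} : Set G) ⧸ kerL a A₁)) := hv
    rw [hVe] at hv
    obtain ⟨z, hz, rfl⟩ := hv
    have h2 := hfix _ hmg (mem_centralizer_singleton_iff.1 (m * g).2) z hz
    have h3 : Commute (m * g) z := Subtype.ext (mul_inv_eq_iff_eq_mul.1 h2)
    have h4 := h3.map π
    rw [map_mul, show π m = 1 from (QuotientGroup.eq_one_iff _).2 hm, one_mul] at h4
    exact h4.eq.symm
  obtain ⟨P, N, hNn, hc⟩ := Fusion.hasNormalPComplement_of_normalizer_le_centralizer V hburn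
  have hN1 : N = ⊥ := le_bot_iff.1 (oddCore_quotient hA ha haZ hF ▸ ZStar.le_oddCore hNn
    (Nat.coprime_two_right.1 (Fusion.coprime_card_of_complement hc)))
  subst hN1
  have htop : (V : Subgroup (centralizer ({a} : Set G) ⧸ kerL a A₁)) = ⊤ := by
    refine eq_top_of_card_eq _ ?_
    rw [Nat.card_congr (Sylow.equiv V P).toEquiv, ← hc.card_mul, card_bot, one_mul]
  rw [← hVe, htop]
  infer_instance

/-- The image in the quotient of a conjugate of `z` is an involution. -/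
theorem image_zInv {z x : G} (hz : z ∈ c.Z) (hz1 : z ≠ 1) (hx : x ∈ zInv z a) :
    letI := kerL_normal hA ha haZ hF
    orderOf (QuotientGroup.mk' (kerL a A₁) ⟨x, mem_centralizer_singleton_iff.2 hx.2.eq⟩) = 2 := by
  letI := kerL_normal hA ha haZ hF
  have h2 := orderOf_of_isConj (c.orderOf_A hz.1 hz1) hx.1
  obtain ⟨g, hga, hgZ, hg1⟩ := exists_of_zInv hA hB hz hz1 ha haZ hx
  refine Invol.orderOf_eq_two_of (fun e => hg1 ?_) ?_
  · exact eq_one_of_Z hA ha haZ hF hgZ ((kerL_normal hA ha haZ hF).conj_mem _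
      ((QuotientGroup.eq_one_iff _).1 e) ⟨g, mem_centralizer_singleton_iff.2 hga.eq⟩) rfl
  · rw [← map_mul, show (⟨x, mem_centralizer_singleton_iff.2 hx.2.eq⟩ : centralizer ({a} : Set G)) * ⟨x, _⟩ = 1
      from Subtype.ext (Invol.inv_mul_self h2), map_one]

/-- At most three times as many pairs of odd product as the square of the number of conjugates, strictly
fewer unless the four-group is normal. -/
theorem sq_le_zPairs {z : G} (hz : z ∈ c.Z) (hz1 : z ≠ 1)
    (hconj : ∀ w ∈ c.Z, w ≠ 1 → IsConj z w) :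
    (zInv z a).ncard ^ 2 ≤ 3 * (zPairs z a).ncard ∧
      ((letI := kerL_normal hA ha haZ hF
        ¬ ((c.Z.subgroupOf (centralizer ({a} : Set G))).map (QuotientGroup.mk' (kerL a A₁))).Normal) →
        (zInv z a).ncard ^ 2 < 3 * (zPairs z a).ncard) := by
  classical
  letI := kerL_normal hA ha haZ hF
  haveI : Fintype G := Fintype.ofFinite G
  set L := centralizer ({a} : Set G) ⧸ kerL a A₁
  haveI : Fintype L := Fintype.ofFinite L
  obtain ⟨V, hV, hVe, -⟩ := fourData hA ha haZ hF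
  set π := QuotientGroup.mk' (kerL a A₁)
  let f : G → L := fun x => if h : Commute x a then π ⟨x, mem_centralizer_singleton_iff.2 h.eq⟩ else 1
  have hfx : ∀ {x : G} (h : Commute x a), f x = π ⟨x, mem_centralizer_singleton_iff.2 h.eq⟩ := fun h => dif_pos h
  set X := (zInv z a).toFinset with hX
  set I := (invols L).toFinset with hI
  have hmaps : ∀ x ∈ X, f x ∈ I := fun x hx => by
    have hx' : x ∈ zInv z a := Set.mem_toFinset.1 hx
    exact Set.mem_toFinset.2 (show f x ∈ invols L by rw [hfx hx'.2]; exact image_zInv hA hB ha haZ hF hz hz1 hx')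
  let num : L → ℕ := fun l => (X.filter fun x => f x = l).card
  have hcardX : (zInv z a).ncard = ∑ l ∈ I, num l := by
    rw [Set.ncard_eq_toFinset_card']
    exact Finset.card_eq_sum_card_fiberwise hmaps
  -- pairs with odd product in the quotient
  have hpairs : ∀ J : Finset (L × L), (∀ p ∈ J, Odd (orderOf (p.1 * p.2))) →
      ∑ p ∈ J, num p.1 * num p.2 ≤ (zPairs z a).ncard := by
    intro J hJ
    rw [Set.ncard_eq_toFinset_card']
    have hsub : (X ×ˢ X).filter (fun q => (f q.1, f q.2) ∈ J) ⊆ (zPairs z a).toFinset := by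
      intro q hq
      simp only [Finset.mem_filter, Finset.mem_product, hX, Set.mem_toFinset] at hq
      obtain ⟨⟨h1, h2⟩, h3⟩ := hq
      refine Set.mem_toFinset.2 ⟨h1, h2, odd_of_odd_image hA hB ha haZ hF hz hz1 h1 h2 ?_⟩
      have := hJ _ h3
      rwa [hfx h1.2, hfx h2.2] at this
    refine le_trans (le_of_eq ?_) (Finset.card_le_card hsub)
    rw [Finset.card_eq_sum_card_fiberwise (s := (X ×ˢ X).filter fun q => (f q.1, f q.2) ∈ J)
      (f := fun q : G × G => (f q.1, f q.2)) (t := J) fun q hq => (Finset.mem_filter.1 hq).2]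
    refine Finset.sum_congr rfl fun p hp => ?_
    rw [← Finset.card_product]
    congr 1
    ext q
    simp only [Finset.mem_filter, Finset.mem_product, Prod.ext_iff]
    constructor
    · rintro ⟨⟨h1, e1⟩, h2, e2⟩; exact ⟨⟨⟨h1, h2⟩, by rw [e1, e2]; exact hp⟩, e1, e2⟩
    · rintro ⟨⟨⟨h1, h2⟩, -⟩, e1, e2⟩; exact ⟨⟨h1, e1⟩, h2, e2⟩
  set D := I.image fun l => (l, l) with hD
  have hdiag : ∀ p ∈ D, Odd (orderOf (p.1 * p.2)) := by
    intro p hp
    obtain ⟨l, hl, rfl⟩ := Finset.mem_image.1 hp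
    rw [Invol.inv_mul_self (show l ∈ invols L from Set.mem_toFinset.1 hl), orderOf_one]
    exact odd_one
  have hnsq : ∑ l ∈ I, num l ^ 2 ≤ (zPairs z a).ncard := by
    refine le_trans (le_of_eq ?_) (hpairs D hdiag)
    rw [hD, Finset.sum_image fun p _ q _ e => congrArg Prod.fst e]
    exact Finset.sum_congr rfl fun l _ => pow_two _
  by_cases hn : (V : Subgroup L).Normal
  · refine ⟨?_, fun h => absurd (hVe ▸ hn) h⟩
    have hI3 : I.card = 3 := by
      have h3 := hV.sq_eq_oddPairs hn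
      have hle : (invols L).ncard = 3 := by
        have : invols L = ((V : Subgroup L) : Set L) \ {1} := by
          ext x
          refine ⟨fun hx => ⟨?_, Invol.ne_one hx⟩, fun hx => hV.orderOf_two hx.1 hx.2⟩
          obtain ⟨g, hg⟩ := hV.exists_conj hx
          show x ∈ (V : Subgroup L)
          simpa [mul_assoc] using hn.conj_mem _ hg g⁻¹
        rw [this, Set.ncard_sdiff_singleton_of_mem (one_mem (V : Subgroup L)), ← Nat.card_coe_set_eq,
          SetLike.coe_sort_coe, hV.card]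
      rw [← hle, Set.ncard_eq_toFinset_card']
    rw [hcardX]
    refine (sq_sum_le_card_mul_sum_sq).trans ?_
    rw [hI3]
    exact Nat.mul_le_mul_left 3 hnsq
  -- one class in the quotient
  obtain ⟨g₀, hg₀, hg₀a, γ, hγ, hW⟩ := (exists_move_or_normal hA hB ha haZ hF).resolve_right fun h => hn (hVe ▸ h)
  obtain ⟨α, β, -, -, hY, hW', n₁, hn₁, hns⟩ := c.exists_scal_of_norm hg₀ (hA hg₀)
  have hzC : z ∈ centralizer ({a} : Set G) := c.A_le_cent ha hz.1
  have htrans : ∀ w ∈ c.Z, w ≠ 1 → ∃ g, Commute g a ∧ g * z * g⁻¹ = w := by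
    intro w hw hw1
    have hw0 := c.W_ne_zero hz hz1
    have hg₀Z := hA hg₀
    have hz' := conj_mem_of_norm hg₀Z hz
    have hγ0 : γ ≠ 0 := fun e => c.W_ne_zero hz' (fun e' => hz1 (conj_eq_one_iff.1 e'))
      (by rw [hW z hz, e, zero_mul])
    have key : ∀ g, Commute g a → g ∈ normalizer (c.Z : Set G) → c.W (g * z * g⁻¹) = c.W w →
        ∃ g, Commute g a ∧ g * z * g⁻¹ = w := fun g hga hg e => by
      have hgz := conj_mem_of_norm hg hz
      exact ⟨g, hga, c.ext (c.Z_le hgz) (c.Z_le hw) (by rw [hgz.1.2, hw.1.2]) (by rw [hgz.2.2, hw.2.2]) e⟩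
    have hdiv : c.W w = c.W w / c.W z * c.W z := (div_mul_cancel₀ _ hw0).symm
    rcases field_cases c.hF hγ0 hγ (c.W w / c.W z) with h | h | h | h <;> rw [h] at hdiv
    · exact absurd (by rw [hdiv, zero_mul]) (c.W_ne_zero hw hw1)
    · exact key 1 (Commute.one_left a) (one_mem _) (by rw [one_mul, inv_one, mul_one, hdiv, one_mul])
    · exact key g₀ hg₀a hg₀Z (by rw [hW z hz, hdiv])
    · refine key (g₀ * g₀) (hg₀a.mul_left hg₀a) (mul_mem hg₀Z hg₀Z) ?_
      rw [conj_conj, hW _ hz', hW z hz, hdiv]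
      linear_combination c.W z * field_quad c.hF hγ0 hγ + (-1 : F) * c.W z * field_two c.hF (γ + 1)
  set v₀ := π ⟨z, hzC⟩
  have hlift : ∀ l ∈ I, ∃ g : centralizer ({a} : Set G), π g * v₀ * (π g)⁻¹ = l := by
    intro l hl
    have hl2 : l ∈ invols L := Set.mem_toFinset.1 hl
    obtain ⟨p, hp⟩ := hV.exists_conj hl2
    rw [hVe] at hp
    obtain ⟨w, hw, e⟩ := hp
    obtain ⟨p', rfl⟩ := QuotientGroup.mk'_surjective _ p
    have hw1 : (w : G) ≠ 1 := fun e' => Invol.ne_one hl2 (conj_eq_one_iff.1 (by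
      rw [← e, show w = 1 from Subtype.ext e', map_one]))
    obtain ⟨g, hga, hg⟩ := htrans w hw hw1
    refine ⟨p'⁻¹ * ⟨g, mem_centralizer_singleton_iff.2 hga.eq⟩, ?_⟩
    rw [show π (p'⁻¹ * ⟨g, _⟩) * v₀ * (π (p'⁻¹ * ⟨g, _⟩))⁻¹ =
      (π p')⁻¹ * π (⟨g, mem_centralizer_singleton_iff.2 hga.eq⟩ * ⟨z, hzC⟩ *
        (⟨g, mem_centralizer_singleton_iff.2 hga.eq⟩ : centralizer ({a} : Set G))⁻¹) * π p' by
      simp only [v₀, map_mul, map_inv]; group,
      show (⟨g, _⟩ : centralizer ({a} : Set G)) * ⟨z, hzC⟩ * ⟨g, _⟩⁻¹ = w from Subtype.ext hg, e]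
    simp only [π]
    group
  have hnum : ∀ l ∈ I, num l = num v₀ := by
    intro l hl
    obtain ⟨g, rfl⟩ := hlift l hl
    refine (Finset.card_bij (fun x _ => (g : G) * x * (g : G)⁻¹) ?_ ?_ ?_).symm
    · intro x hx
      simp only [Finset.mem_filter, hX, Set.mem_toFinset] at hx ⊢
      obtain ⟨⟨h1, h2⟩, h3⟩ := hx
      have hga : Commute (g : G) a := mem_centralizer_singleton_iff.1 g.2
      have h2' : Commute ((g : G) * x * (g : G)⁻¹) a := (hga.mul_left h2).mul_left hga.inv_left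
      refine ⟨⟨h1.trans (isConj_iff.2 ⟨_, rfl⟩), h2'⟩, ?_⟩
      rw [hfx h2', ← h3, hfx h2, ← map_mul, ← map_inv, ← map_mul]
      rfl
    · intro x _ y _ e; exact mul_left_cancel (mul_right_cancel e)
    · intro y hy
      simp only [Finset.mem_filter, hX, Set.mem_toFinset] at hy ⊢
      obtain ⟨⟨h1, h2⟩, h3⟩ := hy
      have hga : Commute (g : G) a := mem_centralizer_singleton_iff.1 g.2
      have h2' : Commute ((g : G)⁻¹ * y * (g : G)) a := (hga.inv_left.mul_left h2).mul_left hga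
      refine ⟨(g : G)⁻¹ * y * g, ⟨⟨h1.trans (isConj_iff.2 ⟨(g : G)⁻¹, by group⟩), h2'⟩, ?_⟩, by group⟩
      rw [hfx h2', show (⟨(g : G)⁻¹ * y * g, _⟩ : centralizer ({a} : Set G)) =
        g⁻¹ * ⟨y, mem_centralizer_singleton_iff.2 h2.eq⟩ * g from Subtype.ext rfl, map_mul, map_mul,
        map_inv, ← hfx h2, h3]
      group
  have hstrict := hV.sq_lt_oddPairs (oddCore_quotient hA ha haZ hF) hn
  have hlow : num v₀ * num v₀ * (oddPairs L).ncard ≤ (zPairs z a).ncard := by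
    refine le_trans (le_of_eq ?_) (hpairs (oddPairs L).toFinset fun p hp => ?_)
    · rw [Finset.sum_congr rfl (g := fun _ => num v₀ * num v₀) fun p hp => ?_, Finset.sum_const, smul_eq_mul,
        ← Set.ncard_eq_toFinset_card', mul_comm]
      obtain ⟨h1, h2, -⟩ := (Set.mem_toFinset.1 hp : p ∈ oddPairs L)
      rw [hnum _ (Set.mem_toFinset.2 h1), hnum _ (Set.mem_toFinset.2 h2)]
    · exact (Set.mem_toFinset.1 hp : p ∈ oddPairs L).2.2
  have hpos : 0 < num v₀ := by
    refine Finset.card_pos.2 ⟨z, Finset.mem_filter.2 ⟨Set.mem_toFinset.2 ⟨IsConj.refl z,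
      c.commute_A hz.1 ha⟩, ?_⟩⟩
    rw [hfx (c.commute_A hz.1 ha)]
  have hlt : (zInv z a).ncard ^ 2 < 3 * (zPairs z a).ncard := by
    rw [hcardX, Finset.sum_congr rfl hnum, Finset.sum_const, smul_eq_mul, hI, ← Set.ncard_eq_toFinset_card']
    calc ((invols L).ncard * num v₀) ^ 2 = (invols L).ncard ^ 2 * (num v₀ * num v₀) := by ring
      _ < 3 * (oddPairs L).ncard * (num v₀ * num v₀) :=
          Nat.mul_lt_mul_of_pos_right hstrict (Nat.mul_pos hpos hpos)
      _ ≤ 3 * (zPairs z a).ncard := by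
          rw [mul_assoc, mul_comm (oddPairs L).ncard]
          exact Nat.mul_le_mul_left 3 hlow
  exact ⟨hlt.le, fun _ => hlt⟩

end AtA

section Main

variable (hA : c.Norml) (hB : c.swap.Norml)
include hA hB

theorem isConj_cases {t : G} (ht : orderOf t = 2) {z a b : G} (hz : z ∈ c.Z) (h1 : z ≠ 1)
    (ha : a ∈ c.A) (haZ : a ∉ c.Z) (hb : b ∈ c.B) (hbZ : b ∉ c.Z)
    (hzz : ∀ w ∈ c.Z, w ≠ 1 → IsConj z w) (haa : ∀ x ∈ c.A, x ∉ c.Z → IsConj a x)
    (hbb : ∀ x ∈ c.B, x ∉ c.Z → IsConj b x) : IsConj t z ∨ IsConj t a ∨ IsConj t b := by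
  obtain ⟨g, hg⟩ := c.exists_conj_invol ht
  have hc : IsConj t (g * t * g⁻¹) := isConj_iff.2 ⟨g, rfl⟩
  have hne : g * t * g⁻¹ ≠ 1 := fun e => Invol.ne_one ht (conj_eq_one_iff.1 e)
  by_cases hZ : g * t * g⁻¹ ∈ c.Z
  · exact Or.inl (hc.trans (hzz _ hZ hne).symm)
  rcases hg with h | h
  · exact Or.inr (Or.inl (hc.trans (haa _ h hZ).symm))
  · exact Or.inr (Or.inr (hc.trans (hbb _ h hZ).symm))

/-- Neither outer class meets the group of a product from `z` and `a`, save `a` itself. -/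
theorem zero_of_za {z a b x y : G} (hz : z ∈ c.Z) (h1 : z ≠ 1) (ha : a ∈ c.A) (haZ : a ∉ c.Z)
    (hb : b ∈ c.B) (hbZ : b ∉ c.Z) (hx : IsConj z x) (hy : IsConj a y) :
    z ∉ zpowers (x * y) ∧ b ∉ zpowers (x * y) := by
  have hx2 := orderOf_of_isConj (c.orderOf_A hz.1 h1) hx
  have hy2 := orderOf_of_isConj (c.orderOf_A ha fun e => haZ (e ▸ one_mem _)) hy
  constructor
  · intro h
    obtain ⟨hxz, hyz⟩ := commute_of_mem_zpowers hx2 hy2 (c.sq_Z hz) h
    obtain ⟨o, -, s, hs, e, hrel⟩ := c.exists_th_conj hz h1 hx2 hxz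
    obtain ⟨a', ha', haZ', hrel'⟩ := exists_rep hA hB hz h1 ha haZ (show y ∈ centClass a z from ⟨hy, hyz⟩)
    have hsZ : s ∈ c.Z := by
      obtain ⟨g, hg⟩ := isConj_iff.1 hx
      have hes : o⁻¹ * g * z * (o⁻¹ * g)⁻¹ = s := by rw [conj_conj, hg, e]; group
      exact hes ▸ mem_Z_of_conj hA hB hz (hes.symm ▸ hs)
    obtain ⟨k, hk⟩ := (Submonoid.mem_powers_iff _ _).1 (mem_powers_iff_mem_zpowers.2 h)
    have hrel2 := thRel.pow (hxz.mul_left hyz) (thRel.mul hxz hrel hrel') k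
    rw [hk] at hrel2
    have hzk := c.thRel_eq (c.Z_le hz) (pow_mem (mul_mem hs ha'.1) k) hrel2
    have hsa : (s * a') * (s * a') = 1 := c.sq_A (mul_mem hsZ.1 ha')
    rcases Nat.even_or_odd' k with ⟨j, rfl | rfl⟩
    · rw [pow_mul, pow_two, hsa, one_pow] at hzk
      exact h1 hzk
    · rw [pow_succ, pow_mul, pow_two, hsa, one_pow, one_mul] at hzk
      exact haZ' ((c.Z.mul_mem_cancel_left hsZ).1 (hzk ▸ hz))
  · intro h
    obtain ⟨-, hyb⟩ := commute_of_mem_zpowers hx2 hy2 (c.sq_B hb) h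
    have hbA : b ∈ c.swap.A := by rw [swap_A]; exact hb
    have hbZ' : b ∉ c.swap.Z := by rw [swap_Z]; exact hbZ
    obtain ⟨g, -, hg⟩ := exists_conj_into_A hB hbA hbZ' (zpowers y)
      (zpowers_le.2 (mem_centralizer_singleton_iff.2 hyb.eq))
      (IsPGroup.of_card (n := 1) (by rw [Nat.card_zpowers, hy2, pow_one]))
    have hgy := hg y (mem_zpowers y)
    rw [swap_A] at hgy
    obtain ⟨h', hh⟩ := isConj_iff.1 hy
    have hgA := mem_A_of_conj hA hB ha haZ (g := g * h') (by rw [conj_conj, hh]; exact hgy.1)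
    rw [conj_conj, hh] at hgA
    exact hgA.2 ⟨hgA.1, hgy⟩

/-- Pairs of `z` and `a` type with `a` in the group of their product are the pairs of odd product. -/
theorem card_pairs_za {n : G} (hn : n ∈ normalizer ((S : Subgroup G) : Set G)) {β : F} (hβ : β ≠ 1)
    (hY : ∀ s ∈ (S : Subgroup G), c.Y (n * s * n⁻¹) = β * c.Y s) {z a : G} (hz : z ∈ c.Z) (h1 : z ≠ 1)
    (ha : a ∈ c.A) (haZ : a ∉ c.Z) :
    Nat.card {q : G × G // IsConj z q.1 ∧ IsConj a q.2 ∧ a ∈ zpowers (q.1 * q.2)} = (zPairs z a).ncard := by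
  have ha1 : a ≠ 1 := fun e => haZ (e ▸ one_mem _)
  have hz2 := c.orderOf_A hz.1 h1
  have ha2 := c.orderOf_A ha ha1
  show Nat.card ({q : G × G | IsConj z q.1 ∧ IsConj a q.2 ∧ a ∈ zpowers (q.1 * q.2)} : Set (G × G)) = _
  rw [Nat.card_coe_set_eq, ← Set.ncard_image_of_injective (f := fun q : G × G => (q.1, q.2 * a)) (zPairs z a)
    fun p q e => Prod.ext (congrArg Prod.fst e :) (mul_right_cancel (congrArg Prod.snd e :))]
  congr 1
  ext ⟨x, y⟩
  constructor
  · rintro ⟨hx, hy, hmem⟩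
    have hx2 := orderOf_of_isConj hz2 hx
    have hy2 := orderOf_of_isConj ha2 hy
    obtain ⟨hxa, hya⟩ := commute_of_mem_zpowers hx2 hy2 (Invol.inv_mul_self ha2) hmem
    have heven : Even (orderOf (x * y)) := by
      rw [← Nat.not_odd_iff_even]
      intro h
      exact not_isConj_Z hA hB hz ha.1 haZ (hx.trans ((Invol.isConj_of_odd hx2 hy2 h).trans hy.symm))
    obtain ⟨hw2, -, -⟩ := Invol.central_involution hx2 hy2 heven
    set d := x * y with hd
    set m := orderOf d / 2 with hm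
    obtain ⟨k, hk⟩ := heven
    have hkm : m = k := by omega
    -- `a` is the central involution
    have ham : a = d ^ m := by
      obtain ⟨i, hi⟩ := (Submonoid.mem_powers_iff _ _).1 (mem_powers_iff_mem_zpowers.2 hmem)
      have hdvd : orderOf d ∣ i * 2 := by
        rw [orderOf_dvd_iff_pow_eq_one, pow_mul, hi, pow_two, Invol.inv_mul_self ha2]
      rw [hk, ← two_mul, mul_comm i 2] at hdvd
      obtain ⟨r, hr⟩ := Nat.dvd_of_mul_dvd_mul_left (by norm_num) hdvd
      rw [hkm, ← hi, hr, pow_mul]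
      have hsq : d ^ k * d ^ k = 1 := by rw [← pow_add, ← hk, pow_orderOf_eq_one]
      rcases Nat.even_or_odd' r with ⟨j, rfl | rfl⟩
      · exfalso
        rw [hr, pow_mul, pow_mul, pow_two, hsq, one_pow] at hi
        exact ha1 hi.symm
      · rw [pow_succ, pow_mul, pow_two, hsq, one_pow, one_mul]
    have hmodd : Odd m := by
      rw [← Nat.not_even_iff_odd]
      intro ⟨j, hj⟩
      refine ha1 ?_
      rw [ham, hj, pow_add]
      exact sq_eq_one_of_pow_two hA ha haZ (x := d ^ j) ((hxa.mul_left hya).pow_left j)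
        (by rw [← pow_mul, show j * 4 = orderOf d by omega, pow_orderOf_eq_one])
    obtain ⟨i, hi⟩ := hmodd
    have e1 : y = x * d := by rw [hd, ← mul_assoc, Invol.inv_mul_self hx2, one_mul]
    have e2 : y * a = x * d ^ (2 * (i + 1)) := by
      rw [ham, hi, e1, mul_assoc, ← pow_succ', show 2 * i + 1 + 1 = 2 * (i + 1) by ring]
    refine ⟨(x, y * a), ⟨⟨hx, hxa⟩, ⟨hx.trans ?_, hya.mul_left (Commute.refl a)⟩, ?_⟩,
      Prod.ext rfl (show y * a * a = y by rw [mul_assoc, Invol.inv_mul_self ha2, mul_one])⟩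
    · rw [e2, hd]; exact (isConj_mul_of_commute hx2 hy2 (i + 1)).symm
    · rw [e2, ← mul_assoc, Invol.inv_mul_self hx2, one_mul]
      refine Odd.of_dvd_nat (show Odd m from ⟨i, hi⟩) (orderOf_dvd_of_pow_eq_one ?_)
      rw [← pow_mul, show 2 * (i + 1) * m = orderOf d * (i + 1) by rw [hk, hkm]; ring, pow_mul,
        pow_orderOf_eq_one, one_pow]
  · rintro ⟨⟨x', x''⟩, ⟨hx, hx'', hodd⟩, e⟩
    obtain ⟨rfl, rfl⟩ := Prod.ext_iff.1 e
    refine ⟨hx.1, ?_, ?_⟩
    · obtain ⟨g, hga, hgZ, -⟩ := exists_of_zInv hA hB hz h1 ha haZ hx''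
      have e' : g * (x'' * a) * g⁻¹ = g * x'' * g⁻¹ * a := by
        rw [show g * (x'' * a) * g⁻¹ = g * x'' * g⁻¹ * (g * a * g⁻¹) by group, hga.eq, mul_inv_cancel_right]
      obtain ⟨q, -, hq⟩ := exists_conj_AZ hA hn hβ hY (K := ⊤) le_top (mem_top n) ha haZ
        (mul_mem hgZ.1 ha) fun h => haZ ((c.Z.mul_mem_cancel_left hgZ).1 h)
      exact (isConj_iff.2 ⟨q, hq⟩).trans ((isConj_iff.2 ⟨g, e'⟩).symm)
    · show a ∈ zpowers (x' * (x'' * a))
      rw [← mul_assoc]
      obtain ⟨j, hj⟩ := hodd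
      refine mem_zpowers_iff.2 ⟨(orderOf (x' * x'') : ℤ), ?_⟩
      have hc : Commute (x' * x'') a := hx.2.mul_left hx''.2
      rw [zpow_natCast, hc.mul_pow, pow_orderOf_eq_one, one_mul, hj, pow_succ, pow_mul, pow_two,
        Invol.inv_mul_self ha2, one_pow, one_mul]

/-- With all the four-groups normal on one side, the signalizers are balanced on it. -/
theorem bal_of_allNormal (h : AllNormal c) : c.Bal := by
  intro x hx hx1 R hodd hR hAR
  by_cases hxZ : x ∈ c.Z
  · exact c.le_th_of_norm_A hxZ hx1 hodd hR hAR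
  obtain ⟨A₁, hF⟩ := c.exists_fix hA hx hxZ
  exact le_th_of_quotient hA hx hxZ hF (fun z hz hz1 => th_bot_of_normal hA hx hxZ hF hz hz1 (h hA x hx hxZ A₁ hF))
    hodd hR hAR

theorem cent_le_of_allNormal (h : AllNormal c) {a : G} (ha : a ∈ c.A) (haZ : a ∉ c.Z) :
    ∀ g, Commute g a → ∃ o ∈ th a, ∃ n ∈ normalizer (c.A : Set G), g = o * n := by
  intro g hg
  obtain ⟨A₁, hF⟩ := c.exists_fix hA ha haZ
  letI := kerL_normal hA ha haZ hF
  set gC : centralizer ({a} : Set G) := ⟨g, mem_centralizer_singleton_iff.2 hg.eq⟩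
  obtain ⟨m, hm, hmg⟩ := exists_norm_of_quotient hA ha haZ hF (g := gC) fun z hz => by
    obtain ⟨z', hz', e⟩ := (h hA a ha haZ A₁ hF).conj_mem (QuotientGroup.mk' (kerL a A₁) z) ⟨z, hz, rfl⟩
      (QuotientGroup.mk' (kerL a A₁) gC)
    refine ⟨z', hz', ?_⟩
    rw [← QuotientGroup.eq_one_iff, ← QuotientGroup.mk'_apply, map_mul, map_inv, map_mul, map_mul, map_inv, e,
      inv_mul_cancel]
  obtain ⟨o, ho, u, hu, e⟩ := exists_of_mem_kerL hA ha haZ hF hm
  have huA : u ∈ normalizer (c.A : Set G) := le_normalizer (hF.le hu)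
  refine ⟨u⁻¹ * o⁻¹ * u⁻¹⁻¹, conj_mem_of_norm (cent_le_norm_th a (c.A_le_cent ha (inv_mem (hF.le hu))))
    (inv_mem ho), u⁻¹ * (((m * gC : centralizer ({a} : Set G))) : G), mul_mem (inv_mem huA) hmg, ?_⟩
  rw [Subgroup.coe_mul, ← e]
  show g = u⁻¹ * o⁻¹ * u⁻¹⁻¹ * (u⁻¹ * (o * u * g))
  group

end Main

/-- A group with neither normaliser spread and no 2-core does not exist. -/
theorem false_of_norml (hA : c.Norml) (hB : c.swap.Norml) (hO : oddCore G = ⊥) (hT : NoTwoCore G) : False := by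
  classical
  haveI : Fintype G := Fintype.ofFinite G
  have hB' : c.swap.swap.Norml := by simpa [Norml, swap_A, swap_Z, swap_B] using hA
  -- the three actions of the normaliser of `S`
  by_cases hW : ∀ n ∈ normalizer ((S : Subgroup G) : Set G), ∀ z ∈ c.Z, n * z * n⁻¹ = z
  · exact false_of_fix_Z hA hB hO hT hW
  push Not at hW
  obtain ⟨n₀, hn₀, w, hw, hne⟩ := hW
  obtain ⟨α₀, β₀, -, -, hs₀, hz₀⟩ := c.exists_scal hn₀
  have hγ : α₀ * β₀ ≠ 1 := fun e => hne (by
    have hw' := conj_mem_of_norm (c.normS_le_norm_Z hn₀) hw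
    exact c.ext (c.Z_le hw') (c.Z_le hw) (by rw [hw'.1.2, hw.1.2]) (by rw [hw'.2.2, hw.2.2])
      (by rw [hz₀ w hw, e, one_mul]))
  by_cases hY : ∀ n ∈ normalizer ((S : Subgroup G) : Set G), ∀ s ∈ (S : Subgroup G), c.Y (n * s * n⁻¹) = c.Y s
  · exact false_of_fix_Y hA hB hO hT hY hn₀ hγ hz₀
  by_cases hX : ∀ n ∈ normalizer ((S : Subgroup G) : Set G), ∀ s ∈ (S : Subgroup G), c.X (n * s * n⁻¹) = c.X s
  · refine false_of_fix_Y (c := c.swap) hB hB' hO hT (fun n hn s hs => by rw [swap_Y, swap_Y]; exact hX n hn s hs)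
      hn₀ (γ := α₀ * β₀) hγ fun z hz => ?_
    rw [swap_Z] at hz
    have hz' := conj_mem_of_norm (c.normS_le_norm_Z hn₀) hz
    have e : ∀ {x : G}, x ∈ c.Z → c.swap.W x = c.W x := fun {x} hx => by
      rw [c.swap.W_eq (c.Z_le hx), c.W_eq (c.Z_le hx)]
      show (c.e ⟨x, c.Z_le hx⟩).2.2 + (c.e ⟨x, c.Z_le hx⟩).1 * (c.e ⟨x, c.Z_le hx⟩).2.1 = _
      rw [← c.X_eq (c.Z_le hx), hx.1.2, zero_mul, add_zero]
    rw [e hz', e hz, hz₀ z hz]
  push Not at hY hX
  obtain ⟨n₂, hn₂, s₂, hs₂, hne₂⟩ := hY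
  obtain ⟨α₂, β₂, -, hβ₂0, hsc₂, hzc₂⟩ := c.exists_scal hn₂
  have hβ₂ : β₂ ≠ 1 := fun e => hne₂ (by rw [(hsc₂ s₂ hs₂).2, e, one_mul])
  obtain ⟨n₁, hn₁, s₁, hs₁, hne₁⟩ := hX
  obtain ⟨α₁, β₁, -, -, hsc₁, -⟩ := c.exists_scal hn₁
  have hα₁ : α₁ ≠ 1 := fun e => hne₁ (by rw [(hsc₁ s₁ hs₁).1, e, one_mul])
  -- representatives
  set z := c.pt 0 0 1 with hzdef
  set a := c.pt 0 1 0 with hadef
  set b := c.pt 1 0 0 with hbdef
  have hz : z ∈ c.Z := c.pt_mem_Z 1
  have hz1 : z ≠ 1 := fun e => one_ne_zero (α := F) (by rw [← W_pt c (0 : F) 0 1, ← hzdef, e, c.W_one])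
  have ha : a ∈ c.A := c.pt_mem_A ..
  have haZ : a ∉ c.Z := fun h => by simpa [hadef] using h.2.2
  have hb : b ∈ c.B := c.pt_mem_B ..
  have hbZ : b ∉ c.Z := fun h => by simpa [hbdef] using h.1.2
  have hbA : b ∈ c.swap.A := by rw [swap_A]; exact hb
  have hbZ' : b ∉ c.swap.Z := by rw [swap_Z]; exact hbZ
  have hzS : z ∈ c.swap.Z := by rw [swap_Z]; exact hz
  have hzz : ∀ x ∈ c.Z, x ≠ 1 → IsConj z x := fun x hx hx1 => isConj_Z hA hB hn₀ hγ hz₀ hz hz1 hx hx1
  have haa : ∀ x ∈ c.A, x ∉ c.Z → IsConj a x := fun x hx hxZ => by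
    obtain ⟨g, -, hg⟩ := exists_conj_AZ hA hn₂ hβ₂ (fun s hs => (hsc₂ s hs).2) (K := ⊤) le_top (mem_top _)
      ha haZ hx hxZ
    exact isConj_iff.2 ⟨g, hg⟩
  have hY₁ : ∀ s ∈ (S : Subgroup G), c.swap.Y (n₁ * s * n₁⁻¹) = α₁ * c.swap.Y s := fun s hs => by
    rw [swap_Y, swap_Y]; exact (hsc₁ s hs).1
  have hbb : ∀ x ∈ c.B, x ∉ c.Z → IsConj b x := fun x hx hxZ => by
    obtain ⟨g, -, hg⟩ := exists_conj_AZ (c := c.swap) hB hn₁ hα₁ hY₁ (K := ⊤) le_top (mem_top _) hbA hbZ'
      (by rw [swap_A]; exact hx) (by rw [swap_Z]; exact hxZ)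
    exact isConj_iff.2 ⟨g, hg⟩
  have hz2 := c.orderOf_A hz.1 hz1
  have ha2 := c.orderOf_A ha fun e => haZ (e ▸ one_mem _)
  have hb2 := c.swap.orderOf_A hbA fun e => hbZ (e ▸ one_mem _)
  have hza := not_isConj_Z hA hB hz ha.1 haZ
  have hzb := not_isConj_Z hA hB hz hb.1 hbZ
  have hab := not_isConj_A_B hA hB ha haZ hb hbZ
  have hall := fun t ht => isConj_cases hA hB (t := t) ht hz hz1 ha haZ hb hbZ hzz haa hbb
  set Cz := Nat.card (centralizer ({z} : Set G))
  set Ca := Nat.card (centralizer ({a} : Set G))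
  set Cb := Nat.card (centralizer ({b} : Set G))
  have hCa : 0 < Ca := Nat.card_pos
  have hCb : 0 < Cb := Nat.card_pos
  have hCz : 0 < Cz := Nat.card_pos
  have Fza : Nat.card G = Cz * (zPairs z a).ncard := by
    have h := order_formula_single hz2 ha2 hb2 hza hzb hab hall hz2 ha2 hza (w := a) (Or.inr (Or.inl rfl))
      fun w' hw' hne' x y hx hy => by
        rcases hw' with rfl | rfl | rfl
        · exact (zero_of_za hA hB hz hz1 ha haZ hb hbZ hx hy).1
        · exact absurd rfl hne'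
        · exact (zero_of_za hA hB hz hz1 ha haZ hb hbZ hx hy).2
    rw [card_pairs_za hA hB hn₂ hβ₂ (fun s hs => (hsc₂ s hs).2) hz hz1 ha haZ] at h
    exact Nat.eq_of_mul_eq_mul_right hCa (h.trans (by ring))
  have Fzb : Nat.card G = Cz * (zPairs z b).ncard := by
    have h := order_formula_single hz2 ha2 hb2 hza hzb hab hall hz2 hb2 hzb (w := b) (Or.inr (Or.inr rfl))
      fun w' hw' hne' x y hx hy => by
        have h0 := zero_of_za (c := c.swap) hB hB' hzS hz1 hbA hbZ' (b := a)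
          (by rw [swap_B]; exact ha) (by rw [swap_Z]; exact haZ) hx hy
        rcases hw' with rfl | rfl | rfl
        · exact h0.1
        · exact h0.2
        · exact absurd rfl hne'
    rw [card_pairs_za (c := c.swap) hB hB' hn₁ hα₁ hY₁ hzS hz1 hbA hbZ'] at h
    exact Nat.eq_of_mul_eq_mul_right hCb (h.trans (by ring))
  by_cases hNA : AllNormal c ∧ AllNormal c.swap
  · -- balance on both sides
    obtain ⟨hNa, hNb⟩ := hNA
    have hbal := bal_of_allNormal hA hB hNa
    by_cases hne : c.wZ = ⊥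
    · have hthA : ∀ x ∈ c.A, th x = ⊥ := fun x hx => le_bot_iff.1 (hne ▸ c.th_le_wZ hx)
      have hcentA : ∀ g, Commute g a → g ∈ normalizer (c.A : Set G) := fun g hg => by
        obtain ⟨o, ho, n, hn, rfl⟩ := cent_le_of_allNormal hA hB hNa ha haZ g hg
        rw [hthA a ha, mem_bot] at ho
        rwa [ho, one_mul]
      have hzI : zInv z a = (c.Z : Set G) \ {1} := by
        ext x
        constructor
        · intro hx
          obtain ⟨g, hga, hgZ, hg1⟩ := exists_of_zInv hA hB hz hz1 ha haZ hx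
          refine ⟨?_, fun e => hg1 (by rw [Set.mem_singleton_iff.1 e, mul_one, mul_inv_cancel])⟩
          have := conj_mem_of_norm (inv_mem (hA (hcentA g hga))) hgZ
          rwa [show g⁻¹ * (g * x * g⁻¹) * g⁻¹⁻¹ = x by group] at this
        · rintro ⟨hx, hx1⟩
          exact ⟨hzz x hx hx1, c.commute_A hx.1 ha⟩
      have hP3 : (zPairs z a).ncard = 3 := by
        have : zPairs z a = (fun x => (x, x)) '' ((c.Z : Set G) \ {1}) := by
          ext ⟨x, y⟩
          constructor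
          · rintro ⟨hx, hy, hodd⟩
            have hx' := hzI ▸ hx
            have hy' := hzI ▸ hy
            refine ⟨x, hx', Prod.ext rfl ?_⟩
            have h1 := eq_one_of_odd_of_sq hodd (c.sq_Z (mul_mem hx'.1 hy'.1))
            exact (eq_inv_of_mul_eq_one_right h1 |>.trans (inv_eq_of_mul_eq_one_right (c.sq_Z hx'.1))).symm
          · rintro ⟨v, hv, e⟩
            obtain ⟨rfl, rfl⟩ := Prod.ext_iff.1 e
            refine ⟨hzI ▸ hv, hzI ▸ hv, ?_⟩
            show Odd (orderOf (v * v))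
            rw [c.sq_Z hv.1, orderOf_one]; exact odd_one
        rw [this, Set.ncard_image_of_injective _ fun p q e => congrArg Prod.fst e,
          Set.ncard_sdiff_singleton_of_mem (one_mem c.Z), ← Nat.card_coe_set_eq, SetLike.coe_sort_coe, c.card_Z]
      have hcl := Invol.card_conj_mul_centralizer (G := G) z
      rw [show Nat.card G = Cz * 3 by rw [Fza, hP3], mul_comm Cz 3] at hcl
      have h3 := Nat.eq_of_mul_eq_mul_right hCz hcl
      have hclass : ∀ g, g * z * g⁻¹ ∈ c.Z := fun g => by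
        have hset : (c.Z : Set G) \ {1} = {y | IsConj z y} := by
          refine Set.eq_of_subset_of_ncard_le (fun y hy => hzz y hy.1 hy.2) ?_ (Set.toFinite _)
          rw [Set.ncard_sdiff_singleton_of_mem (one_mem c.Z), ← Nat.card_coe_set_eq (c.Z : Set G),
            SetLike.coe_sort_coe, c.card_Z, ← Nat.card_coe_set_eq]
          exact le_of_eq h3
        exact ((Set.ext_iff.1 hset _).2 (isConj_iff.2 ⟨g, rfl⟩ : IsConj z (g * z * g⁻¹))).1
      haveI : c.Z.Normal := ⟨fun x hx g => by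
        rcases eq_or_ne x 1 with rfl | hx1
        · rw [mul_one, mul_inv_cancel]; exact one_mem _
        · obtain ⟨h, rfl⟩ := isConj_iff.1 (hzz x hx hx1)
          rw [← conj_conj]; exact hclass _⟩
      exact false_of_comm_normal hT (fun x hx y hy => c.commute_Z hx (c.Z_le hy)) hz hz1 (c.sq_Z hz)
    · refine hza (isConj_of_stronglyEmbedded
        (c.stronglyEmbedded_wZ hbal.odd_wZ hne hO ?_ ?_) hz2 ha2)
      · intro x hxS hx2 g hg
        by_cases hxZ : x ∈ c.Z
        · exact c.cent_le_norm_wZ hxZ (Invol.ne_one hx2) hg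
        rcases (c.sq_eq_one_iff hxS).1 (Invol.inv_mul_self hx2) with hx | hx
        · obtain ⟨o, ho, n, hn, rfl⟩ := cent_le_of_allNormal hA hB hNa hx hxZ g (mem_centralizer_singleton_iff.1 hg)
          exact mul_mem (le_normalizer (c.th_le_wZ hx ho)) (c.normA_le_norm_wZ hn)
        · obtain ⟨o, ho, n, hn, rfl⟩ := cent_le_of_allNormal (c := c.swap) hB hB' hNb
            (by rw [swap_A]; exact hx) (by rw [swap_Z]; exact hxZ) g (mem_centralizer_singleton_iff.1 hg)
          rw [swap_A] at hn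
          have ho' := c.swap.th_le_wZ (x := x) (by rw [swap_A]; exact hx) ho
          rw [swap_wZ] at ho'
          exact mul_mem (le_normalizer ho') (c.normB_le_norm_wZ hn)
      · intro x hxS hx2 g hg
        by_cases hxZ : x ∈ c.Z
        · have hgz := mem_Z_of_conj hA hB hxZ hg
          obtain ⟨n, hn, e⟩ := c.exists_norm_conj hxZ.1 hgz.1
          exact ⟨n, c.normA_le_norm_wZ hn, e⟩
        rcases (c.sq_eq_one_iff hxS).1 (Invol.inv_mul_self hx2) with hx | hx
        · obtain ⟨n, hn, e⟩ := c.exists_norm_conj hx (mem_A_of_conj hA hB hx hxZ hg).1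
          exact ⟨n, c.normA_le_norm_wZ hn, e⟩
        · have hgB := (mem_A_of_conj (c := c.swap) hB hB' (a := x) (g := g) (by rw [swap_A]; exact hx)
            (by rw [swap_Z]; exact hxZ) hg).1
          obtain ⟨n, hn, e⟩ := c.swap.exists_norm_conj (a := x) (g := g) (by rw [swap_A]; exact hx) hgB
          rw [swap_A] at hn
          exact ⟨n, c.normB_le_norm_wZ hn, e⟩
  -- some four-group is not normal, so an element of `C(z)` moves both outer classes
  have hτ : ∃ n ∈ normalizer ((S : Subgroup G) : Set G), ∃ α β : F, α * β = 1 ∧ β ≠ 1 ∧ α ≠ 1 ∧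
      ∀ s ∈ (S : Subgroup G), c.X (n * s * n⁻¹) = α * c.X s ∧ c.Y (n * s * n⁻¹) = β * c.Y s := by
    have hcomb : ∀ (p q : G), p ∈ normalizer ((S : Subgroup G) : Set G) →
        q ∈ normalizer ((S : Subgroup G) : Set G) → ∀ {u v : F}, u ≠ 1 →
        (∀ s ∈ (S : Subgroup G), c.X (p * s * p⁻¹) = u * c.X s ∧ c.Y (p * s * p⁻¹) = v * c.Y s) →
        v = 1 → ∀ {u' v' : F}, u' ≠ 0 → v' ≠ 0 → v' ≠ 1 →
        (∀ s ∈ (S : Subgroup G), c.X (q * s * q⁻¹) = u' * c.X s ∧ c.Y (q * s * q⁻¹) = v' * c.Y s) →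
        ∃ n ∈ normalizer ((S : Subgroup G) : Set G), ∃ α β : F, α * β = 1 ∧ β ≠ 1 ∧ α ≠ 1 ∧
          ∀ s ∈ (S : Subgroup G), c.X (n * s * n⁻¹) = α * c.X s ∧ c.Y (n * s * n⁻¹) = β * c.Y s := by
      intro p q hp hq u v hu hps hv u' v' hu' hv' hv'1 hqs
      subst hv
      have hu0 : u ≠ 0 := fun e => by
        have h1 := c.pt_mem 1 0 0
        have h2 : p * c.pt 1 0 0 * p⁻¹ ∈ c.A := ⟨conj_mem_of_norm hp h1, by rw [(hps _ h1).1, e, zero_mul]⟩
        simpa using ((mem_normalizer_iff.1 (c.normS_le_norm_A hp) _).2 h2).2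
      have hpk : ∀ k : ℕ, ∀ s ∈ (S : Subgroup G), c.X (p ^ k * s * (p ^ k)⁻¹) = u ^ k * c.X s ∧
          c.Y (p ^ k * s * (p ^ k)⁻¹) = c.Y s := fun k => by
        induction k with
        | zero => intro s _; simp
        | succ k ih =>
          intro s hs
          rw [pow_succ, conj_conj, (ih _ (conj_mem_of_norm hp hs)).1, (ih _ (conj_mem_of_norm hp hs)).2,
            (hps s hs).1, (hps s hs).2, one_mul, pow_succ, mul_assoc]
          exact ⟨rfl, rfl⟩
      obtain ⟨k, hk⟩ : ∃ k : ℕ, u ^ k = (u' * v')⁻¹ := by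
        rcases field_cases c.hF hu0 hu (u' * v')⁻¹ with h | h | h | h
        · exact absurd h (inv_ne_zero (mul_ne_zero hu' hv'))
        · exact ⟨0, by rw [h, pow_zero]⟩
        · exact ⟨1, by rw [h, pow_one]⟩
        · exact ⟨2, by rw [h]; linear_combination field_quad c.hF hu0 hu + (-1 : F) * field_two c.hF (u + 1)⟩
      have hprod : u ^ k * u' * v' = 1 := by
        rw [hk, mul_assoc, inv_mul_cancel₀ (mul_ne_zero hu' hv')]
      refine ⟨p ^ k * q, mul_mem (pow_mem hp k) hq, u ^ k * u', v', hprod, hv'1, fun e => hv'1 ?_, fun s hs => ?_⟩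
      · rw [e, one_mul] at hprod; exact hprod
      · rw [conj_conj, (hpk k _ (conj_mem_of_norm hq hs)).1, (hpk k _ (conj_mem_of_norm hq hs)).2,
          (hqs s hs).1, (hqs s hs).2, mul_assoc]
        exact ⟨rfl, rfl⟩
    by_cases hNa : AllNormal c
    · have hNb : ¬ AllNormal c.swap := fun h => hNA ⟨hNa, h⟩
      obtain ⟨x, hx, hxZ, B₁, hF, hnn⟩ := exists_of_not_allNormal hB hNb
      obtain ⟨g, hg, hgx, γ, hγ', hgW⟩ := (exists_move_or_normal hB hB' hx hxZ hF).resolve_right hnn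
      obtain ⟨u, v, hu, hv, hYg, hWg, p, hp, hps⟩ := c.swap.exists_scal_of_norm hg (hB hg)
      have hx0 : c.swap.Y x ≠ 0 := fun e => hxZ ⟨hx, hx.1, e⟩
      have hv1 : v = 1 := by
        have := hYg x hx
        rw [hgx.eq, mul_inv_cancel_right] at this
        exact (mul_eq_right₀ hx0).1 this.symm
      have hu1 : u ≠ 1 := fun e => hγ' (by
        have h1 := hgW _ (c.swap.pt_mem_Z 1)
        rw [hWg _ (c.swap.pt_mem_Z 1), e, hv1, one_mul, W_pt, mul_one, mul_one] at h1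
        exact h1.symm)
      -- `p` fixes `B/Z` and moves `A/Z`; combine with `n₁`
      have hsw : ∀ s ∈ (S : Subgroup G), c.Y (p * s * p⁻¹) = u * c.Y s ∧ c.X (p * s * p⁻¹) = c.X s :=
        fun s hs => by
          have := hps s hs
          rw [swap_X, swap_X, swap_Y, swap_Y, hv1, one_mul] at this
          exact this
      have hu0 : u ≠ 0 := hu
      have hpk : ∀ k : ℕ, ∀ s ∈ (S : Subgroup G), c.Y (p ^ k * s * (p ^ k)⁻¹) = u ^ k * c.Y s ∧
          c.X (p ^ k * s * (p ^ k)⁻¹) = c.X s := fun k => by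
        induction k with
        | zero => intro s _; simp
        | succ k ih =>
          intro s hs
          rw [pow_succ, conj_conj, (ih _ (conj_mem_of_norm hp hs)).1, (ih _ (conj_mem_of_norm hp hs)).2,
            (hsw s hs).1, (hsw s hs).2, pow_succ, mul_assoc]
          exact ⟨rfl, rfl⟩
      obtain ⟨α₁', β₁', hα0, hβ0, hsc, -⟩ := c.exists_scal hn₁
      have hα' : α₁' ≠ 1 := fun e => hne₁ (by rw [(hsc s₁ hs₁).1, e, one_mul])
      obtain ⟨k, hk⟩ : ∃ k : ℕ, u ^ k = (α₁' * β₁')⁻¹ := by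
        rcases field_cases c.hF hu0 hu1 (α₁' * β₁')⁻¹ with h | h | h | h
        · exact absurd h (inv_ne_zero (mul_ne_zero hα0 hβ0))
        · exact ⟨0, by rw [h, pow_zero]⟩
        · exact ⟨1, by rw [h, pow_one]⟩
        · exact ⟨2, by rw [h]; linear_combination field_quad c.hF hu0 hu1 + (-1 : F) * field_two c.hF (u + 1)⟩
      have hprod : α₁' * (u ^ k * β₁') = 1 := by
        rw [hk]; field_simp
      refine ⟨p ^ k * n₁, mul_mem (pow_mem hp k) hn₁, α₁', u ^ k * β₁', hprod, fun e => hα' ?_, hα', fun s hs => ?_⟩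
      · rw [e, mul_one] at hprod; exact hprod
      · rw [conj_conj, (hpk k _ (conj_mem_of_norm hn₁ hs)).1, (hpk k _ (conj_mem_of_norm hn₁ hs)).2,
          (hsc s hs).1, (hsc s hs).2, mul_assoc]
        exact ⟨rfl, rfl⟩
    · obtain ⟨x, hx, hxZ, A₁, hF, hnn⟩ := exists_of_not_allNormal hA hNa
      obtain ⟨g, hg, hgx, γ, hγ', hgW⟩ := (exists_move_or_normal hA hB hx hxZ hF).resolve_right hnn
      obtain ⟨u, v, hu, hv, hYg, hWg, p, hp, hps⟩ := c.exists_scal_of_norm hg (hA hg)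
      have hx0 : c.Y x ≠ 0 := fun e => hxZ ⟨hx, hx.1, e⟩
      have hv1 : v = 1 := by
        have := hYg x hx
        rw [hgx.eq, mul_inv_cancel_right] at this
        exact (mul_eq_right₀ hx0).1 this.symm
      have hu1 : u ≠ 1 := fun e => hγ' (by
        have h1 := hgW _ (c.pt_mem_Z 1)
        rw [hWg _ (c.pt_mem_Z 1), e, hv1, one_mul, W_pt, mul_one, mul_one] at h1
        exact h1.symm)
      obtain ⟨α₂', β₂', hα0, hβ0, hsc, -⟩ := c.exists_scal hn₂
      exact hcomb p n₂ hp hn₂ hu1 hps hv1 hα0 hβ0 (fun e => hne₂ (by rw [(hsc s₂ hs₂).2, e, one_mul])) hsc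
  obtain ⟨n, hn, α, β, hαβ, hβ, hα, hsc⟩ := hτ
  have Fab : Nat.card G * Cz = Ca * Cb * (48 * {y : G | y ∈ centClass a z ∧ thRel z y a}.ncard *
      {y : G | y ∈ centClass b z ∧ thRel z y b}.ncard) := by
    have h := order_formula_single hz2 ha2 hb2 hza hzb hab hall ha2 hb2 hab (w := z) (Or.inl rfl)
      fun w' hw' hne' x y hx hy hmem => by
        have hx2 := orderOf_of_isConj ha2 hx
        have hy2 := orderOf_of_isConj hb2 hy
        rcases hw' with rfl | rfl | rfl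
        · exact absurd rfl hne'
        · obtain ⟨-, hya⟩ := commute_of_mem_zpowers hx2 hy2 (Invol.inv_mul_self ha2) hmem
          obtain ⟨g, -, hg⟩ := exists_conj_into_A hA ha haZ (zpowers y)
            (zpowers_le.2 (mem_centralizer_singleton_iff.2 hya.eq))
            (IsPGroup.of_card (n := 1) (by rw [Nat.card_zpowers, hy2, pow_one]))
          obtain ⟨q, hq⟩ := isConj_iff.1 hy
          have := mem_A_of_conj (c := c.swap) hB hB' (a := b) (g := g * q) hbA hbZ'
            (by rw [conj_conj, hq]; exact (hg y (mem_zpowers y)).1)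
          rw [conj_conj, hq, swap_A, swap_Z] at this
          exact this.2 ⟨hg y (mem_zpowers y), this.1⟩
        · obtain ⟨hxb, -⟩ := commute_of_mem_zpowers hx2 hy2 (Invol.inv_mul_self hb2) hmem
          obtain ⟨g, -, hg⟩ := exists_conj_into_A hB hbA hbZ' (zpowers x)
            (zpowers_le.2 (mem_centralizer_singleton_iff.2 hxb.eq))
            (IsPGroup.of_card (n := 1) (by rw [Nat.card_zpowers, hx2, pow_one]))
          have hgx := hg x (mem_zpowers x)
          rw [swap_A] at hgx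
          obtain ⟨q, hq⟩ := isConj_iff.1 hx
          have := mem_A_of_conj hA hB ha haZ (g := g * q) (by rw [conj_conj, hq]; exact hgx.1)
          rw [conj_conj, hq] at this
          exact this.2 ⟨this.1, hgx⟩
    rwa [card_pairs_AB hA hB hn hαβ hβ hα hsc hz hz1 ha haZ hb hbZ] at h
  have hJa := (card_centClass hA hB hn hαβ hβ hsc hz hz1 ha haZ).1
  have hJb := (card_centClass (c := c.swap) hB hB' hn (α := β) (β := α) (by rw [mul_comm, hαβ]) hα
    (fun s hs' => by rw [swap_X, swap_X, swap_Y, swap_Y]; exact (hsc s hs').symm) hzS hz1 hbA hbZ').1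
  have hDa : Cz * (zInv z a).ncard = Ca * (centClass a z).ncard := by
    rw [← Nat.card_coe_set_eq, ← Nat.card_coe_set_eq]; exact card_cent_mul a z
  have hDb : Cz * (zInv z b).ncard = Cb * (centClass b z).ncard := by
    rw [← Nat.card_coe_set_eq, ← Nat.card_coe_set_eq]; exact card_cent_mul b z
  rw [hJa] at hDa
  rw [hJb] at hDb
  set da := {y : G | y ∈ centClass a z ∧ thRel z y a}.ncard
  set db := {y : G | y ∈ centClass b z ∧ thRel z y b}.ncard
  set Ia := (zInv z a).ncard with hIa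
  set Ib := (zInv z b).ncard with hIb
  have key : Ia * Ib = 3 * (zPairs z a).ncard := by
    have h : Cz * Cz * (Ia * Ib) = Cz * Cz * (3 * (zPairs z a).ncard) := by
      calc Cz * Cz * (Ia * Ib) = (Cz * Ia) * (Cz * Ib) := by ring
        _ = 3 * (Ca * Cb * (48 * da * db)) := by rw [hDa, hDb]; ring
        _ = 3 * (Nat.card G * Cz) := by rw [Fab]
        _ = Cz * Cz * (3 * (zPairs z a).ncard) := by rw [Fza]; ring
    exact Nat.eq_of_mul_eq_mul_left (Nat.mul_pos hCz hCz) h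
  have hPeq : (zPairs z a).ncard = (zPairs z b).ncard :=
    Nat.eq_of_mul_eq_mul_left hCz (Fza.symm.trans Fzb)
  -- strictness
  have hzz' : ∀ x ∈ c.swap.Z, x ≠ 1 → IsConj z x := fun x hx => hzz x (by rwa [swap_Z] at hx)
  obtain ⟨A₁, hFa⟩ := c.exists_fix hA ha haZ
  obtain ⟨B₁, hFb⟩ := c.swap.exists_fix hB hbA hbZ'
  have hla := sq_le_zPairs hA hB ha haZ hFa hz hz1 hzz
  have hlb := sq_le_zPairs (c := c.swap) hB hB' hbA hbZ' hFb hzS hz1 hzz'
  rw [← key, ← hIa] at hla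
  rw [← hPeq, ← key, ← hIb] at hlb
  by_cases hNa : AllNormal c
  · have hNb : ¬ AllNormal c.swap := fun h => hNA ⟨hNa, h⟩
    obtain ⟨x, hx, hxZ, B, hF, hnn⟩ := exists_of_not_allNormal hB hNb
    obtain ⟨g, -, hg⟩ := exists_conj_AZ (c := c.swap) hB hn₁ hα₁ hY₁ (K := ⊤) le_top (mem_top _) hbA hbZ' hx hxZ
    have hlt := (sq_le_zPairs (c := c.swap) hB hB' hx hxZ hF hzS hz1 hzz').2 hnn
    have hI : (zInv z x).ncard = Ib := ncard_zInv_conj hg
    have hP : (zPairs z x).ncard = (zPairs z b).ncard := ncard_zPairs_conj hg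
    rw [hI, hP, ← hPeq, ← key] at hlt
    have h1 : Ib < Ia := by
      by_contra hh; push Not at hh
      have := Nat.mul_le_mul_right Ib hh
      rw [pow_two] at hlt; omega
    have h2 := hla.1
    rw [pow_two] at h2
    have h3 : Ia ≤ Ib := by
      rcases Nat.eq_zero_or_pos Ia with h | h
      · omega
      · exact Nat.le_of_mul_le_mul_left h2 h
    omega
  · obtain ⟨x, hx, hxZ, A, hF, hnn⟩ := exists_of_not_allNormal hA hNa
    obtain ⟨g, -, hg⟩ := exists_conj_AZ hA hn₂ hβ₂ (fun s hs => (hsc₂ s hs).2) (K := ⊤) le_top (mem_top _)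
      ha haZ hx hxZ
    have hlt := (sq_le_zPairs hA hB hx hxZ hF hz hz1 hzz).2 hnn
    have hI : (zInv z x).ncard = Ia := ncard_zInv_conj hg
    have hP : (zPairs z x).ncard = (zPairs z a).ncard := ncard_zPairs_conj hg
    rw [hI, hP, ← key] at hlt
    have h1 : Ia < Ib := by
      by_contra hh; push Not at hh
      have := Nat.mul_le_mul_left Ia hh
      rw [pow_two] at hlt; omega
    have h2 := hlb.1
    rw [pow_two] at h2
    have h3 : Ib ≤ Ia := by
      rcases Nat.eq_zero_or_pos Ib with h | h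
      · omega
      · exact Nat.le_of_mul_le_mul_right h2 h
    omega
where
  ncard_zInv_conj {G : Type u} [Group G] [Finite G] {z a a' g : G} (hg : g * a * g⁻¹ = a') :
      (zInv z a').ncard = (zInv z a).ncard := by
    rw [← Set.ncard_image_of_injective (zInv z a) (MulAut.conj g).injective]
    congr 1
    ext x
    subst hg
    constructor
    · rintro ⟨h, hc⟩
      refine ⟨g⁻¹ * x * g, ⟨h.trans (isConj_iff.2 ⟨g⁻¹, by group⟩), (Commute.conj_iff g).1 ?_⟩,
        by rw [MulAut.conj_apply]; group⟩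
      rwa [show g * (g⁻¹ * x * g) * g⁻¹ = x by group]
    · rintro ⟨y, ⟨h, hc⟩, rfl⟩
      exact ⟨h.trans (isConj_iff.2 ⟨g, rfl⟩), (Commute.conj_iff g).2 hc⟩
  ncard_zPairs_conj {G : Type u} [Group G] [Finite G] {z a a' g : G} (hg : g * a * g⁻¹ = a') :
      (zPairs z a').ncard = (zPairs z a).ncard := by
    rw [← Set.ncard_image_of_injective (zPairs z a)
      (f := fun p : G × G => (g * p.1 * g⁻¹, g * p.2 * g⁻¹)) fun p q e => by
        obtain ⟨e1, e2⟩ := Prod.ext_iff.1 e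
        exact Prod.ext (mul_left_cancel (mul_right_cancel e1)) (mul_left_cancel (mul_right_cancel e2))]
    congr 1
    ext ⟨x, y⟩
    subst hg
    constructor
    · rintro ⟨⟨h, hc⟩, ⟨h', hc'⟩, ho⟩
      refine ⟨(g⁻¹ * x * g, g⁻¹ * y * g), ⟨⟨h.trans (isConj_iff.2 ⟨g⁻¹, by group⟩), (Commute.conj_iff g).1 ?_⟩,
        ⟨h'.trans (isConj_iff.2 ⟨g⁻¹, by group⟩), (Commute.conj_iff g).1 ?_⟩, ?_⟩, Prod.ext (by group) (by group)⟩
      · rwa [show g * (g⁻¹ * x * g) * g⁻¹ = x by group]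
      · rwa [show g * (g⁻¹ * y * g) * g⁻¹ = y by group]
      · show Odd (orderOf (g⁻¹ * x * g * (g⁻¹ * y * g)))
        rw [show g⁻¹ * x * g * (g⁻¹ * y * g) = g⁻¹ * (x * y) * g⁻¹⁻¹ by group, Invol.orderOf_conj_eq]
        exact ho
    · rintro ⟨⟨p, q⟩, ⟨⟨h, hc⟩, ⟨h', hc'⟩, ho⟩, e⟩
      obtain ⟨rfl, rfl⟩ := Prod.ext_iff.1 e
      refine ⟨⟨h.trans (isConj_iff.2 ⟨g, rfl⟩), (Commute.conj_iff g).2 hc⟩,
        ⟨h'.trans (isConj_iff.2 ⟨g, rfl⟩), (Commute.conj_iff g).2 hc'⟩, ?_⟩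
      show Odd (orderOf (g * p * g⁻¹ * (g * q * g⁻¹)))
      rw [show g * p * g⁻¹ * (g * q * g⁻¹) = g * (p * q) * g⁻¹ by group, Invol.orderOf_conj_eq]
      exact ho

end Crd

end Cfsg.Lib.Syl34
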