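import Cfsg.Agent.Lib.Syl34.CentL
import Cfsg.Agent.Lib.Syl34.FourCount

/-!
# The quotient of the centraliser of an involution outside `Z`
-/

set_option autoImplicit false
set_option linter.style.haveILetI false
set_option linter.unusedSectionVars false

namespace Cfsg.Lib.Syl34

open Subgroup Cfsg Cfsg.Lib

universe u

variable {L : Type u} [Group L] [Finite L] {V : Sylow 2 L}

/-- A normal four-group has trivial signalizers. -/
theorem FourData.th_eq_bot_of_normal (h : FourData V) (hO : oddCore L = ⊥) (hn : (V : Subgroup L).Normal)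
    {v : L} (hv : v ∈ (V : Subgroup L)) (h1 : v ≠ 1) : th v = ⊥ := by
  haveI : Fact (Nat.Prime 2) := ⟨Nat.prime_two⟩
  haveI := hn
  have hcop : ∀ x ∈ th v, x ∈ (V : Subgroup L) → x = 1 := fun x hx hxV =>
    eq_one_of_odd_of_sq (odd_of_mem_th hx) (h.sq x hxV)
  have hVC : (V : Subgroup L) ≤ centralizer ({v} : Set L) := fun x hx =>
    mem_centralizer_singleton_iff.2 (h.comm hx hv).eq
  -- the signalizer centralises the four-group
  have hcent : th v ≤ centralizer ((V : Subgroup L) : Set L) := fun o ho => mem_centralizer_iff.2 fun x hx => by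
    have h2 : o * x * o⁻¹ * x⁻¹ = 1 := hcop _ (by
        rw [show o * x * o⁻¹ * x⁻¹ = o * (x * o⁻¹ * x⁻¹) by group]
        exact mul_mem ho (conj_mem_of_norm (cent_le_norm_th v (hVC hx)) (inv_mem ho)))
      (mul_mem (hn.conj_mem x hx o) (inv_mem hx))
    exact (mul_inv_eq_iff_eq_mul.1 (mul_inv_eq_one.1 h2)).symm
  have hodd : ∀ g ∈ centralizer ((V : Subgroup L) : Set L), Odd (orderOf g) → g ∈ th v := by
    intro g hg hgodd
    obtain ⟨o, ho, x, hx, rfl⟩ := h.cent v hv h1 g (mem_centralizer_iff.1 hg v hv).symm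
    have hc : Commute o x := (mem_centralizer_iff.1 (hcent ho) x hx).symm
    refine mem_of_pow_two hgodd (k := 1) ?_
    rw [pow_one, hc.mul_pow, pow_two x, h.sq x hx, mul_one]
    exact pow_mem ho 2
  refine le_bot_iff.1 (hO ▸ ZStar.le_oddCore ⟨fun o ho g => hodd _ ?_ ?_⟩ (odd_th v))
  · exact (Subgroup.normal_centralizer (H := (V : Subgroup L))).conj_mem o (hcent ho) g
  · rw [Invol.orderOf_conj_eq]; exact odd_of_mem_th ho

/-- With trivial signalizers no odd subgroup is normalised by the four-group. -/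
theorem FourData.eq_bot_of_th (h : FourData V) (hth : ∀ v ∈ (V : Subgroup L), v ≠ 1 → th v = ⊥)
    (R : Subgroup L) (hR : Odd (Nat.card R)) (hVR : (V : Subgroup L) ≤ normalizer (R : Set L)) : R = ⊥ := by
  haveI : IsMulCommutative (V : Subgroup L) := ⟨⟨fun a b => Subtype.ext (h.comm a.2 b.2).eq⟩⟩
  have hnc : ¬ IsCyclic (V : Subgroup L) := fun hc => by
    obtain ⟨g, hg⟩ := hc.exists_generator
    have h4 := orderOf_eq_card_of_forall_mem_zpowers hg
    have hle := orderOf_le_of_pow_eq_one (x := g) (n := 2) two_pos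
      (Subtype.ext (by rw [SubgroupClass.coe_pow, pow_two]; exact h.sq g g.2))
    rw [h.card] at h4
    omega
  have hcop : (Nat.card (V : Subgroup L)).Coprime (Nat.card R) := by
    rw [h.card, show (4 : ℕ) = 2 ^ 2 from rfl]
    exact (Nat.coprime_two_left.2 hR).pow_left 2
  refine le_bot_iff.1 ((Coprime.le_iSup_centralizer_of_not_isCyclic hnc hVR hcop).trans (iSup_le ?_))
  rintro ⟨v, hv, hv1⟩ g hg
  obtain ⟨hgR, hgv⟩ := Subgroup.mem_inf.1 hg
  obtain ⟨o, ho, x, hx, rfl⟩ := h.cent v hv hv1 g (mem_centralizer_singleton_iff.1 hgv)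
  rw [hth v hv hv1, mem_bot] at ho
  rw [mem_bot]
  exact eq_one_of_odd_of_sq (hR.of_dvd_nat (Subgroup.orderOf_dvd_natCard _ hgR))
    (by rw [ho, one_mul]; exact h.sq x hx)

/-- A group of order `60` with such a four-group has trivial signalizers. -/
theorem FourData.th_eq_bot_of_cent (h : FourData V)
    (hC : ∀ v ∈ (V : Subgroup L), v ≠ 1 → centralizer ({v} : Set L) ≤ (V : Subgroup L))
    {v : L} (hv : v ∈ (V : Subgroup L)) (h1 : v ≠ 1) : th v = ⊥ :=
  (Subgroup.eq_bot_iff_forall _).2 fun o ho =>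
    eq_one_of_odd_of_sq (odd_of_mem_th ho) (h.sq o (hC v hv h1 (th_le v ho)))

variable {G : Type u} [Group G] [Finite G] {F : Type*} [Field F] [Fintype F] {S : Sylow 2 G}

namespace Crd

variable {c : Crd (S : Subgroup G) F} (hN : c.Norml) {a : G} (ha : a ∈ c.A) (haZ : a ∉ c.Z)
  {A₁ : Subgroup G} (hA : c.IsFix a A₁)
include hN ha haZ hA

/-- The four-group data of `C(a)/O(C(a))A₁`, with the signalizers covered by those of `Z`. -/
theorem fourData :
    letI := kerL_normal hN ha haZ hA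
    ∃ V : Sylow 2 (centralizer ({a} : Set G) ⧸ kerL a A₁), FourData V ∧
      (V : Subgroup (centralizer ({a} : Set G) ⧸ kerL a A₁)) =
        (c.Z.subgroupOf (centralizer ({a} : Set G))).map (QuotientGroup.mk' (kerL a A₁)) ∧
      ∀ z : centralizer ({a} : Set G), (z : G) ∈ c.Z → (z : G) ≠ 1 →
        th (QuotientGroup.mk' (kerL a A₁) z) ≤
          ((th (z : G)).subgroupOf (centralizer ({a} : Set G))).map (QuotientGroup.mk' (kerL a A₁)) := by
  letI := kerL_normal hN ha haZ hA
  obtain ⟨V, hV, hV4⟩ := exists_sylow_quotient hN ha haZ hA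
  set π := QuotientGroup.mk' (kerL a A₁) with hπ
  -- elements commuting with an involution of `V`
  have key : ∀ z : centralizer ({a} : Set G), (z : G) ∈ c.Z → (z : G) ≠ 1 → ∀ g, Commute g (π z) →
      ∃ o : centralizer ({a} : Set G), (o : G) ∈ th (z : G) ∧
        ∃ x : centralizer ({a} : Set G), (x : G) ∈ c.A ∧ π o * π x = g := by
    intro z hz hz1 g hg
    obtain ⟨g, rfl⟩ := QuotientGroup.mk'_surjective _ g
    obtain ⟨m, hm, hmz⟩ := exists_commute_lift hN ha haZ hA hz (g := g) fun w hw => by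
      rw [show w = z from Subtype.ext hw, ← QuotientGroup.eq_one_iff, ← QuotientGroup.mk'_apply, ← hπ, map_mul,
        map_inv, map_mul, map_mul, map_inv, hg.eq, mul_inv_cancel_right, inv_mul_cancel]
    obtain ⟨o, ho, x, hx, e⟩ := exists_th_mul_A hN ha haZ hA hz hz1 (m * g).2 hmz
    refine ⟨⟨o, (Subgroup.mem_inf.1 ho).2⟩, (Subgroup.mem_inf.1 ho).1, ⟨x, c.A_le_cent ha hx⟩, hx, ?_⟩
    have e' : (⟨o, (Subgroup.mem_inf.1 ho).2⟩ : centralizer ({a} : Set G)) * ⟨x, c.A_le_cent ha hx⟩ = m * g :=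
      Subtype.ext e
    rw [← map_mul, e', map_mul, show π m = 1 from (QuotientGroup.eq_one_iff _).2 hm, one_mul]
  have hxV : ∀ x : centralizer ({a} : Set G), (x : G) ∈ c.A →
      π x ∈ (V : Subgroup (centralizer ({a} : Set G) ⧸ kerL a A₁)) := by
    intro x hx
    obtain ⟨u, hu, w, hw, e⟩ := hA.cover _ hx
    rw [hV]
    refine ⟨⟨w, c.A_le_cent ha hw.1⟩, hw, ?_⟩
    rw [show x = (⟨u, c.A_le_cent ha (hA.le hu)⟩ : centralizer ({a} : Set G)) * ⟨w, c.A_le_cent ha hw.1⟩
      from Subtype.ext e.symm, map_mul, show π ⟨u, c.A_le_cent ha (hA.le hu)⟩ = 1 from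
      (QuotientGroup.eq_one_iff _).2 (mem_sup_right hu), one_mul]
  -- the images of the signalizers
  have himg : ∀ z : centralizer ({a} : Set G), (z : G) ∈ c.Z → (z : G) ≠ 1 →
      ((th (z : G)).subgroupOf (centralizer ({a} : Set G))).map π ≤ th (π z) := by
    intro z hz hz1
    set R := ((th (z : G)).subgroupOf (centralizer ({a} : Set G))).map π
    refine le_th ?_ (fun g hg => ?_) ?_
    · rintro _ ⟨o, ho, rfl⟩
      refine mem_centralizer_singleton_iff.2 (Commute.map (Subtype.ext ?_ : Commute o z) π).eq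
      exact (commute_of_mem_th (mem_subgroupOf.1 ho)).eq
    · obtain ⟨o, ho, x, hx, rfl⟩ := key z hz hz1 g (mem_centralizer_singleton_iff.1 hg)
      rw [← map_mul]
      refine mem_norm_of_conj_mem ?_
      rintro _ ⟨r, hr, rfl⟩
      refine ⟨o * x * r * (o * x)⁻¹, mem_subgroupOf.2 ?_, by simp⟩
      simp only [Subgroup.coe_mul, InvMemClass.coe_inv]
      refine conj_mem_of_norm (mul_mem (le_normalizer ho) (cent_le_norm_th _ ?_)) (mem_subgroupOf.1 hr)
      exact mem_centralizer_singleton_iff.2 (c.commute_A hx hz.1).eq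
    · refine Odd.of_dvd_nat ?_ (card_map_dvd _ _)
      exact (odd_th (z : G)).of_dvd_nat (card_dvd_of_injective
        (((centralizer ({a} : Set G)).subtype.comp ((th (z : G)).subgroupOf _).subtype).codRestrict (th (z : G))
          fun r => r.2) fun r r' e => Subtype.ext (Subtype.ext (congrArg Subtype.val e :)))
  have hsq : ∀ v ∈ (V : Subgroup (centralizer ({a} : Set G) ⧸ kerL a A₁)), v * v = 1 := by
    intro v hv
    rw [hV] at hv
    obtain ⟨z, hz, rfl⟩ := hv
    rw [← map_mul, show z * z = 1 from Subtype.ext (c.sq_Z hz), map_one]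
  refine ⟨V, ⟨hV4, hsq, fun v hv h1 g hg => ?_⟩, hV, fun z hz hz1 => ?_⟩
  · rw [hV] at hv
    obtain ⟨z, hz, rfl⟩ := hv
    have hz1 : (z : G) ≠ 1 := fun e => h1 (by rw [show z = 1 from Subtype.ext e, map_one])
    obtain ⟨o, ho, x, hx, e⟩ := key z hz hz1 g hg
    exact ⟨π o, himg z hz hz1 ⟨o, mem_subgroupOf.2 ho, rfl⟩, π x, hxV x hx, e⟩
  · intro l hl
    obtain ⟨o, ho, x, hx, e⟩ := key z hz hz1 l (commute_of_mem_th hl)
    have hox : π x = 1 := by
      refine eq_one_of_odd_of_sq ?_ (hsq _ (hxV x hx))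
      refine (odd_th (π z)).of_dvd_nat (Subgroup.orderOf_dvd_natCard _ ?_)
      have := mul_mem (inv_mem (himg z hz hz1 ⟨o, mem_subgroupOf.2 ho, rfl⟩)) hl
      rwa [← e, inv_mul_cancel_left] at this
    exact ⟨o, mem_subgroupOf.2 ho, by rw [← e, hox, mul_one]⟩

/-- Balance at `a` when the quotient has trivial signalizers. -/
theorem le_th_of_quotient
    (hth : letI := kerL_normal hN ha haZ hA
      ∀ z : centralizer ({a} : Set G), (z : G) ∈ c.Z → (z : G) ≠ 1 → th (QuotientGroup.mk' (kerL a A₁) z) = ⊥)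
    {R : Subgroup G} (hodd : Odd (Nat.card R)) (hR : R ≤ centralizer ({a} : Set G))
    (hAR : c.A ≤ normalizer (R : Set G)) : R ≤ th a := by
  letI := kerL_normal hN ha haZ hA
  obtain ⟨V, hV, hVe, -⟩ := fourData hN ha haZ hA
  set π := QuotientGroup.mk' (kerL a A₁)
  set Rq := (R.subgroupOf (centralizer ({a} : Set G))).map π
  have hbot : Rq = ⊥ := by
    refine hV.eq_bot_of_th (fun v hv h1 => ?_) Rq ?_ ?_
    · rw [hVe] at hv
      obtain ⟨z, hz, rfl⟩ := hv
      exact hth z hz fun e => h1 (by rw [show z = 1 from Subtype.ext e, map_one])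
    · refine Odd.of_dvd_nat ?_ (card_map_dvd _ _)
      rwa [Nat.card_congr (subgroupOfEquivOfLe hR).toEquiv]
    · intro v hv
      rw [hVe] at hv
      obtain ⟨z, hz, rfl⟩ := hv
      refine mem_norm_of_conj_mem ?_
      rintro _ ⟨r, hr, rfl⟩
      refine ⟨z * r * z⁻¹, mem_subgroupOf.2 ?_, by simp [π]⟩
      exact conj_mem_of_norm (hAR hz.1) (mem_subgroupOf.1 hr)
  intro r hr
  refine mem_th_of_odd hN ha haZ hA (x := ⟨r, hR hr⟩) ?_ (hodd.of_dvd_nat (Subgroup.orderOf_dvd_natCard _ hr))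
  rw [← QuotientGroup.eq_one_iff, ← QuotientGroup.mk'_apply, ← mem_bot, ← hbot]
  exact ⟨⟨r, hR hr⟩, mem_subgroupOf.2 hr, rfl⟩

/-- A normal four-group gives trivial signalizers in the quotient. -/
theorem th_bot_of_normal {z : centralizer ({a} : Set G)} (hz : (z : G) ∈ c.Z) (h1 : (z : G) ≠ 1)
    (hn : letI := kerL_normal hN ha haZ hA
      ((c.Z.subgroupOf (centralizer ({a} : Set G))).map (QuotientGroup.mk' (kerL a A₁))).Normal) :
    letI := kerL_normal hN ha haZ hA
    th (QuotientGroup.mk' (kerL a A₁) z) = ⊥ := by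
  letI := kerL_normal hN ha haZ hA
  obtain ⟨V, hV, hVe, -⟩ := fourData hN ha haZ hA
  refine hV.th_eq_bot_of_normal (oddCore_quotient hN ha haZ hA) (hVe ▸ hn) ?_ fun e => ?_
  · rw [hVe]; exact ⟨z, hz, rfl⟩
  · exact h1 (eq_one_of_Z hN ha haZ hA hz ((QuotientGroup.eq_one_iff _).1 e) rfl)

end Crd

end Cfsg.Lib.Syl34
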