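import Cfsg.Agent.Lib.Syl34.BothTransfer
import Cfsg.Agent.Lib.Syl34.LData
import Cfsg.Agent.Lib.Syl34.Formula

/-!
# No spread normaliser: the involutions commuting with one outside `Z`
-/

set_option autoImplicit false
set_option linter.style.haveILetI false
set_option linter.unusedSectionVars false

namespace Cfsg.Lib.Syl34

open Subgroup Cfsg Cfsg.Lib

universe u

variable {G : Type u} [Group G] [Finite G] {F : Type*} [Field F] [Fintype F]

/-- The conjugates of `z` commuting with `a`. -/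
abbrev zInv (z a : G) : Set G := {x | IsConj z x ∧ Commute x a}

/-- The pairs of those with product of odd order. -/
abbrev zPairs (z a : G) : Set (G × G) :=
  {p | p.1 ∈ zInv z a ∧ p.2 ∈ zInv z a ∧ Odd (orderOf (p.1 * p.2))}

namespace Crd

variable {S : Sylow 2 G} (c : Crd (S : Subgroup G) F)

/-- A 2-subgroup of `C(a)` is conjugate in `C(a)` into `A`. -/
theorem exists_conj_into_A {c : Crd (S : Subgroup G) F} (hN : c.Norml) {a : G} (ha : a ∈ c.A)
    (haZ : a ∉ c.Z) (K : Subgroup G) (hK : K ≤ centralizer ({a} : Set G)) (hK2 : IsPGroup 2 K) :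
    ∃ g, Commute g a ∧ ∀ x ∈ K, g * x * g⁻¹ ∈ c.A := by
  haveI : Fact (Nat.Prime 2) := ⟨Nat.prime_two⟩
  obtain ⟨T, hT⟩ := c.exists_sylow_cent hN ha haZ
  obtain ⟨g, hg⟩ := Invol.exists_conj_mem_sylow T (K := K.subgroupOf (centralizer ({a} : Set G)))
    hK2.comap_subtype
  refine ⟨(g : G), mem_centralizer_singleton_iff.1 g.2, fun x hx => ?_⟩
  have := hg ⟨x, hK hx⟩ (mem_subgroupOf.2 hx)
  replace this : _ ∈ (T : Subgroup (centralizer ({a} : Set G))) := this
  rw [hT, mem_subgroupOf] at this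
  simpa using this

/-- An element of `C(a)` of order prime to `2` or `2` only: no element of order four. -/
theorem sq_eq_one_of_pow_two {c : Crd (S : Subgroup G) F} (hN : c.Norml) {a : G} (ha : a ∈ c.A)
    (haZ : a ∉ c.Z) {x : G} (hx : Commute x a) (hx4 : x ^ 4 = 1) : x * x = 1 := by
  have hp : IsPGroup 2 (zpowers x) := fun p => ⟨2, Subtype.ext (by
    obtain ⟨i, hi⟩ := mem_zpowers_iff.1 p.2
    rw [SubgroupClass.coe_pow, ← hi, ← zpow_natCast, ← zpow_mul, mul_comm, zpow_mul]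
    norm_num
    rw [hx4, one_zpow])⟩
  obtain ⟨g, -, hg⟩ := exists_conj_into_A hN ha haZ (zpowers x)
    (zpowers_le.2 (mem_centralizer_singleton_iff.2 hx.eq)) hp
  have := c.sq_A (hg x (mem_zpowers x))
  rw [show g * x * g⁻¹ * (g * x * g⁻¹) = g * (x * x) * g⁻¹ by group] at this
  exact conj_eq_one_iff.1 this

section Norml

variable {c} (hA : c.Norml) (hB : c.swap.Norml)
include hA hB

theorem not_isConj_Z {z a : G} (hz : z ∈ c.Z) (haS : a ∈ (S : Subgroup G)) (haZ : a ∉ c.Z) :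
    ¬ IsConj z a := fun h => by
  obtain ⟨g, rfl⟩ := isConj_iff.1 h
  exact haZ (mem_Z_of_conj hA hB hz haS)

theorem not_isConj_A_B {a b : G} (ha : a ∈ c.A) (haZ : a ∉ c.Z) (hb : b ∈ c.B) (hbZ : b ∉ c.Z) :
    ¬ IsConj a b := fun h => by
  obtain ⟨g, rfl⟩ := isConj_iff.1 h
  exact hbZ (c.mem_Z.2 ⟨hb.1, (mem_A_of_conj hA hB ha haZ hb.1).1.2, hb.2⟩)

/-- All involutions of `Z` are conjugate once one element moves one of them. -/
theorem isConj_Z {n : G} (hn : n ∈ normalizer ((S : Subgroup G) : Set G)) {γ : F} (hγ : γ ≠ 1)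
    (hW : ∀ z ∈ c.Z, c.W (n * z * n⁻¹) = γ * c.W z) {z z' : G} (hz : z ∈ c.Z) (h1 : z ≠ 1)
    (hz' : z' ∈ c.Z) (h1' : z' ≠ 1) : IsConj z z' := by
  have hw := c.W_ne_zero hz h1
  have hγ0 : γ ≠ 0 := fun e => c.W_ne_zero (conj_mem_of_norm (c.normS_le_norm_Z hn) hz)
    (fun e' => h1 (conj_eq_one_iff.1 e')) (by rw [hW z hz, e, zero_mul])
  have key : ∀ g ∈ normalizer (c.Z : Set G), c.W (g * z * g⁻¹) = c.W z' → IsConj z z' := fun g hg e => by
    have hgz := conj_mem_of_norm hg hz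
    exact isConj_iff.2 ⟨g, c.ext (c.Z_le hgz) (c.Z_le hz') (by rw [hgz.1.2, hz'.1.2])
      (by rw [hgz.2.2, hz'.2.2]) e⟩
  have hdiv : c.W z' = c.W z' / c.W z * c.W z := (div_mul_cancel₀ _ hw).symm
  have hnz := c.normS_le_norm_Z hn
  rcases field_cases c.hF hγ0 hγ (c.W z' / c.W z) with h | h | h | h <;> rw [h] at hdiv
  · exact absurd (by rw [hdiv, zero_mul]) (c.W_ne_zero hz' h1')
  · exact key 1 (one_mem _) (by rw [one_mul, inv_one, mul_one, hdiv, one_mul])
  · exact key n hnz (by rw [hW z hz, hdiv])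
  · refine key (n * n) (mul_mem hnz hnz) ?_
    rw [conj_conj, hW _ (conj_mem_of_norm hnz hz), hW z hz, hdiv]
    linear_combination c.W z * field_quad c.hF hγ0 hγ + (-1 : F) * c.W z * field_two c.hF (γ + 1)

omit hB in
/-- All involutions of `A` outside `Z` are conjugate under a subgroup moving `A/Z` and containing `S`. -/
theorem exists_conj_AZ {n : G} (hn : n ∈ normalizer ((S : Subgroup G) : Set G)) {β : F} (hβ : β ≠ 1)
    (hY : ∀ s ∈ (S : Subgroup G), c.Y (n * s * n⁻¹) = β * c.Y s) {K : Subgroup G}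
    (hSK : (S : Subgroup G) ≤ K) (hnK : n ∈ K) {a a' : G} (ha : a ∈ c.A) (haZ : a ∉ c.Z) (ha' : a' ∈ c.A)
    (haZ' : a' ∉ c.Z) : ∃ g ∈ K, g * a * g⁻¹ = a' := by
  have hy0 : c.Y a ≠ 0 := fun e => haZ ⟨ha, ha.1, e⟩
  have hy0' : c.Y a' ≠ 0 := fun e => haZ' ⟨ha', ha'.1, e⟩
  have hnA := c.normS_le_norm_A hn
  have key : ∀ g ∈ K, g ∈ normalizer (c.A : Set G) → c.Y (g * a * g⁻¹) = c.Y a' →
      ∃ h ∈ K, h * a * h⁻¹ = a' := by
    intro g hg hgA e
    have hga := conj_mem_of_norm hgA ha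
    refine ⟨c.pt ((c.W a' + c.W (g * a * g⁻¹)) / c.Y a') 0 0 * g, mul_mem (hSK (c.pt_mem ..)) hg, ?_⟩
    rw [conj_conj, c.S_conj_A (c.pt_mem ..) hga, X_pt, e, div_mul_cancel₀ _ hy0']
    refine c.ext (mul_mem (c.pt_mem ..) hga.1) ha'.1
      (by rw [c.X_mul (c.pt_mem ..) hga.1, X_pt, hga.2, ha'.2, add_zero])
      (by rw [c.Y_mul (c.pt_mem ..) hga.1, Y_pt, e, zero_add]) ?_
    rw [c.W_mul (c.pt_mem ..) hga.1, W_pt, X_pt, zero_mul, add_zero]
    linear_combination field_two c.hF (c.W (g * a * g⁻¹))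
  have hβ0 : β ≠ 0 := fun e => haZ ((mem_normalizer_iff.1 (c.normS_le_norm_Z hn) a).2 (c.mem_Z.2
    ⟨(conj_mem_of_norm hnA ha).1, (conj_mem_of_norm hnA ha).2, by rw [hY a ha.1, e, zero_mul]⟩))
  have hdiv : c.Y a' = c.Y a' / c.Y a * c.Y a := (div_mul_cancel₀ _ hy0).symm
  rcases field_cases c.hF hβ0 hβ (c.Y a' / c.Y a) with h | h | h | h <;> rw [h] at hdiv
  · exact absurd (by rw [hdiv, zero_mul]) hy0'
  · exact key 1 (one_mem _) (one_mem _) (by rw [one_mul, inv_one, mul_one, hdiv, one_mul])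
  · exact key n hnK hnA (by rw [hY a ha.1, hdiv])
  · refine key (n * n) (mul_mem hnK hnK) (mul_mem hnA hnA) ?_
    rw [conj_conj, hY _ (conj_mem_of_norm hnA ha).1, hY a ha.1, hdiv]
    linear_combination c.Y a * field_quad c.hF hβ0 hβ + (-1 : F) * c.Y a * field_two c.hF (β + 1)

/-- A conjugate of `z` commuting with `a` is conjugate in `C(a)` to an involution of `Z`. -/
theorem exists_of_zInv {z a x : G} (hz : z ∈ c.Z) (hz1 : z ≠ 1) (ha : a ∈ c.A) (haZ : a ∉ c.Z)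
    (hx : x ∈ zInv z a) : ∃ g, Commute g a ∧ g * x * g⁻¹ ∈ c.Z ∧ g * x * g⁻¹ ≠ 1 := by
  obtain ⟨hcj, hcom⟩ := hx
  have hx2 : orderOf x = 2 := orderOf_of_isConj (c.orderOf_A hz.1 hz1) hcj
  obtain ⟨g, hga, hg⟩ := exists_conj_into_A hA ha haZ (zpowers x)
    (zpowers_le.2 (mem_centralizer_singleton_iff.2 hcom.eq))
    (IsPGroup.of_card (n := 1) (by rw [Nat.card_zpowers, hx2, pow_one]))
  obtain ⟨h, rfl⟩ := isConj_iff.1 hcj
  refine ⟨g, hga, ?_, fun e => Invol.ne_one hx2 (conj_eq_one_iff.1 e)⟩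
  have := mem_Z_of_conj hA hB (g := g * h) hz (by rw [conj_conj]; exact (hg _ (mem_zpowers _)).1)
  rwa [conj_conj] at this

variable {a : G} (ha : a ∈ c.A) (haZ : a ∉ c.Z) {A₁ : Subgroup G} (hF : c.IsFix a A₁)
include ha haZ hF

/-- Odd product in the quotient forces odd product. -/
theorem odd_of_odd_image {z x x' : G} (hz : z ∈ c.Z) (hz1 : z ≠ 1) (hx : x ∈ zInv z a) (hx' : x' ∈ zInv z a)
    (hodd : letI := kerL_normal hA ha haZ hF
      Odd (orderOf (QuotientGroup.mk' (kerL a A₁) ⟨x, mem_centralizer_singleton_iff.2 hx.2.eq⟩ *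
        QuotientGroup.mk' (kerL a A₁) ⟨x', mem_centralizer_singleton_iff.2 hx'.2.eq⟩))) :
    Odd (orderOf (x * x')) := by
  letI := kerL_normal hA ha haZ hF
  rw [← Nat.not_even_iff_odd]
  intro heven
  have h2 := orderOf_of_isConj (c.orderOf_A hz.1 hz1) hx.1
  have h2' := orderOf_of_isConj (c.orderOf_A hz.1 hz1) hx'.1
  obtain ⟨hw2, hwx, hwx'⟩ := Invol.central_involution h2 h2' heven
  set d := x * x' with hd
  set m := orderOf d / 2 with hm
  set w := d ^ m with hw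
  have hwa : Commute w a := (hx.2.mul_left hx'.2).pow_left m
  -- the central involution lies in the kernel
  set wC : centralizer ({a} : Set G) := ⟨w, mem_centralizer_singleton_iff.2 hwa.eq⟩
  have hwk : wC ∈ kerL a A₁ := by
    rw [← QuotientGroup.eq_one_iff, ← QuotientGroup.mk'_apply]
    refine eq_one_of_odd_of_sq ?_ ?_
    · refine hodd.of_dvd_nat ?_
      rw [← map_mul]
      refine (dvd_of_eq ?_).trans (orderOf_pow_dvd m)
      rw [← map_pow]
      rfl
    · rw [← map_mul, show wC * wC = 1 from Subtype.ext (Invol.inv_mul_self hw2), map_one]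
  -- conjugate the four-group into `A`
  have hK : closure ({x, w} : Set G) ≤ centralizer ({a} : Set G) := by
    rw [closure_le]
    rintro p (rfl | rfl)
    · exact mem_centralizer_singleton_iff.2 hx.2.eq
    · exact mem_centralizer_singleton_iff.2 hwa.eq
  obtain ⟨g, hga, hg⟩ := exists_conj_into_A hA ha haZ _ hK
    (isPGroup_closure_pair (Invol.inv_mul_self h2) (Invol.inv_mul_self hw2) hwx.symm)
  have hxA := hg x (subset_closure (Set.mem_insert _ _))
  have hwA := hg w (subset_closure (Set.mem_insert_of_mem _ rfl))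
  have hxZ : g * x * g⁻¹ ∈ c.Z := by
    obtain ⟨h, hh⟩ := isConj_iff.1 hx.1
    have := mem_Z_of_conj hA hB (g := g * h) hz (by rw [conj_conj, hh]; exact hxA.1)
    rwa [conj_conj, hh] at this
  have hwZ : g * w * g⁻¹ ∉ c.Z := by
    intro hZ
    set gC : centralizer ({a} : Set G) := ⟨g, mem_centralizer_singleton_iff.2 hga.eq⟩
    have := eq_one_of_Z hA ha haZ hF hZ ((kerL_normal hA ha haZ hF).conj_mem wC hwk gC) rfl
    exact Invol.ne_one hw2 (conj_eq_one_iff.1 this)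
  have hxwZ : g * (x * w) * g⁻¹ ∉ c.Z := by
    rw [show g * (x * w) * g⁻¹ = g * x * g⁻¹ * (g * w * g⁻¹) by group]
    exact fun h => hwZ ((c.Z.mul_mem_cancel_left hxZ).1 h)
  -- half the order is odd
  have hmodd : Odd m := by
    rw [← Nat.not_even_iff_odd]
    intro ⟨j, hj⟩
    refine Invol.ne_one hw2 ?_
    have hh := sq_eq_one_of_pow_two hA ha haZ (x := d ^ j) ((hx.2.mul_left hx'.2).pow_left j) ?_
    · rw [hw, hj, pow_add]; exact hh
    · rw [← pow_mul, show j * 4 = orderOf d by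
        obtain ⟨k, hk⟩ := heven
        omega, pow_orderOf_eq_one]
  obtain ⟨i, hi⟩ := hmodd
  have hx'w : IsConj (x * w) x' := by
    have e1 : x' = x * d := by rw [hd, ← mul_assoc, Invol.inv_mul_self h2, one_mul]
    have hxd := fun j : ℤ => Invol.zpow_mul_of_inverts (Invol.inv_mul_self h2) (Invol.conj_mul_left h2 h2') j
    refine isConj_iff.2 ⟨d ^ (i : ℤ), ?_⟩
    rw [e1, hw, hi, show d ^ (i : ℤ) * (x * d ^ (2 * i + 1)) * (d ^ (i : ℤ))⁻¹ =
      d ^ (i : ℤ) * x * (d ^ (2 * i + 1) * (d ^ (i : ℤ))⁻¹) by group, hxd i, mul_assoc,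
      ← zpow_natCast d (2 * i + 1), ← zpow_neg, ← zpow_add, ← zpow_add]
    push_cast
    ring_nf
    simp [hd]
  refine not_isConj_Z hA hB hz (a := g * (x * w) * g⁻¹) ?_ hxwZ
    ((hx'.1.trans hx'w.symm).trans (isConj_iff.2 ⟨g, rfl⟩))
  rw [show g * (x * w) * g⁻¹ = g * x * g⁻¹ * (g * w * g⁻¹) by group]
  exact mul_mem hxA.1 hwA.1

end Norml

end Crd

end Cfsg.Lib.Syl34
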