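import Cfsg.Agent.Lib.Syl34.Th

/-!
# The centraliser of an involution of `A` outside `Z` when `Z` is normal in the normaliser of `A`

Modulo its odd core the centraliser is a complement `A₁` of `Z` times a group with Sylow 2-subgroup `Z`.
-/

set_option autoImplicit false
set_option linter.style.haveILetI false
set_option linter.unusedSectionVars false

namespace Cfsg.Lib.Syl34

open Subgroup Cfsg Cfsg.Lib

universe u

variable {G : Type u} [Group G] [Finite G] {F : Type*} [Field F] [Fintype F]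

namespace Crd

variable {S : Sylow 2 G} (c : Crd (S : Subgroup G) F)

theorem norm_fix {g a : G} (hg : g ∈ normalizer (c.A : Set G)) (hZ : g ∈ normalizer (c.Z : Set G))
    (ha : a ∈ c.A) (haZ : a ∉ c.Z) (hfix : g * a * g⁻¹ = a) :
    ∀ x ∈ c.A, g * x * g⁻¹ * x⁻¹ ∈ c.Z := by
  obtain ⟨α, β, -, -, hY, -, -⟩ := c.exists_scal_of_norm hg hZ
  have hy : c.Y a ≠ 0 := fun e => haZ (c.mem_Z.2 ⟨ha.1, ha.2, e⟩)
  have hβ : β = 1 := by
    have := hY a ha
    rw [hfix] at this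
    exact (mul_eq_right₀ hy).1 this.symm
  intro x hx
  have h := conj_mem_of_norm hg hx
  exact c.mem_Z.2 ⟨mul_mem h.1 (inv_mem hx.1),
    by rw [c.X_mul h.1 (inv_mem hx.1), c.X_inv hx.1, h.2, hx.2, add_zero],
    by rw [c.Y_mul h.1 (inv_mem hx.1), c.Y_inv hx.1, hY x hx, hβ, one_mul]; exact field_two c.hF _⟩

/-- An element of the stabiliser that centralises `Z` centralises `A`. -/
theorem fix_A_of_fix {g a : G} (hg : g ∈ normalizer (c.A : Set G)) (hZ : g ∈ normalizer (c.Z : Set G))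
    (ha : a ∈ c.A) (haZ : a ∉ c.Z) (hfix : g * a * g⁻¹ = a) (hz : ∀ z ∈ c.Z, g * z * g⁻¹ = z) :
    ∀ x ∈ c.A, g * x * g⁻¹ = x := by
  obtain ⟨s, hs, hact⟩ := c.exists_S_of_unip (g := g) ⟨hz, c.norm_fix hg hZ ha haZ hfix⟩
  have hsA : s ∈ c.A := c.mem_A_of_commute ha haZ hs
    (mul_inv_eq_iff_eq_mul.1 (((hact a ha).symm).trans hfix))
  intro x hx
  rw [hact x hx, (c.commute_A hsA hx).eq, mul_inv_cancel_right]

/-- A complement of `Z` in `A` containing `a`, fixed pointwise by `N(A) ∩ C(a)`. -/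
structure IsFix (a : G) (A₁ : Subgroup G) : Prop where
  le : A₁ ≤ c.A
  mem : a ∈ A₁
  disj : ∀ x ∈ A₁, x ∈ c.Z → x = 1
  cover : ∀ x ∈ c.A, ∃ u ∈ A₁, ∃ z ∈ c.Z, u * z = x
  fixed : ∀ g ∈ normalizer (c.A : Set G), g * a * g⁻¹ = a → ∀ x ∈ A₁, g * x * g⁻¹ = x

theorem exists_fix (hN : c.Norml) {a : G} (ha : a ∈ c.A) (haZ : a ∉ c.Z) :
    ∃ A₁, c.IsFix a A₁ := by
  have hy : c.Y a ≠ 0 := fun e => haZ (c.mem_Z.2 ⟨ha.1, ha.2, e⟩)
  by_cases hmove : ∃ g ∈ normalizer (c.A : Set G), g * a * g⁻¹ = a ∧ ∃ z ∈ c.Z, g * z * g⁻¹ ≠ z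
  · obtain ⟨g, hg, hga, z₀, hz₀, hgz⟩ := hmove
    obtain ⟨α, β, -, -, -, hW, -⟩ := c.exists_scal_of_norm hg (hN hg)
    -- `g` fixes no involution of `Z`
    have hfree : ∀ z ∈ c.Z, g * z * g⁻¹ = z → z = 1 := fun z hz e => by
      by_contra h1
      exact hgz (c.fix_Z_of_fix hg (hN hg) hz h1 e z₀ hz₀)
    let A₁ : Subgroup G :=
      { carrier := {x | x ∈ c.A ∧ g * x * g⁻¹ = x}
        one_mem' := ⟨one_mem _, by group⟩
        mul_mem' := fun {x y} hx hy => ⟨mul_mem hx.1 hy.1, by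
          rw [show g * (x * y) * g⁻¹ = g * x * g⁻¹ * (g * y * g⁻¹) by group, hx.2, hy.2]⟩
        inv_mem' := fun {x} hx => ⟨inv_mem hx.1, by
          rw [show g * x⁻¹ * g⁻¹ = (g * x * g⁻¹)⁻¹ by group, hx.2]⟩ }
    refine ⟨A₁, fun x hx => hx.1, ⟨ha, hga⟩, fun x hx hxz => hfree x hxz hx.2, fun x hx => ?_, ?_⟩
    · -- the commutator map is onto on `Z`
      have hu := c.norm_fix hg (hN hg) ha haZ hga x hx
      have hab : α * β ≠ 1 := fun e => hgz (by
        have hz' := conj_mem_of_norm (hN hg) hz₀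
        exact c.ext (c.Z_le hz') (c.Z_le hz₀) (by rw [hz'.1.2, hz₀.1.2]) (by rw [hz'.2.2, hz₀.2.2])
          (by rw [hW z₀ hz₀, e, one_mul]))
      have hne : α * β + 1 ≠ 0 := fun e => hab (field_eq_of_add c.hF e)
      set u := g * x * g⁻¹ * x⁻¹ with hu'
      set z := c.pt 0 0 (c.W u / (α * β + 1)) with hz
      have hzZ : z ∈ c.Z := c.pt_mem_Z _
      have hgzz : g * z * g⁻¹ = u * z := by
        have hl := conj_mem_of_norm (hN hg) hzZ
        have hr := mul_mem hu hzZ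
        refine c.ext (c.Z_le hl) (c.Z_le hr) (by rw [hl.1.2, hr.1.2]) (by rw [hl.2.2, hr.2.2]) ?_
        rw [hW z hzZ, c.W_mul (c.Z_le hu) (c.Z_le hzZ), hu.1.2, zero_mul, add_zero, hz, W_pt]
        field_simp
        linear_combination -c.W u * field_two c.hF 1
      refine ⟨x * z, ⟨mul_mem hx hzZ.1, ?_⟩, z, hzZ, by rw [mul_assoc, c.sq_Z hzZ, mul_one]⟩
      rw [show g * (x * z) * g⁻¹ = g * x * g⁻¹ * (g * z * g⁻¹) by group, hgzz,
        show g * x * g⁻¹ = u * x by rw [hu', inv_mul_cancel_right], ← mul_assoc, mul_assoc u x u,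
        (c.commute_A hx hu.1).eq, ← mul_assoc u u x, c.sq_Z hu, one_mul]
    · intro h hh hha x hx
      -- `h` commutes with `g` on `A`
      have hh' := conj_mem_of_norm hh hx.1
      have hfix2 : ∀ w ∈ c.Z, g * h * w * (g * h)⁻¹ = h * g * w * (h * g)⁻¹ := by
        intro w hw
        obtain ⟨α', β', -, -, -, hW', -⟩ := c.exists_scal_of_norm hh (hN hh)
        rw [conj_conj, conj_conj]
        have h1 := conj_mem_of_norm (hN hh) hw
        have h2 := conj_mem_of_norm (hN hg) hw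
        have h3 := conj_mem_of_norm (hN hg) h1
        have h4 := conj_mem_of_norm (hN hh) h2
        exact c.ext (c.Z_le h3) (c.Z_le h4) (by rw [h3.1.2, h4.1.2]) (by rw [h3.2.2, h4.2.2])
          (by rw [hW _ h1, hW' _ hw, hW' _ h2, hW _ hw]; ring)
      have hk : ∀ y ∈ c.A, g * h * y * (g * h)⁻¹ = h * g * y * (h * g)⁻¹ := by
        intro y hy
        set k := (h * g)⁻¹ * (g * h) with hkdef
        have hkA : k ∈ normalizer (c.A : Set G) := mul_mem (inv_mem (mul_mem hh hg)) (mul_mem hg hh)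
        have hkfix : k * a * k⁻¹ = a := by
          rw [hkdef, conj_conj, conj_conj g h, hha, hga]
          conv_lhs => rw [← hha, ← hga]
          group
        have hkz : ∀ w ∈ c.Z, k * w * k⁻¹ = w := fun w hw => by
          rw [hkdef, conj_conj, hfix2 w hw]; group
        calc g * h * y * (g * h)⁻¹ = h * g * (k * y * k⁻¹) * (h * g)⁻¹ := by rw [hkdef]; group
          _ = h * g * y * (h * g)⁻¹ := by rw [c.fix_A_of_fix hkA (hN hkA) ha haZ hkfix hkz y hy]
      have hin : g * (h * x * h⁻¹) * g⁻¹ = h * x * h⁻¹ := by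
        have := hk x hx.1
        rwa [conj_conj, conj_conj, hx.2] at this
      have hd := c.norm_fix hh (hN hh) ha haZ hha x hx.1
      have := hfree _ hd (by
        rw [show g * (h * x * h⁻¹ * x⁻¹) * g⁻¹ = g * (h * x * h⁻¹) * g⁻¹ * (g * x * g⁻¹)⁻¹ by group,
          hin, hx.2])
      exact mul_inv_eq_one.1 this
  · -- every element fixing `a` centralises `A`
    push Not at hmove
    let A₁ : Subgroup G :=
      { carrier := {x | x ∈ c.A ∧ c.W x = c.W a / c.Y a * c.Y x}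
        one_mem' := ⟨one_mem _, by rw [c.W_one, c.Y_one, mul_zero]⟩
        mul_mem' := fun {x y} hx hy => ⟨mul_mem hx.1 hy.1, by
          rw [c.W_mul hx.1.1 hy.1.1, c.Y_mul hx.1.1 hy.1.1, hx.1.2, zero_mul, add_zero, hx.2, hy.2,
            mul_add]⟩
        inv_mem' := fun {x} hx => ⟨inv_mem hx.1, by
          rw [c.W_inv hx.1.1, c.Y_inv hx.1.1, hx.1.2, zero_mul, add_zero, hx.2]⟩ }
    refine ⟨A₁, fun x hx => hx.1, ⟨ha, by rw [div_mul_cancel₀ _ hy]⟩, fun x hx hxz => ?_, fun x hx => ?_,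
      fun g hg hga x hx => c.fix_A_of_fix hg (hN hg) ha haZ hga (hmove g hg hga) x hx.1⟩
    · refine c.ext hx.1.1 (S : Subgroup G).one_mem (by rw [hxz.1.2, c.X_one])
        (by rw [hxz.2.2, c.Y_one]) ?_
      rw [c.W_one, hx.2, hxz.2.2, mul_zero]
    · set w := c.W x + c.W a / c.Y a * c.Y x with hw
      have hwz := c.pt_mem_Z w
      refine ⟨x * c.pt 0 0 w, ⟨mul_mem hx hwz.1, ?_⟩, _, hwz, by rw [mul_assoc, c.sq_Z hwz, mul_one]⟩
      rw [c.W_mul hx.1 (c.Z_le hwz), c.Y_mul hx.1 (c.Z_le hwz), hx.2, Y_pt, W_pt, add_zero, zero_mul,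
        add_zero, hw]
      linear_combination field_two c.hF (c.W x)

variable (hN : c.Norml) {a : G} (ha : a ∈ c.A) (haZ : a ∉ c.Z)
include hN ha haZ

theorem no_fuse : ∀ n ∈ normalizer (c.A : Set G), n * a * n⁻¹ ∉ c.Z := fun _ hn h =>
  haZ ((mem_normalizer_iff.1 (hN hn) a).2 h)

omit hN ha haZ

theorem A_le_cent (ha : a ∈ c.A) : c.A ≤ centralizer ({a} : Set G) := fun _ hx =>
  mem_centralizer_singleton_iff.2 (c.commute_A hx ha).eq

/-- `A` is a Sylow 2-subgroup of the centraliser. -/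
theorem exists_sylow_cent (hN : c.Norml) (ha : a ∈ c.A) (haZ : a ∉ c.Z) :
    ∃ T : Sylow 2 (centralizer ({a} : Set G)),
      (T : Subgroup (centralizer ({a} : Set G))) = c.A.subgroupOf (centralizer ({a} : Set G)) := by
  obtain ⟨T, hT⟩ := (c.A_isPGroup.comap_subtype (K := centralizer ({a} : Set G))).exists_le_sylow
  refine ⟨T, le_antisymm (fun x hx => ?_) hT⟩
  refine c.le_A_of_centralizes ha (c.no_fuse hN ha haZ) (T.2.map _) (fun y hy => ?_) (map_subtype_le _)
    ⟨x, hx, rfl⟩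
  exact ⟨⟨y, c.A_le_cent ha hy⟩, hT hy, rfl⟩

variable {A₁ : Subgroup G}

/-- The elements of `A₁` are central in the centraliser modulo its odd core. -/
theorem central_fix (hN : c.Norml) (ha : a ∈ c.A) (haZ : a ∉ c.Z) (hA : c.IsFix a A₁) {x : G}
    (hx : x ∈ A₁) {g : G} (hg : g ∈ centralizer ({a} : Set G)) :
    g * x * g⁻¹ * x⁻¹ ∈ th a := by
  rcases eq_or_ne x 1 with rfl | hx1
  · rw [mul_one, mul_inv_cancel, inv_one, mul_one]; exact one_mem _
  set C := centralizer ({a} : Set G)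
  obtain ⟨T, hT⟩ := c.exists_sylow_cent hN ha haZ
  set xC : C := ⟨x, c.A_le_cent ha (hA.le hx)⟩
  have ho : orderOf xC = 2 := by
    rw [Subgroup.orderOf_mk]
    exact orderOf_eq_prime (by rw [pow_two]; exact c.sq_A (hA.le hx)) hx1
  have hiso : IsIsolatedInvolution xC := Invol.isolated_of_sylow T ho fun h hh => by
    replace hh : h * xC * h⁻¹ ∈ (T : Subgroup C) := hh
    rw [hT, mem_subgroupOf] at hh
    refine Subtype.ext ?_
    simp only [Subgroup.coe_mul, InvMemClass.coe_inv] at hh ⊢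
    have hha : (h : G) * a * (h : G)⁻¹ = a :=
      mul_inv_eq_iff_eq_mul.2 (mem_centralizer_singleton_iff.1 h.2)
    obtain ⟨n, hn, hne⟩ := c.exists_norm_conj_set (T := {a, x})
      (Set.insert_subset ha (Set.singleton_subset_iff.2 (hA.le hx))) (g := (h : G)) (fun y hy => by
        rcases hy with rfl | rfl
        · rw [hha]; exact ha
        · exact hh)
    rw [← hne x (Set.mem_insert_of_mem _ rfl)]
    exact hA.fixed n hn ((hne a (Set.mem_insert _ _)).trans hha) x hx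
  have h := ZStar.zStarHolds C xC hiso ⟨g, hg⟩
  refine ⟨(xC * ⟨g, hg⟩ * xC⁻¹ * ⟨g, hg⟩⁻¹)⁻¹, inv_mem h, ?_⟩
  simp only [map_inv, map_mul, Subgroup.coe_subtype, xC]
  have hxi : x⁻¹ = x := inv_eq_of_mul_eq_one_right (c.sq_A (hA.le hx))
  rw [mul_inv_rev, mul_inv_rev, mul_inv_rev, inv_inv, inv_inv, hxi]
  group

end Crd

end Cfsg.Lib.Syl34
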