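import Cfsg.Agent.Lib.Syl34.Top
import Cfsg.Agent.Lib.Syl34.CentA
import Cfsg.Agent.Lib.CompositeOrder.TransferFixed
import Cfsg.Agent.Lib.Invol.Isolated

/-!
# No spread normaliser: fusion, the isolated case and the transfer case
-/

set_option autoImplicit false
set_option linter.style.haveILetI false
set_option linter.unusedSectionVars false

namespace Cfsg.Lib.Syl34

open Subgroup Cfsg Cfsg.Lib

universe u

variable {G : Type u} [Group G] [Finite G] {F : Type*} [Field F] [Fintype F]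

namespace Crd

variable {S : Sylow 2 G} (c : Crd (S : Subgroup G) F)

theorem W_ne_zero {z : G} (hz : z ∈ c.Z) (h1 : z ≠ 1) : c.W z ≠ 0 := fun e =>
  h1 (c.ext (c.Z_le hz) (S : Subgroup G).one_mem (by rw [hz.1.2, c.X_one]) (by rw [hz.2.2, c.Y_one])
    (by rw [e, c.W_one]))

theorem orderOf_A {a : G} (ha : a ∈ c.A) (h1 : a ≠ 1) : orderOf a = 2 :=
  Invol.orderOf_eq_two_of h1 (c.sq_A ha)

theorem mem_A_or_B_of_conj {x g : G} (hx : x * x = 1) (hg : g * x * g⁻¹ ∈ (S : Subgroup G)) :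
    g * x * g⁻¹ ∈ c.A ∨ g * x * g⁻¹ ∈ c.B :=
  (c.sq_eq_one_iff hg).1 (by rw [show g * x * g⁻¹ * (g * x * g⁻¹) = g * (x * x) * g⁻¹ by group, hx]; group)

section Norml

variable {c} (hA : c.Norml) (hB : c.swap.Norml)
include hA hB

/-- `Z` is strongly closed in `S`. -/
theorem mem_Z_of_conj {z g : G} (hz : z ∈ c.Z) (hg : g * z * g⁻¹ ∈ (S : Subgroup G)) :
    g * z * g⁻¹ ∈ c.Z := by
  rcases c.mem_A_or_B_of_conj (c.sq_Z hz) hg with h | h
  · obtain ⟨n, hn, e⟩ := c.exists_norm_conj hz.1 h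
    exact e ▸ conj_mem_of_norm (hA hn) hz
  · obtain ⟨n, hn, e⟩ := c.swap.exists_norm_conj (a := z) (g := g) (by rw [swap_A]; exact hz.2)
      (by rw [swap_A]; exact h)
    have := conj_mem_of_norm (hB hn) (show z ∈ c.swap.Z by rw [swap_Z]; exact hz)
    rwa [e, swap_Z] at this

/-- The involutions of `A` outside `Z` have all their conjugates in `S` there. -/
theorem mem_A_of_conj {a g : G} (ha : a ∈ c.A) (haZ : a ∉ c.Z) (hg : g * a * g⁻¹ ∈ (S : Subgroup G)) :
    g * a * g⁻¹ ∈ c.A ∧ g * a * g⁻¹ ∉ c.Z := by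
  haveI : Fact (Nat.Prime 2) := ⟨Nat.prime_two⟩
  set b := g * a * g⁻¹ with hb'
  have hbZ : b ∉ c.Z := fun h => haZ (by
    have := mem_Z_of_conj hA hB h (g := g⁻¹) (by
      rw [show g⁻¹ * (g * a * g⁻¹) * g⁻¹⁻¹ = a by group]; exact ha.1)
    rwa [show g⁻¹ * (g * a * g⁻¹) * g⁻¹⁻¹ = a by group] at this)
  refine ⟨(c.mem_A_or_B_of_conj (c.sq_A ha) hg).resolve_right fun hbB => ?_, hbZ⟩
  obtain ⟨T, hT⟩ := c.swap.exists_sylow_cent hB (a := b) (by rw [swap_A]; exact hbB) (by rw [swap_Z]; exact hbZ)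
  rw [swap_A] at hT
  have hle : c.A.map (MulAut.conj g).toMonoidHom ≤ centralizer ({b} : Set G) := by
    rintro _ ⟨x, hx, rfl⟩
    exact mem_centralizer_singleton_iff.2 ((Commute.conj_iff g).2 (c.commute_A hx ha)).eq
  obtain ⟨m, hm⟩ := Invol.exists_conj_mem_sylow T (K := (c.A.map (MulAut.conj g).toMonoidHom).subgroupOf (centralizer ({b} : Set G)))
    (c.A_isPGroup.map _).comap_subtype
  refine c.not_conj_A_B ((m : G) * g) (Subgroup.eq_of_le_of_card_ge ?_ ?_)
  · rintro _ ⟨x, hx, rfl⟩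
    have := hm ⟨g * x * g⁻¹, hle ⟨x, hx, rfl⟩⟩ (mem_subgroupOf.2 ⟨x, hx, rfl⟩)
    replace this : _ ∈ (T : Subgroup (centralizer ({b} : Set G))) := this
    rw [hT, mem_subgroupOf] at this
    rw [MulEquiv.coe_toMonoidHom, MulAut.conj_apply, conj_conj]
    exact this
  · rw [card_map_of_injective (MulAut.conj _).injective, c.card_A, c.card_B]

/-- With `Z` fixed by the normaliser of `S` its involutions are isolated. -/
theorem false_of_fix_Z (hO : oddCore G = ⊥) (hT : NoTwoCore G)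
    (hW : ∀ n ∈ normalizer ((S : Subgroup G) : Set G), ∀ z ∈ c.Z, n * z * n⁻¹ = z) : False := by
  obtain ⟨z, hz, h1⟩ := (c.Z).bot_or_exists_ne_one.resolve_left fun e => by
    have := c.card_Z; rw [e, card_bot] at this; omega
  have hz2 := c.orderOf_A hz.1 h1
  have hiso : IsIsolatedInvolution z := Invol.isolated_of_sylow S hz2 fun g hg => by
    have hgz := mem_Z_of_conj hA hB hz hg
    obtain ⟨n, hn, e⟩ := c.exists_norm_conj hz.1 hgz.1
    obtain ⟨m, hm, -, hmz⟩ := c.exists_normS_of_norm hn (hA hn)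
    rw [← e, hmz z hz, hW m hm z hz]
  have hcen := ZStar.mem_center_of_isolated hO hiso
  haveI : (zpowers z).Normal := ⟨fun x hx g => by
    obtain ⟨i, rfl⟩ := mem_zpowers_iff.1 hx
    rw [show g * z ^ i * g⁻¹ = z ^ i from mul_inv_eq_iff_eq_mul.2
      ((Commute.zpow_right (mem_center_iff.1 hcen g : Commute g z) i).eq)]
    exact zpow_mem (mem_zpowers z) i⟩
  refine false_of_comm_normal hT (C := zpowers z) (fun x hx y hy => ?_) (mem_zpowers z) h1 (c.sq_Z hz)
  obtain ⟨i, rfl⟩ := mem_zpowers_iff.1 hx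
  obtain ⟨j, rfl⟩ := mem_zpowers_iff.1 hy
  exact Commute.zpow_zpow_self z i j

/-- A normal subgroup with an involution of `Z` contains `Z` once the normaliser of `S` moves `Z`. -/
theorem Z_le_of_normal {n : G} (hn : n ∈ normalizer ((S : Subgroup G) : Set G)) {γ : F} (hγ : γ ≠ 1)
    (hW : ∀ z ∈ c.Z, c.W (n * z * n⁻¹) = γ * c.W z) (N : Subgroup G) [N.Normal] {z : G} (hz : z ∈ c.Z)
    (h1 : z ≠ 1) (hzN : z ∈ N) : c.Z ≤ N := by
  have hw := c.W_ne_zero hz h1
  have hz' := conj_mem_of_norm (c.normS_le_norm_Z hn) hz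
  have hz'N : n * z * n⁻¹ ∈ N := Subgroup.Normal.conj_mem inferInstance z hzN n
  have hγ0 : γ ≠ 0 := fun e => c.W_ne_zero hz' (fun e' => h1 (conj_eq_one_iff.1 e')) (by
    rw [hW z hz, e, zero_mul])
  intro w hwZ
  have key : ∀ r ∈ c.Z, r ∈ N → c.W r = c.W w → w ∈ N := fun r hr hrN e => by
    rw [← c.ext (c.Z_le hr) (c.Z_le hwZ) (by rw [hr.1.2, hwZ.1.2]) (by rw [hr.2.2, hwZ.2.2]) e]
    exact hrN
  have hdiv : c.W w = c.W w / c.W z * c.W z := (div_mul_cancel₀ _ hw).symm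
  rcases field_cases c.hF hγ0 hγ (c.W w / c.W z) with h | h | h | h <;> rw [h] at hdiv
  · exact key 1 (one_mem _) (one_mem N) (by rw [c.W_one, hdiv, zero_mul])
  · exact key z hz hzN (by rw [hdiv, one_mul])
  · exact key _ hz' hz'N (by rw [hdiv, hW z hz])
  · exact key _ (mul_mem hz' hz) (mul_mem hz'N hzN) (by
      rw [c.W_mul (c.Z_le hz') (c.Z_le hz), hW z hz, hz'.1.2, hdiv]; ring)

/-- The action on `B` of an element normalising `B`, when `A/Z` is fixed by the normaliser of `S`. -/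
theorem exists_scal_B (hY : ∀ n ∈ normalizer ((S : Subgroup G) : Set G), ∀ s ∈ (S : Subgroup G),
      c.Y (n * s * n⁻¹) = c.Y s) {g : G} (hg : g ∈ normalizer (c.B : Set G)) :
    ∃ α : F, α ≠ 0 ∧ ∀ x ∈ c.B, c.X (g * x * g⁻¹) = α * c.X x ∧
      (x ∈ c.Z → c.W (g * x * g⁻¹) = α * c.W x) := by
  have hgB : g ∈ normalizer (c.swap.A : Set G) := by rw [swap_A]; exact hg
  obtain ⟨n, hn, h1, h2⟩ := c.swap.exists_normS_of_norm hgB (hB hgB)
  obtain ⟨α, β, hα, -, hs, hz⟩ := c.exists_scal hn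
  have hβ : β = 1 := by
    have := (hs _ (c.pt_mem 0 1 0)).2
    rw [hY n hn _ (c.pt_mem ..), Y_pt, mul_one] at this
    exact this.symm
  refine ⟨α, hα, fun x hx => ?_⟩
  have e := h1 x (by rw [swap_A]; exact hx)
  rw [swap_Y, swap_Y] at e
  refine ⟨by rw [e, (hs x hx.1).1], fun hxZ => ?_⟩
  rw [h2 x (by rw [swap_Z]; exact hxZ), hz x hxZ, hβ, mul_one]

/-- The transfer case: the normaliser of `S` fixes `A/Z` and moves `Z`. -/
theorem false_of_fix_Y (hO : oddCore G = ⊥) (hT : NoTwoCore G)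
    (hY : ∀ n ∈ normalizer ((S : Subgroup G) : Set G), ∀ s ∈ (S : Subgroup G), c.Y (n * s * n⁻¹) = c.Y s)
    {n₀ : G} (hn₀ : n₀ ∈ normalizer ((S : Subgroup G) : Set G)) {γ : F} (hγ : γ ≠ 1)
    (hW : ∀ z ∈ c.Z, c.W (n₀ * z * n₀⁻¹) = γ * c.W z) : False := by
  haveI : Fact (Nat.Prime 2) := ⟨Nat.prime_two⟩
  -- the transfer onto `S/B`
  let φ : (S : Subgroup G) →* Multiplicative F := MonoidHom.mk' (fun s => Multiplicative.ofAdd (c.Y s))
    fun s t => by rw [Subgroup.coe_mul, c.Y_mul s.2 t.2, ofAdd_add]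
  set V := MonoidHom.transfer φ with hV
  have hconj : ∀ x ∈ (S : Subgroup G), x * x = 1 → ∀ g : G, g * x * g⁻¹ ∈ (S : Subgroup G) →
      c.Y (g * x * g⁻¹) = c.Y x := by
    intro x hx hx2 g hg
    by_cases hxZ : x ∈ c.Z
    · rw [(mem_Z_of_conj hA hB hxZ hg).2.2, hxZ.2.2]
    rcases (c.sq_eq_one_iff hx).1 hx2 with h | h
    · obtain ⟨hgA, -⟩ := mem_A_of_conj hA hB h hxZ hg
      obtain ⟨n, hn, e⟩ := c.exists_norm_conj h hgA
      obtain ⟨m, hm, hm', -⟩ := c.exists_normS_of_norm hn (hA hn)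
      rw [← e, hm' x h, hY m hm x hx]
    · obtain ⟨hgB, -⟩ := mem_A_of_conj (c := c.swap) hB (by simpa [Norml, swap_A, swap_Z] using hA)
        (a := x) (g := g) (by rw [swap_A]; exact h) (by rw [swap_Z]; exact hxZ) hg
      rw [swap_A] at hgB
      rw [hgB.2, h.2]
  have hinv : ∀ s : (S : Subgroup G), (s : G) * s = 1 → V s = φ s := by
    intro s hs
    rw [hV, CompOrd.transfer_fixed φ Nat.prime_two (y := (s : G)) (by rw [pow_two]; exact hs) s.2 fun g hg => by
      refine congrArg Multiplicative.ofAdd ?_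
      have := hconj s s.2 hs g⁻¹ (by rwa [inv_inv])
      rwa [inv_inv] at this]
    set P := zpowers (s : G)
    have hP : IsPGroup 2 P := fun x => by
      obtain ⟨i, hi⟩ := mem_zpowers_iff.1 x.2
      refine ⟨1, Subtype.ext ?_⟩
      rw [SubgroupClass.coe_pow, pow_one, pow_two, ← hi, ← (Commute.refl (s : G)).mul_zpow, hs, one_zpow]
      rfl
    have hfix : Nat.card {x : G ⧸ (S : Subgroup G) // (s : G) • x = x} =
        Nat.card (MulAction.fixedPoints P (G ⧸ (S : Subgroup G))) := by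
      refine Nat.card_congr (Equiv.subtypeEquivRight fun x => ⟨fun h p => ?_, fun h => h ⟨s, mem_zpowers _⟩⟩)
      obtain ⟨i, hi⟩ := mem_zpowers_iff.1 p.2
      show (p : G) • x = x
      rw [← hi]
      exact MulAction.mem_stabilizer_iff.1 (zpow_mem (MulAction.mem_stabilizer_iff.2 h) i)
    have hmod := hP.card_modEq_card_fixedPoints (G ⧸ (S : Subgroup G))
    rw [← hfix, ← Subgroup.index_eq_card] at hmod
    have hoddI : (S : Subgroup G).index % 2 = 1 := Nat.odd_iff.1 (Nat.not_even_iff_odd.1 fun h =>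
      S.not_dvd_index (even_iff_two_dvd.1 h))
    obtain ⟨k, hk⟩ : Odd (Nat.card {x : G ⧸ (S : Subgroup G) // (s : G) • x = x}) := by
      rw [Nat.odd_iff, ← hmod, hoddI]
    have h2 : φ s * φ s = 1 := by rw [← map_mul, show s * s = 1 from Subtype.ext hs, map_one]
    rw [hk, pow_add, pow_mul, pow_two, h2, one_pow, one_mul, pow_one]
  have hVφ : ∀ s (hs : s ∈ (S : Subgroup G)), V s = φ ⟨s, hs⟩ := by
    intro s hs
    obtain ⟨a, ha, b, hb, rfl⟩ := c.exists_mul_eq hs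
    rw [map_mul, hinv ⟨a, ha.1⟩ (c.sq_A ha), hinv ⟨b, hb.1⟩ (c.sq_B hb), ← map_mul]
    rfl
  set G₀ := V.ker with hG₀
  have hBG : c.B ≤ G₀ := fun b hb => by
    rw [MonoidHom.mem_ker, hVφ b hb.1]
    exact (congrArg Multiplicative.ofAdd hb.2).trans ofAdd_zero
  have hG₀S : ∀ s ∈ (S : Subgroup G), s ∈ G₀ → s ∈ c.B := fun s hs h => ⟨hs, by
    rw [MonoidHom.mem_ker, hVφ s hs] at h
    exact Multiplicative.ofAdd.injective (h.trans ofAdd_zero.symm)⟩
  haveI : G₀.Normal := MonoidHom.normal_ker V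
  obtain ⟨Q, hQ⟩ := exists_sylow_inf S G₀
  have hQB : ∀ x : G₀, x ∈ (Q : Subgroup G₀) ↔ (x : G) ∈ c.B := fun x => by
    rw [hQ, mem_subgroupOf]
    exact ⟨fun h => hG₀S _ h x.2, fun h => c.B_le h⟩
  haveI : IsMulCommutative (Q : Subgroup G₀) := ⟨⟨fun a b => Subtype.ext (Subtype.ext
    (c.commute_B ((hQB _).1 a.2) ((hQB _).1 b.2)).eq)⟩⟩
  set M := G₀ ⊓ normalizer (c.B : Set G) with hMdef
  have hnormQ : ∀ m : G₀, m ∈ normalizer ((Q : Subgroup G₀) : Set G₀) → (m : G) ∈ M := fun m hm =>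
    Subgroup.mem_inf.2 ⟨m.2, mem_norm_of_conj_mem fun b hb =>
      (hQB _).1 (conj_mem_of_norm hm ((hQB ⟨b, hBG hb⟩).2 hb))⟩
  -- elements of `M` act through their scalars
  have hfix : ∀ m ∈ M, (∀ x ∈ c.B, c.X (m * x * m⁻¹) = c.X x) → (∀ x ∈ c.Z, c.W (m * x * m⁻¹) = c.W x) →
      ∀ x ∈ c.B, m * x * m⁻¹ = x := by
    intro m hm hX hWm x hx
    obtain ⟨hmG, hmB⟩ := Subgroup.mem_inf.1 hm
    have hmQ : (⟨m, hmG⟩ : G₀) ∈ normalizer ((Q : Subgroup G₀) : Set G₀) := mem_norm_of_conj_mem fun b hb =>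
      (hQB _).2 (conj_mem_of_norm hmB ((hQB b).1 hb))
    obtain ⟨d, ⟨k, hk⟩, hd⟩ := exists_odd_pow_mem hmQ
    have hdB : m ^ d ∈ c.B := by simpa using (hQB _).1 hd
    have hzfix : ∀ z ∈ c.Z, m * z * m⁻¹ = z := fun z hz => by
      have hz' : m * z * m⁻¹ ∈ c.B := conj_mem_of_norm hmB hz.2
      have hzZ : m * z * m⁻¹ ∈ c.Z := mem_Z_of_conj hA hB hz hz'.1
      exact c.ext hz'.1 (c.Z_le hz) (by rw [hX z hz.2]) (by rw [hz'.2, hz.2.2]) (hWm z hz)
    set t := m * x * m⁻¹ * x⁻¹ with ht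
    have hx' := conj_mem_of_norm hmB hx
    have htZ : t ∈ c.Z := c.mem_Z.2 ⟨mul_mem hx'.1 (inv_mem hx.1),
      by rw [c.X_mul hx'.1 (inv_mem hx.1), c.X_inv hx.1, hX x hx]; exact field_two c.hF _,
      by rw [c.Y_mul hx'.1 (inv_mem hx.1), c.Y_inv hx.1, hx'.2, hx.2, add_zero]⟩
    have hsq : ∀ j : ℕ, (m * m) ^ j * x * ((m * m) ^ j)⁻¹ = x := fun j => by
      induction j with
      | zero => simp
      | succ j ih =>
        have hmm : m * m * x * (m * m)⁻¹ = x := by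
          rw [conj_conj, show m * x * m⁻¹ = t * x by rw [ht]; group,
            show m * (t * x) * m⁻¹ = m * t * m⁻¹ * (m * x * m⁻¹) by group, hzfix t htZ,
            show m * x * m⁻¹ = t * x by rw [ht]; group, ← mul_assoc, c.sq_Z htZ, one_mul]
        rw [pow_succ, conj_conj, hmm, ih]
    have h1 : m ^ d * x * (m ^ d)⁻¹ = x := by rw [(c.commute_B hdB hx).eq, mul_inv_cancel_right]
    rw [hk, pow_succ', pow_mul, pow_two, conj_conj, hsq k] at h1
    exact h1
  have hscal : ∀ m ∈ M, ∃ α : F, α ≠ 0 ∧ ∀ x ∈ c.B, c.X (m * x * m⁻¹) = α * c.X x ∧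
      (x ∈ c.Z → c.W (m * x * m⁻¹) = α * c.W x) := fun m hm =>
    exists_scal_B hA hB hY (Subgroup.mem_inf.1 hm).2
  set b := c.pt 1 0 0 with hb
  have hbB : b ∈ c.B := c.pt_mem_B 1 0
  have hXB : ∀ m ∈ M, ∀ {α : F}, (∀ x ∈ c.B, c.X (m * x * m⁻¹) = α * c.X x ∧
      (x ∈ c.Z → c.W (m * x * m⁻¹) = α * c.W x)) → c.X (m * b * m⁻¹) = α := fun m _ α h => by
    rw [(h b hbB).1, X_pt, mul_one]
  have hsame : ∀ m ∈ M, ∀ m' ∈ M, c.X (m * b * m⁻¹) = c.X (m' * b * m'⁻¹) →
      ∀ x ∈ c.B, m * x * m⁻¹ = m' * x * m'⁻¹ := by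
    intro m hm m' hm' e x hx
    obtain ⟨α, hα, h⟩ := hscal m hm
    obtain ⟨α', -, h'⟩ := hscal m' hm'
    rw [hXB m hm h, hXB m' hm' h'] at e
    subst e
    have hd := hfix (m⁻¹ * m') (mul_mem (inv_mem hm) hm') (fun y hy => ?_) (fun y hy => ?_) x hx
    · calc m * x * m⁻¹ = m * (m⁻¹ * m' * x * (m⁻¹ * m')⁻¹) * m⁻¹ := by rw [hd]
        _ = m' * x * m'⁻¹ := by group
    · have hy' : m⁻¹ * m' * y * (m⁻¹ * m')⁻¹ ∈ c.B :=
        conj_mem_of_norm (Subgroup.mem_inf.1 (mul_mem (inv_mem hm) hm')).2 hy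
      refine mul_left_cancel₀ hα ?_
      rw [← (h _ hy').1, show m * (m⁻¹ * m' * y * (m⁻¹ * m')⁻¹) * m⁻¹ = m' * y * m'⁻¹ by group, (h' y hy).1]
    · have hy' : m⁻¹ * m' * y * (m⁻¹ * m')⁻¹ ∈ c.Z := mem_Z_of_conj hA hB hy
        (conj_mem_of_norm (Subgroup.mem_inf.1 (mul_mem (inv_mem hm) hm')).2 hy.2).1
      refine mul_left_cancel₀ hα ?_
      rw [← (h _ hy'.2).2 hy', show m * (m⁻¹ * m' * y * (m⁻¹ * m')⁻¹) * m⁻¹ = m' * y * m'⁻¹ by group,
        (h' y hy.2).2 hy]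
  have hO₁ : ∀ m ∈ M, m * b * m⁻¹ ∈ c.B := fun m hm => conj_mem_of_norm (Subgroup.mem_inf.1 hm).2 hbB
  -- the orbit of `b` with the identity is a subgroup
  let L₁ : Subgroup G :=
    { carrier := {x | x = 1 ∨ ∃ m ∈ M, m * b * m⁻¹ = x}
      one_mem' := Or.inl rfl
      mul_mem' := by
        rintro x y (rfl | ⟨m, hm, rfl⟩) hy
        · rwa [one_mul]
        rcases hy with rfl | ⟨m', hm', rfl⟩
        · exact Or.inr ⟨m, hm, (mul_one _).symm⟩
        by_cases e : c.X (m * b * m⁻¹) = c.X (m' * b * m'⁻¹)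
        · left
          rw [hsame m hm m' hm' e b hbB]
          exact c.sq_B (hO₁ m' hm')
        · obtain ⟨α, hα, h⟩ := hscal m hm
          obtain ⟨α', hα', h'⟩ := hscal m' hm'
          set r := m' * m⁻¹ with hr
          have hrM : r ∈ M := mul_mem hm' (inv_mem hm)
          obtain ⟨δ, hδ, hrs⟩ := hscal r hrM
          have ex := hXB m hm h
          have ey := hXB m' hm' h'
          have hδe : α' = δ * α := by
            have := (hrs _ (hO₁ m hm)).1
            rwa [show r * (m * b * m⁻¹) * r⁻¹ = m' * b * m'⁻¹ by simp only [hr]; group, ex, ey] at this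
          have hδ1 : δ ≠ 1 := fun h1 => e (by rw [ex, ey, hδe, h1, one_mul])
          set x := m * b * m⁻¹
          have hxB := hO₁ m hm
          have hy : m' * b * m'⁻¹ = r * x * r⁻¹ := by simp only [hr, x]; group
          rw [hy]
          set z' := r * (r * x * r⁻¹) * r⁻¹ with hz'
          have hr' := (Subgroup.mem_inf.1 hrM).2
          have hyB : r * x * r⁻¹ ∈ c.B := conj_mem_of_norm hr' hxB
          have hzB : z' ∈ c.B := conj_mem_of_norm hr' hyB
          right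
          refine ⟨r * (r * m), mul_mem hrM (mul_mem hrM hm), ?_⟩
          have hq := field_quad c.hF hδ hδ1
          have hXy : c.X (r * x * r⁻¹) = δ * α := by rw [(hrs x hxB).1, ex]
          have hXz : c.X z' = δ * (δ * α) := by rw [hz', (hrs _ hyB).1, hXy]
          -- the cube of `r` fixes `x`
          have hr3 : r * z' * r⁻¹ = x := by
            have := hsame (r * (r * (r * m))) (mul_mem hrM (mul_mem hrM (mul_mem hrM hm))) m hm ?_ b hbB
            · rwa [show r * (r * (r * m)) * b * (r * (r * (r * m)))⁻¹ = r * z' * r⁻¹ by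
                simp only [hz', x]; group] at this
            · rw [show r * (r * (r * m)) * b * (r * (r * (r * m)))⁻¹ = r * z' * r⁻¹ by
                simp only [hz', x]; group, (hrs z' hzB).1, hXz, ex]
              linear_combination α * field_cube c.hF hδ
          set P := x * (r * x * r⁻¹) * z' with hP
          have hPB : P ∈ c.B := mul_mem (mul_mem hxB hyB) hzB
          have hXP : c.X P = 0 := by
            rw [hP, c.X_mul (mul_mem hxB.1 hyB.1) hzB.1, c.X_mul hxB.1 hyB.1, ex, hXy, hXz]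
            linear_combination α * hq
          have hPZ : P ∈ c.Z := c.mem_Z.2 ⟨hPB.1, hXP, hPB.2⟩
          have hrP : r * P * r⁻¹ = P := by
            rw [hP, show r * (x * (r * x * r⁻¹) * z') * r⁻¹ = r * x * r⁻¹ * z' * (r * z' * r⁻¹) by
              simp only [hz']; group, hr3]
            exact (c.commute_B (mul_mem hyB hzB) hxB).eq.trans (mul_assoc _ _ _).symm
          have hP1 : P = 1 := by
            by_contra h1
            have := (hrs P hPB).2 hPZ
            rw [hrP] at this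
            exact hδ1 ((mul_eq_right₀ (c.W_ne_zero hPZ h1)).1 this.symm)
          show r * (r * m) * b * (r * (r * m))⁻¹ = _
          rw [show r * (r * m) * b * (r * (r * m))⁻¹ = z' by simp only [hz', x]; group]
          calc z' = (x * (r * x * r⁻¹))⁻¹ * P := by rw [hP]; group
            _ = x * (r * x * r⁻¹) := by
                rw [hP1, mul_one]; exact inv_eq_of_mul_eq_one_right (c.sq_B (mul_mem hxB hyB))
      inv_mem' := by
        rintro x (rfl | ⟨m, hm, rfl⟩)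
        · exact Or.inl inv_one
        · exact Or.inr ⟨m, hm, (inv_eq_of_mul_eq_one_right (c.sq_B (hO₁ m hm))).symm⟩ }
  have hbL : b ∈ L₁ := Or.inr ⟨1, one_mem _, by group⟩
  have hLB : L₁ ≤ c.B := by
    rintro x (rfl | ⟨m, hm, rfl⟩)
    · exact one_mem _
    · exact hO₁ m hm
  have hdisj : ∀ x ∈ L₁, x ∈ c.Z → x = 1 := by
    rintro x (rfl | ⟨m, hm, rfl⟩) hxZ
    · rfl
    · obtain ⟨α, hα, h⟩ := hscal m hm
      exact absurd ((hXB m hm h).symm.trans hxZ.1.2) hα
  set Z₁ := c.Z.subgroupOf G₀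
  have hZc : IsStronglyClosed Z₁ (Q : Subgroup G₀) :=
    ⟨fun x hx => (hQB x).2 (mem_subgroupOf.1 hx).2, fun x hx g hg => mem_subgroupOf.2
      (mem_Z_of_conj hA hB (g := (g : G)) (mem_subgroupOf.1 hx) ((hQB _).1 hg).1)⟩
  have hLc : IsStronglyClosed (L₁.subgroupOf G₀) (Q : Subgroup G₀) := by
    refine ⟨fun x hx => (hQB x).2 (hLB (mem_subgroupOf.1 hx)), fun x hx g hg => ?_⟩
    obtain ⟨m, hm, e⟩ := Fusion.exists_normalizer_conj_of_abelian Q
      ((hQB x).2 (hLB (mem_subgroupOf.1 hx))) hg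
    rw [← e]
    have hmM := hnormQ m hm
    refine mem_subgroupOf.2 ?_
    simp only [Subgroup.coe_mul, InvMemClass.coe_inv]
    rcases mem_subgroupOf.1 hx with h | ⟨k, hk, h⟩
    · rw [h, mul_one, mul_inv_cancel]; exact one_mem _
    · exact Or.inr ⟨(m : G) * k, mul_mem hmM hk, by rw [conj_conj, h]⟩
  have hOG : oddCore G₀ = ⊥ := by
    rw [← map_eq_bot_iff_of_injective _ G₀.subtype_injective, ← le_bot_iff, ← hO]
    refine ZStar.le_oddCore inferInstance ?_
    rw [card_map_of_injective G₀.subtype_injective]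
    exact ZStar.odd_card_oddCore
  have hcm := Goldschmidt.Product.productHolds G₀ Q Z₁ (L₁.subgroupOf G₀) hZc hLc
    (fun p hp q hq => Subtype.ext (c.commute_B (mem_subgroupOf.1 hp).2 (hLB (mem_subgroupOf.1 hq))).eq)
    ((Subgroup.eq_bot_iff_forall _).2 fun x hx => Subtype.ext (hdisj _
      (mem_subgroupOf.1 (Subgroup.mem_inf.1 hx).2) (mem_subgroupOf.1 (Subgroup.mem_inf.1 hx).1)))
  rw [hOG, le_bot_iff, commutator_eq_bot_iff_le_centralizer] at hcm
  -- the closure of `Z` is normal in the whole group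
  set C₀ := (normalClosure (Z₁ : Set G₀)).map G₀.subtype with hC₀
  haveI : C₀.Normal := ⟨fun x hx g => by
    obtain ⟨h, hh⟩ : ∃ h : G₀, (h : G) * g ∈ normalizer (c.B : Set G) := by
      set R := (c.B.map (MulAut.conj g).toMonoidHom).subgroupOf G₀
      obtain ⟨h, hh⟩ := Invol.exists_conj_mem_sylow Q (K := R) (c.B_isPGroup.map _).comap_subtype
      refine ⟨h, c.norm_B_of_conj_le fun y hy => ?_⟩
      have hy' : g * y * g⁻¹ ∈ G₀ := Subgroup.Normal.conj_mem inferInstance y (hBG hy) g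
      have h1 := hh ⟨_, hy'⟩ (mem_subgroupOf.2 ⟨y, hy, rfl⟩)
      have h2 := ((hQB _).1 h1).1
      rw [conj_conj]
      simpa using h2
    have hC₀' : ∀ y ∈ C₀, ∀ k : G₀, (k : G) * y * (k : G)⁻¹ ∈ C₀ := by
      rintro _ ⟨y, hy, rfl⟩ k
      exact ⟨k * y * k⁻¹, (normalClosure_normal).conj_mem y hy k, by simp⟩
    have hsw : ((h : G) * g) ∈ normalizer (c.Z : Set G) := by
      have := hB (show (h : G) * g ∈ normalizer (c.swap.A : Set G) by rw [swap_A]; exact hh)
      rwa [swap_Z] at this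
    set k := (h : G) * g with hk
    suffices hkx : k * x * k⁻¹ ∈ C₀ by
      have := hC₀' _ hkx h⁻¹
      rwa [InvMemClass.coe_inv, show (h : G)⁻¹ * (k * x * k⁻¹) * (h : G)⁻¹⁻¹ = g * x * g⁻¹ by
        simp only [hk]; group] at this
    obtain ⟨y, hy, rfl⟩ := hx
    let θ : G₀ →* G₀ := ((MulAut.conj k).toMonoidHom.comp G₀.subtype).codRestrict G₀
      fun y => Subgroup.Normal.conj_mem inferInstance (y : G) y.2 k
    refine ⟨θ y, ?_, rfl⟩
    have hsurj : Function.Surjective θ := fun y => ⟨⟨k⁻¹ * (y : G) * k, by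
      simpa using Subgroup.Normal.conj_mem inferInstance (y : G) y.2 k⁻¹⟩, Subtype.ext (by simp [θ, mul_assoc])⟩
    haveI : ((normalClosure (Z₁ : Set G₀)).comap θ).Normal := Subgroup.Normal.comap normalClosure_normal θ
    exact normalClosure_le_normal (N := (normalClosure (Z₁ : Set G₀)).comap θ) (fun z hz =>
      subset_normalClosure (mem_subgroupOf.2 (conj_mem_of_norm hsw (mem_subgroupOf.1 hz)))) hy⟩
  obtain ⟨z, hz, hz1⟩ := (c.Z).bot_or_exists_ne_one.resolve_left fun e => by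
    have := c.card_Z; rw [e, card_bot] at this; omega
  have hzC : z ∈ C₀ := ⟨⟨z, hBG (c.Z_le_B hz)⟩, subset_normalClosure (mem_subgroupOf.2 hz), rfl⟩
  have hbC : b ∈ centralizer (C₀ : Set G) := by
    rw [mem_centralizer_iff]
    rintro _ ⟨y, hy, rfl⟩
    have := mem_centralizer_iff.1 (hcm hy) (⟨b, hBG hbB⟩ : G₀) (subset_normalClosure (mem_subgroupOf.2 hbL))
    exact (congrArg Subtype.val this).symm
  haveI : (centralizer (C₀ : Set G)).Normal := Subgroup.normal_centralizer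
  have hne : centralizer (C₀ : Set G) ≠ ⊥ := fun e => by
    rw [e, mem_bot] at hbC
    exact one_ne_zero (α := F) (by rw [← X_pt c (1 : F) 0 0, ← hb, hbC, c.X_one])
  obtain ⟨w, hw, hw1, hwC⟩ := c.exists_Z_of_normal hO _ hne
  have h1 := Z_le_of_normal hA hB hn₀ hγ hW (centralizer (C₀ : Set G)) hw hw1 hwC hz
  exact false_of_comm_normal hT (C := C₀ ⊓ centralizer (C₀ : Set G))
    (fun x hx y hy => mem_centralizer_iff.1 (Subgroup.mem_inf.1 hy).2 x (Subgroup.mem_inf.1 hx).1)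
    (Subgroup.mem_inf.2 ⟨hzC, h1⟩) hz1 (c.sq_Z hz)

end Norml

end Crd

end Cfsg.Lib.Syl34
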