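import Cfsg.Agent.Lib.Syl34.CentA

/-!
# The quotient of `C(a)` by `O(C(a)) A₁`

It has trivial odd core, the image of `Z` as Sylow four-group, and the centraliser of each involution of
that image is the image of `O(C(z)) ∩ C(a)` times the four-group.
-/

set_option autoImplicit false
set_option linter.style.haveILetI false
set_option linter.unusedSectionVars false

namespace Cfsg.Lib.Syl34

open Subgroup Cfsg Cfsg.Lib

universe u

variable {G : Type u} [Group G] [Finite G] {F : Type*} [Field F] [Fintype F]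

/-- The kernel `O(C(a)) A₁`. -/
abbrev kerL (a : G) (A₁ : Subgroup G) : Subgroup (centralizer ({a} : Set G)) :=
  oddCore (centralizer ({a} : Set G)) ⊔ A₁.subgroupOf (centralizer ({a} : Set G))

theorem mem_th_iff {a : G} {x : centralizer ({a} : Set G)} :
    (x : G) ∈ th a ↔ x ∈ oddCore (centralizer ({a} : Set G)) :=
  mem_map_iff_mem (centralizer ({a} : Set G)).subtype_injective

namespace Crd

variable {S : Sylow 2 G} {c : Crd (S : Subgroup G) F} (hN : c.Norml) {a : G} (ha : a ∈ c.A) (haZ : a ∉ c.Z)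
  {A₁ : Subgroup G} (hA : c.IsFix a A₁)
include hN ha haZ hA

theorem kerL_normal : (kerL a A₁).Normal := by
  refine ⟨fun x hx g => ?_⟩
  obtain ⟨o, ho, y, hy, rfl⟩ := mem_sup_of_normal_left.1 hx
  rw [show g * (o * y) * g⁻¹ = g * o * g⁻¹ * (g * y * g⁻¹ * y⁻¹) * y by group]
  refine mul_mem (mul_mem (mem_sup_left ((pPrimeCore_normal 2 _).conj_mem o ho g)) (mem_sup_left ?_))
    (mem_sup_right hy)
  exact mem_th_iff.1 (c.central_fix hN ha haZ hA hy g.2)

theorem exists_of_mem_kerL {x : centralizer ({a} : Set G)} (hx : x ∈ kerL a A₁) :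
    ∃ o ∈ th a, ∃ y ∈ A₁, o * y = (x : G) := by
  obtain ⟨o, ho, y, hy, rfl⟩ := mem_sup_of_normal_left.1 hx
  exact ⟨o, mem_th_iff.2 ho, y, hy, rfl⟩

omit hN haZ in
theorem mem_kerL_of {x : centralizer ({a} : Set G)} {o y : G} (ho : o ∈ th a) (hy : y ∈ A₁)
    (e : o * y = (x : G)) : x ∈ kerL a A₁ := by
  have : x = ⟨o, th_le a ho⟩ * ⟨y, c.A_le_cent ha (hA.le hy)⟩ := Subtype.ext e.symm
  rw [this]
  exact mul_mem (mem_sup_left (mem_th_iff.1 ho)) (mem_sup_right hy)

theorem eq_one_of_Z {z : G} {x : centralizer ({a} : Set G)} (hz : z ∈ c.Z) (hx : x ∈ kerL a A₁)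
    (e : (x : G) = z) : z = 1 := by
  obtain ⟨o, ho, y, hy, he⟩ := exists_of_mem_kerL hN ha haZ hA hx
  have hy2 := c.sq_A (hA.le hy)
  have hoA : o ∈ c.A := by
    rw [show o = (x : G) * y by rw [← he, mul_assoc, hy2, mul_one], e]
    exact mul_mem hz.1 (hA.le hy)
  rw [eq_one_of_odd_of_sq (odd_of_mem_th ho) (c.sq_A hoA), one_mul, e] at he
  exact hA.disj z (he ▸ hy) hz

/-- An element of odd order in the kernel is in the signalizer. -/
theorem mem_th_of_odd {x : centralizer ({a} : Set G)} (hx : x ∈ kerL a A₁) (hodd : Odd (orderOf (x : G))) :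
    (x : G) ∈ th a := by
  obtain ⟨o, ho, y, hy, he⟩ := exists_of_mem_kerL hN ha haZ hA hx
  refine mem_of_pow_two hodd (k := 1) ?_
  have hyn : y ∈ normalizer (th a : Set G) := cent_le_norm_th a (c.A_le_cent ha (hA.le hy))
  rw [pow_one, pow_two, ← he, show o * y * (o * y) = o * (y * o * y⁻¹) * (y * y) by group,
    c.sq_A (hA.le hy), mul_one]
  exact mul_mem ho (conj_mem_of_norm hyn ho)

/-- Every element of `C(a)` is one of `O(C(a))` times one centralising `A₁`. -/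
theorem exists_th_mul_cent {g : G} (hg : g ∈ centralizer ({a} : Set G)) :
    ∃ o ∈ th a, ∀ x ∈ A₁, o * g * x * (o * g)⁻¹ = x := by
  haveI : Fact (Nat.Prime 2) := ⟨Nat.prime_two⟩
  set M := th a ⊔ A₁
  have hA₁n : A₁ ≤ normalizer (th a : Set G) := fun y hy => cent_le_norm_th a (c.A_le_cent ha (hA.le hy))
  have hgA : A₁.map (MulAut.conj g).toMonoidHom ≤ M := by
    rintro _ ⟨x, hx, rfl⟩
    rw [MulEquiv.coe_toMonoidHom, MulAut.conj_apply, ← inv_mul_cancel_right (g * x * g⁻¹) x,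
      show g * x * g⁻¹ * x⁻¹ * x = (g * x * g⁻¹ * x⁻¹) * x by group]
    exact mul_mem (mem_sup_left (c.central_fix hN ha haZ hA hx hg)) (mem_sup_right hx)
  obtain ⟨d, hd, R, hR, hAR, hgR⟩ := Invol.exists_common_pGroup (p := 2) M le_sup_right hgA
    (c.A_isPGroup.to_le hA.le) ((c.A_isPGroup.to_le hA.le).map _)
  obtain ⟨y, hy, o, ho, e⟩ := (Core.mem_sup_of_le_normalizer hA₁n).1 (show d ∈ A₁ ⊔ th a by rw [sup_comm]; exact hd)
  refine ⟨o, ho, fun x hx => ?_⟩
  -- both `x` and its conjugate lie in the 2-group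
  have h1 : d * (g * x * g⁻¹) * d⁻¹ ∈ R := hgR _ ⟨x, hx, rfl⟩
  have h2 : o * g * x * (o * g)⁻¹ ∈ R := by
    have := mul_mem (mul_mem (inv_mem (hAR hy)) h1) (hAR hy)
    rwa [← e, show y⁻¹ * (y * o * (g * x * g⁻¹) * (y * o)⁻¹) * y = o * g * x * (o * g)⁻¹ by group] at this
  have h3 : o * g * x * (o * g)⁻¹ * x⁻¹ ∈ th a := by
    have hog : o * g ∈ centralizer ({a} : Set G) := mul_mem (th_le a ho) hg
    exact c.central_fix hN ha haZ hA hx hog
  obtain ⟨k, hk⟩ := hR ⟨_, mul_mem h2 (inv_mem (hAR hx))⟩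
  have hk' : (o * g * x * (o * g)⁻¹ * x⁻¹) ^ 2 ^ k = 1 := congrArg Subtype.val hk
  have h4 : orderOf (o * g * x * (o * g)⁻¹ * x⁻¹) = 1 := Nat.eq_one_of_dvd_coprimes
    ((odd_of_mem_th h3).coprime_two_left.pow_left k) (orderOf_dvd_of_pow_eq_one hk') dvd_rfl
  exact mul_inv_eq_one.1 (orderOf_eq_one_iff.1 h4)

theorem oddCore_quotient :
    letI := kerL_normal hN ha haZ hA
    oddCore (centralizer ({a} : Set G) ⧸ kerL a A₁) = ⊥ := by
  letI := kerL_normal hN ha haZ hA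
  haveI : Fact (Nat.Prime 2) := ⟨Nat.prime_two⟩
  set π := QuotientGroup.mk' (kerL a A₁)
  have hπ : Function.Surjective π := QuotientGroup.mk'_surjective _
  set M := (oddCore (centralizer ({a} : Set G) ⧸ kerL a A₁)).comap π with hM
  haveI : M.Normal := Subgroup.Normal.comap inferInstance _
  obtain ⟨T, hT⟩ := c.exists_sylow_cent hN ha haZ
  obtain ⟨Q, hQ⟩ := exists_sylow_inf T M
  -- the Sylow subgroup of `M` centralises its normaliser
  have hQ1 : ∀ q ∈ (Q : Subgroup M), ((q : M) : G) ∈ A₁ := by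
    intro q hq
    rw [hQ, mem_subgroupOf, hT, mem_subgroupOf] at hq
    obtain ⟨u, hu, z, hz, e⟩ := hA.cover _ hq
    have hzC : z ∈ centralizer ({a} : Set G) := c.A_le_cent ha hz.1
    have huk : (⟨u, c.A_le_cent ha (hA.le hu)⟩ : centralizer ({a} : Set G)) ∈ kerL a A₁ := mem_sup_right hu
    have hzM : π ⟨z, hzC⟩ ∈ oddCore (centralizer ({a} : Set G) ⧸ kerL a A₁) := by
      have e' : ((q : M) : centralizer ({a} : Set G)) = ⟨u, c.A_le_cent ha (hA.le hu)⟩ * ⟨z, hzC⟩ :=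
        Subtype.ext e.symm
      have h : π ((q : M) : centralizer ({a} : Set G)) ∈ oddCore _ := q.2
      rwa [e', map_mul, show π ⟨u, c.A_le_cent ha (hA.le hu)⟩ = 1 from (QuotientGroup.eq_one_iff _).2 huk,
        one_mul] at h
    have hz1 : π ⟨z, hzC⟩ = 1 := eq_one_of_odd_of_sq (ZStar.odd_orderOf_oddCore hzM)
      (by rw [← map_mul, show (⟨z, hzC⟩ : centralizer ({a} : Set G)) * ⟨z, hzC⟩ = 1 from
        Subtype.ext (c.sq_Z hz), map_one])
    rw [eq_one_of_Z hN ha haZ hA hz ((QuotientGroup.eq_one_iff _).1 hz1) rfl, mul_one] at e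
    exact e ▸ hu
  have hburn : normalizer ((Q : Subgroup M) : Set M) ≤ centralizer ((Q : Subgroup M) : Set M) := by
    intro g hg
    refine mem_centralizer_iff.2 fun q hq => ?_
    have h1 := hQ1 q hq
    have h2 := hQ1 _ (conj_mem_of_norm hg hq)
    have h3 := c.central_fix hN ha haZ hA h1 ((g : M) : centralizer ({a} : Set G)).2
    simp only [Subgroup.coe_mul, InvMemClass.coe_inv] at h2
    have h4 := eq_one_of_odd_of_sq (odd_of_mem_th h3) (c.sq_A (hA.le (mul_mem h2 (inv_mem h1))))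
    exact Subtype.ext (Subtype.ext (mul_inv_eq_iff_eq_mul.1 (mul_inv_eq_one.1 h4)).symm)
  obtain ⟨P, N, hNn, hc⟩ := Fusion.hasNormalPComplement_of_normalizer_le_centralizer Q hburn
  haveI := hNn
  have hNodd : Odd (Nat.card N) := Nat.coprime_two_right.1 (Fusion.coprime_card_of_complement hc)
  have hNO : N.map M.subtype ≤ oddCore (centralizer ({a} : Set G)) := by
    have hle : N ≤ oddCore M := ZStar.le_oddCore hNn hNodd
    refine (map_mono hle).trans (ZStar.le_oddCore ConjAct.normal_of_characteristic_of_normal ?_)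
    rw [card_map_of_injective M.subtype_injective]
    exact ZStar.odd_card_oddCore
  refine eq_bot_iff.2 fun l hl => ?_
  obtain ⟨m, rfl⟩ := hπ l
  obtain ⟨n, hn, q, hq, e⟩ : ∃ n ∈ N, ∃ q ∈ (Q : Subgroup M), n * q = (⟨m, hl⟩ : M) := by
    have hc' : N.IsComplement' (Q : Subgroup M) := by
      refine isComplement'_of_coprime ?_ ?_
      · rw [Nat.card_congr (Sylow.equiv Q P).toEquiv]; exact hc.card_mul
      · have := P.card_coprime_index
        rw [hc.index_eq_card] at this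
        rw [Nat.card_congr (Sylow.equiv Q P).toEquiv]
        exact this.symm
    have : (⟨m, hl⟩ : M) ∈ N ⊔ (Q : Subgroup M) := hc'.sup_eq_top ▸ mem_top _
    exact mem_sup_of_normal_left.1 this
  rw [mem_bot]
  refine (QuotientGroup.eq_one_iff _).2 ?_
  rw [show m = (n : M).1 * (q : M).1 from (congrArg Subtype.val e).symm]
  exact mul_mem (mem_sup_left (hNO ⟨n, hn, rfl⟩)) (mem_sup_right (hQ1 q hq))

/-- The image of `Z` is a Sylow four-group of the quotient. -/
theorem exists_sylow_quotient :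
    letI := kerL_normal hN ha haZ hA
    ∃ V : Sylow 2 (centralizer ({a} : Set G) ⧸ kerL a A₁),
      (V : Subgroup (centralizer ({a} : Set G) ⧸ kerL a A₁)) =
        (c.Z.subgroupOf (centralizer ({a} : Set G))).map (QuotientGroup.mk' (kerL a A₁)) ∧
      Nat.card (V : Subgroup (centralizer ({a} : Set G) ⧸ kerL a A₁)) = 4 := by
  letI := kerL_normal hN ha haZ hA
  haveI : Fact (Nat.Prime 2) := ⟨Nat.prime_two⟩
  obtain ⟨T, hT⟩ := c.exists_sylow_cent hN ha haZ
  set π := QuotientGroup.mk' (kerL a A₁)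
  have hπ : Function.Surjective π := QuotientGroup.mk'_surjective _
  have heq : ((T.mapSurjective hπ : Sylow 2 _) : Subgroup (centralizer ({a} : Set G) ⧸ kerL a A₁)) =
      (c.Z.subgroupOf (centralizer ({a} : Set G))).map π := by
    rw [Sylow.coe_mapSurjective, hT]
    refine le_antisymm ?_ (map_mono fun z hz => (hz : (z : G) ∈ c.Z).1)
    rintro _ ⟨x, hx, rfl⟩
    obtain ⟨u, hu, z, hz, e⟩ := hA.cover _ hx
    refine ⟨⟨z, c.A_le_cent ha hz.1⟩, hz, ?_⟩
    rw [show x = (⟨u, c.A_le_cent ha (hA.le hu)⟩ : centralizer ({a} : Set G)) * ⟨z, c.A_le_cent ha hz.1⟩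
      from Subtype.ext e.symm, map_mul, show π ⟨u, c.A_le_cent ha (hA.le hu)⟩ = 1 from
      (QuotientGroup.eq_one_iff _).2 (mem_sup_right hu), one_mul]
  refine ⟨T.mapSurjective hπ, heq, ?_⟩
  rw [heq, ← c.card_Z, ← Nat.card_congr (subgroupOfEquivOfLe (fun z hz => c.A_le_cent ha hz.1 :
    c.Z ≤ centralizer ({a} : Set G))).toEquiv]
  refine (Nat.card_eq_of_bijective (π.subgroupMap _) ⟨fun x y e => ?_, π.subgroupMap_surjective _⟩).symm
  have e' : π (x : centralizer ({a} : Set G)) = π y := congrArg Subtype.val e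
  have h0 : (x : centralizer ({a} : Set G))⁻¹ * y ∈ kerL a A₁ := by
    rw [← QuotientGroup.eq_one_iff, ← QuotientGroup.mk'_apply, map_mul, map_inv, e', inv_mul_cancel]
  have := eq_one_of_Z hN ha haZ hA (mul_mem (inv_mem x.2) y.2) h0 rfl
  exact Subtype.ext (Subtype.ext (inv_mul_eq_one.1 this))

/-- An element of `C(a)` normalising the image of `Z` differs by the kernel from one normalising `A`. -/
theorem exists_norm_of_quotient {g : centralizer ({a} : Set G)}
    (hg : ∀ z : centralizer ({a} : Set G), (z : G) ∈ c.Z →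
      ∃ z' : centralizer ({a} : Set G), (z' : G) ∈ c.Z ∧ (g * z * g⁻¹)⁻¹ * z' ∈ kerL a A₁) :
    ∃ m ∈ kerL a A₁, ((m * g : centralizer ({a} : Set G)) : G) ∈ normalizer (c.A : Set G) := by
  letI := kerL_normal hN ha haZ hA
  haveI : Fact (Nat.Prime 2) := ⟨Nat.prime_two⟩
  set M := oddCore (centralizer ({a} : Set G)) ⊔ c.A.subgroupOf (centralizer ({a} : Set G)) with hM
  have hkM : kerL a A₁ ≤ M := sup_le_sup le_rfl fun x hx => hA.le hx
  have hgM : (c.A.subgroupOf (centralizer ({a} : Set G))).map (MulAut.conj g).toMonoidHom ≤ M := by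
    rintro _ ⟨x, hx, rfl⟩
    obtain ⟨u, hu, z, hz, e⟩ := hA.cover _ hx
    have hzC : z ∈ (centralizer ({a} : Set G)) := c.A_le_cent ha hz.1
    obtain ⟨z', hz', hk⟩ := hg ⟨z, hzC⟩ hz
    rw [MulEquiv.coe_toMonoidHom, MulAut.conj_apply, show x = ⟨u, c.A_le_cent ha (hA.le hu)⟩ * ⟨z, hzC⟩
      from Subtype.ext e.symm, show g * (⟨u, c.A_le_cent ha (hA.le hu)⟩ * ⟨z, hzC⟩) * g⁻¹ =
        g * ⟨u, c.A_le_cent ha (hA.le hu)⟩ * g⁻¹ * (z' * ((g * ⟨z, hzC⟩ * g⁻¹)⁻¹ * z')⁻¹) by group]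
    exact mul_mem (hkM ((kerL_normal hN ha haZ hA).conj_mem _ (mem_sup_right hu) g))
      (mul_mem (mem_sup_right hz'.1) (inv_mem (hkM hk)))
  obtain ⟨d, hd, R, hR, hAR, hgR⟩ := Invol.exists_common_pGroup (p := 2) M le_sup_right hgM
    c.A_isPGroup.comap_subtype (c.A_isPGroup.comap_subtype.map _)
  obtain ⟨o, ho, y, hy, e⟩ := mem_sup_of_normal_left.1 hd
  set m := y * o * y⁻¹
  have hm : m ∈ oddCore (centralizer ({a} : Set G)) := (pPrimeCore_normal 2 _).conj_mem o ho y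
  obtain ⟨T, hT⟩ := c.exists_sylow_cent hN ha haZ
  have hRA : R = c.A.subgroupOf (centralizer ({a} : Set G)) := hT ▸ T.3 hR (hT ▸ hAR)
  set m' := y⁻¹ * o * y
  have hm' : m' ∈ oddCore (centralizer ({a} : Set G)) := by
    have := (pPrimeCore_normal 2 _).conj_mem o ho y⁻¹
    rwa [inv_inv] at this
  refine ⟨m', mem_sup_left hm', mem_norm_of_conj_mem fun x hx => ?_⟩
  have hxC : x ∈ (centralizer ({a} : Set G)) := c.A_le_cent ha hx
  have h1 := hgR (g * ⟨x, hxC⟩ * g⁻¹) ⟨⟨x, hxC⟩, hx, rfl⟩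
  have hy' : y ∈ R := hAR hy
  rw [hRA] at h1 hy'
  have h2 := mul_mem (mul_mem (inv_mem hy') h1) hy'
  rwa [← e, show y⁻¹ * (o * y * (g * ⟨x, hxC⟩ * g⁻¹) * (o * y)⁻¹) * y =
    m' * g * ⟨x, hxC⟩ * (m' * g)⁻¹ by simp only [m']; group, mem_subgroupOf] at h2

/-- A lift commuting with `z` of an element commuting with `z` modulo the kernel. -/
theorem exists_commute_lift {z : G} (hz : z ∈ c.Z) {g : centralizer ({a} : Set G)}
    (hg : ∀ w : centralizer ({a} : Set G), (w : G) = z → (g * w * g⁻¹)⁻¹ * w ∈ kerL a A₁) :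
    ∃ m ∈ kerL a A₁, Commute ((m * g : centralizer ({a} : Set G)) : G) z := by
  letI := kerL_normal hN ha haZ hA
  haveI : Fact (Nat.Prime 2) := ⟨Nat.prime_two⟩
  rcases eq_or_ne z 1 with rfl | hz1
  · exact ⟨1, one_mem _, Commute.one_right _⟩
  set M := oddCore (centralizer ({a} : Set G)) ⊔ c.A.subgroupOf (centralizer ({a} : Set G)) with hM
  have hzC : z ∈ (centralizer ({a} : Set G)) := c.A_le_cent ha hz.1
  set w : (centralizer ({a} : Set G)) := g * ⟨z, hzC⟩ * g⁻¹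
  have hkM : kerL a A₁ ≤ M := sup_le_sup le_rfl fun x hx => hA.le hx
  have hwM : zpowers w ≤ M := by
    refine zpowers_le.2 ?_
    have h := inv_mem (hkM (hg ⟨z, hzC⟩ rfl))
    rw [mul_inv_rev, inv_inv] at h
    rw [show w = ⟨z, hzC⟩ * (⟨z, hzC⟩⁻¹ * w) by group]
    exact mul_mem (mem_sup_right hz.1) h
  have hwp : IsPGroup 2 (zpowers w) := by
    refine IsPGroup.of_card (n := 1) ?_
    rw [Nat.card_zpowers, Invol.orderOf_conj_eq, Subgroup.orderOf_mk, pow_one]
    exact orderOf_eq_prime (by rw [pow_two]; exact c.sq_Z hz) hz1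
  obtain ⟨d, hd, R, hR, hAR, hwR⟩ := Invol.exists_common_pGroup (p := 2) M le_sup_right hwM
    c.A_isPGroup.comap_subtype hwp
  obtain ⟨o, ho, y, hy, e⟩ := mem_sup_of_normal_left.1 hd
  obtain ⟨T, hT⟩ := c.exists_sylow_cent hN ha haZ
  have hRA : R = c.A.subgroupOf (centralizer ({a} : Set G)) := hT ▸ T.3 hR (hT ▸ hAR)
  set m' := y⁻¹ * o * y
  have hm' : m' ∈ oddCore (centralizer ({a} : Set G)) := by
    have := (pPrimeCore_normal 2 _).conj_mem o ho y⁻¹
    rwa [inv_inv] at this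
  refine ⟨m', mem_sup_left hm', ?_⟩
  have h1 := hwR w (mem_zpowers w)
  have hy' : y ∈ R := hAR hy
  rw [hRA] at h1 hy'
  have h2 := mul_mem (mul_mem (inv_mem hy') h1) hy'
  rw [← e, show y⁻¹ * (o * y * w * (o * y)⁻¹) * y = m' * g * ⟨z, hzC⟩ * (m' * g)⁻¹ by simp only [m', w]; group,
    mem_subgroupOf] at h2
  simp only [Subgroup.coe_mul, InvMemClass.coe_inv] at h2
  set n := ((m' * g : (centralizer ({a} : Set G))) : G) with hn
  have h2' : n * z * n⁻¹ ∈ c.A := h2
  have hna : n * a * n⁻¹ = a := mul_inv_eq_iff_eq_mul.2 (mem_centralizer_singleton_iff.1 (m' * g : (centralizer ({a} : Set G))).2)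
  obtain ⟨p, hp, hpe⟩ := c.exists_norm_conj_set (T := {a, z})
    (Set.insert_subset ha (Set.singleton_subset_iff.2 hz.1)) (g := n) (fun v hv => by
      rcases hv with rfl | rfl
      · rw [hna]; exact ha
      · exact h2')
  have hZ' : n * z * n⁻¹ ∈ c.Z := by
    rw [← hpe z (Set.mem_insert_of_mem _ rfl)]
    exact conj_mem_of_norm (hN hp) hz
  -- the conjugate is congruent to `z` modulo the kernel
  have hk : (m' * g * ⟨z, hzC⟩ * (m' * g)⁻¹)⁻¹ * ⟨z, hzC⟩ ∈ kerL a A₁ := by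
    rw [← QuotientGroup.eq_one_iff, ← QuotientGroup.mk'_apply]
    have e0 : QuotientGroup.mk' (kerL a A₁) m' = 1 := (QuotientGroup.eq_one_iff _).2 (mem_sup_left hm')
    have e1 : QuotientGroup.mk' (kerL a A₁) ((g * ⟨z, hzC⟩ * g⁻¹)⁻¹ * ⟨z, hzC⟩) = 1 :=
      (QuotientGroup.eq_one_iff _).2 (hg ⟨z, hzC⟩ rfl)
    simp only [map_mul, map_inv, e0, one_mul, inv_one, mul_one] at e1 ⊢
    exact e1
  have := eq_one_of_Z hN ha haZ hA (mul_mem (inv_mem hZ') hz) hk rfl
  exact mul_inv_eq_iff_eq_mul.1 (inv_mul_eq_one.1 this)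

/-- The centraliser of `a` and an involution of `Z` is `(O(C(z)) ∩ C(a)) A`. -/
theorem exists_th_mul_A {z : G} (hz : z ∈ c.Z) (hz1 : z ≠ 1) {g : G}
    (hga : g ∈ centralizer ({a} : Set G)) (hgz : Commute g z) :
    ∃ o ∈ th z ⊓ centralizer ({a} : Set G), ∃ x ∈ c.A, o * x = g := by
  haveI : Fact (Nat.Prime 2) := ⟨Nat.prime_two⟩
  set C' := centralizer ({a} : Set G) ⊓ centralizer ({z} : Set G) with hC'
  have hAC : c.A ≤ C' := fun x hx => Subgroup.mem_inf.2 ⟨c.A_le_cent ha hx,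
    mem_centralizer_singleton_iff.2 (c.commute_A hx hz.1).eq⟩
  obtain ⟨T₀, hT₀⟩ := (c.A_isPGroup.comap_subtype (K := C')).exists_le_sylow
  have hT₀e : (T₀ : Subgroup C') = c.A.subgroupOf C' := by
    refine le_antisymm (fun x hx => ?_) hT₀
    exact c.le_A_of_centralizes ha (c.no_fuse hN ha haZ) (T₀.2.map _)
      (fun y hy => ⟨⟨y, hAC hy⟩, hT₀ hy, rfl⟩) ((map_subtype_le _).trans inf_le_left) ⟨x, hx, rfl⟩
  have hburn : normalizer ((T₀ : Subgroup C') : Set C') ≤ centralizer ((T₀ : Subgroup C') : Set C') := by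
    intro n hn
    rw [hT₀e] at hn ⊢
    have hnA : (n : G) ∈ normalizer (c.A : Set G) := mem_norm_of_conj_mem fun x hx =>
      conj_mem_of_norm (H := c.A.subgroupOf C') hn (a := ⟨x, hAC hx⟩) hx
    obtain ⟨h1, h2⟩ := Subgroup.mem_inf.1 n.2
    have hna : (n : G) * a * (n : G)⁻¹ = a := mul_inv_eq_iff_eq_mul.2 (mem_centralizer_singleton_iff.1 h1)
    have hnz : (n : G) * z * (n : G)⁻¹ = z := mul_inv_eq_iff_eq_mul.2 (mem_centralizer_singleton_iff.1 h2)
    have hfix := c.fix_A_of_fix hnA (hN hnA) ha haZ hna (c.fix_Z_of_fix hnA (hN hnA) hz hz1 hnz)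
    exact mem_centralizer_iff.2 fun x hx => Subtype.ext (mul_inv_eq_iff_eq_mul.1 (hfix x hx)).symm
  obtain ⟨P, N, hNn, hc⟩ := Fusion.hasNormalPComplement_of_normalizer_le_centralizer T₀ hburn
  haveI := hNn
  have hNodd : Odd (Nat.card N) := Nat.coprime_two_right.1 (Fusion.coprime_card_of_complement hc)
  have hNth : N.map C'.subtype ≤ th z := by
    refine c.le_th_of_norm_A hz hz1 ?_ ((map_subtype_le _).trans inf_le_right) ?_
    · rw [card_map_of_injective C'.subtype_injective]; exact hNodd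
    · exact fun x hx => mem_norm_of_conj_mem fun y hy => by
        obtain ⟨y', hy', rfl⟩ := hy
        exact ⟨⟨x, hAC hx⟩ * y' * ⟨x, hAC hx⟩⁻¹, hNn.conj_mem y' hy' _, rfl⟩
  have hc' : N.IsComplement' (T₀ : Subgroup C') := by
    refine isComplement'_of_coprime ?_ ?_
    · rw [Nat.card_congr (Sylow.equiv T₀ P).toEquiv]; exact hc.card_mul
    · have := P.card_coprime_index
      rw [hc.index_eq_card] at this
      rw [Nat.card_congr (Sylow.equiv T₀ P).toEquiv]
      exact this.symm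
  have hgC : g ∈ C' := Subgroup.mem_inf.2 ⟨hga, mem_centralizer_singleton_iff.2 hgz.eq⟩
  obtain ⟨n, hn, x, hx, e⟩ :=
    mem_sup_of_normal_left.1 (hc'.sup_eq_top ▸ mem_top (⟨g, hgC⟩ : C') : (⟨g, hgC⟩ : C') ∈ N ⊔ _)
  rw [hT₀e] at hx
  exact ⟨n, Subgroup.mem_inf.2 ⟨hNth ⟨n, hn, rfl⟩, (Subgroup.mem_inf.1 n.2).1⟩, x, hx,
    congrArg Subtype.val e⟩

end Crd

end Cfsg.Lib.Syl34
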