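import Cfsg.Agent.Lib.TwoFour.Targets

/-!
# Coordinates on a Sylow 2-subgroup of `PSL₃(4)` type

`Crd S F` says that `S` is the group of triples over a field of four elements with
`(x,y,z)(x',y',z') = (x+x', y+y', z+z'+xy')`.
-/

set_option autoImplicit false
set_option linter.style.haveILetI false
set_option linter.unusedSectionVars false

namespace Cfsg.Lib.Syl34

open Subgroup

variable {G : Type*} [Group G] {F : Type*} [Field F] [Fintype F]

/-- Coordinates of a Sylow 2-subgroup of `PSL₃(4)`. -/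
structure Crd (S : Subgroup G) (F : Type*) [Field F] [Fintype F] where
  e : S ≃ F × F × F
  hF : Fintype.card F = 4
  mul : ∀ s t : S, e (s * t) =
    ((e s).1 + (e t).1, (e s).2.1 + (e t).2.1, (e s).2.2 + (e t).2.2 + (e s).1 * (e t).2.1)

/-! ## The field -/

theorem Crd.charTwo {S : Subgroup G} (c : Crd S F) : CharP F 2 := by
  haveI : Fact (Nat.Prime 2) := ⟨Nat.prime_two⟩
  exact charP_of_card_eq_prime_pow (R := F) (p := 2) (f := 2) (by simpa using c.hF)

section Field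

variable (hF : Fintype.card F = 4)
include hF

theorem field_cube {a : F} (ha : a ≠ 0) : a * a * a = 1 := by
  have h := FiniteField.pow_card_sub_one_eq_one a ha
  rw [hF, show 4 - 1 = 3 from rfl] at h
  linear_combination h

theorem field_two (a : F) : a + a = 0 := by
  haveI : CharP F 2 := by
    haveI : Fact (Nat.Prime 2) := ⟨Nat.prime_two⟩
    exact charP_of_card_eq_prime_pow (R := F) (p := 2) (f := 2) (by simpa using hF)
  exact CharTwo.add_self_eq_zero a

theorem field_eq_of_add {a b : F} (h : a + b = 0) : a = b := by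
  linear_combination h - field_two hF b

/-- A nonzero element other than one is a root of `X² + X + 1`. -/
theorem field_quad {a : F} (h0 : a ≠ 0) (h1 : a ≠ 1) : a * a + a + 1 = 0 := by
  refine mul_left_cancel₀ (sub_ne_zero.2 h1) ?_
  linear_combination field_cube hF h0

/-- The field has an element of order three. -/
theorem exists_omega : ∃ w : F, w ≠ 0 ∧ w ≠ 1 := by
  classical
  by_contra h
  push Not at h
  have hs : (Finset.univ : Finset F) ⊆ {0, 1} := fun a _ => by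
    rcases eq_or_ne a 0 with rfl | ha
    · simp
    · simp [h a ha]
  have := (Finset.card_le_card hs).trans Finset.card_le_two
  rw [Finset.card_univ, hF] at this
  omega

/-- The elements of the field are `0, 1, w, w + 1`. -/
theorem field_cases {w : F} (h0 : w ≠ 0) (h1 : w ≠ 1) (a : F) : a = 0 ∨ a = 1 ∨ a = w ∨ a = w + 1 := by
  classical
  have hne1 : w + 1 ≠ 0 := fun e => h1 (field_eq_of_add hF e)
  have hne2 : w + 1 ≠ 1 := fun e => h0 (by linear_combination e)
  have hne3 : w + 1 ≠ w := fun e => one_ne_zero (by linear_combination e : (1 : F) = 0)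
  have hc : ({0, 1, w, w + 1} : Finset F) = Finset.univ := by
    refine Finset.eq_univ_of_card _ ?_
    rw [hF, Finset.card_insert_of_notMem (by simp [h0.symm, hne1.symm]),
      Finset.card_insert_of_notMem (by simp [h1.symm, hne2.symm]),
      Finset.card_insert_of_notMem (by simp [hne3.symm]), Finset.card_singleton]
  simpa [← hc] using Finset.mem_univ a

/-- An additive multiplicative map of the field is the identity or the Frobenius map. -/
theorem field_endo (m : F → F) (hadd : ∀ a b, m (a + b) = m a + m b)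
    (hmul : ∀ a b, m (a * b) = m a * m b) (h1 : m 1 = 1) :
    (∀ a, m a = a) ∨ ∀ a, m a = a * a := by
  obtain ⟨w, w0, w1⟩ := exists_omega hF
  have hm0 : m 0 = 0 := by
    have := hadd 0 0
    rw [add_zero] at this
    exact add_left_cancel ((add_zero (m 0)).symm ▸ this.symm : m 0 + m 0 = m 0 + 0)
  have hq := congrArg m (field_quad hF w0 w1)
  rw [hadd, hadd, hmul, h1, hm0] at hq
  have hw : m w = w ∨ m w = w * w := by
    rcases field_cases hF w0 w1 (m w) with h | h | h | h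
    · rw [h] at hq; simp at hq
    · rw [h] at hq
      exact absurd (by linear_combination hq - field_two hF 1 : (1 : F) = 0) one_ne_zero
    · exact Or.inl h
    · refine Or.inr (h.trans (field_eq_of_add hF ?_))
      linear_combination field_quad hF w0 w1
  rcases hw with h | h
  · left
    intro a
    rcases field_cases hF w0 w1 a with rfl | rfl | rfl | rfl
    · exact hm0
    · exact h1
    · exact h
    · rw [hadd, h, h1]
  · right
    intro a
    rcases field_cases hF w0 w1 a with rfl | rfl | rfl | rfl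
    · rw [hm0, mul_zero]
    · rw [h1, mul_one]
    · exact h
    · rw [hadd, h, h1]; linear_combination - w * field_two hF 1

end Field

/-! ## Coordinates -/

namespace Crd

open Classical in
/-- The first coordinate. -/
noncomputable def X {S : Subgroup G} (c : Crd S F) (g : G) : F :=
  if h : g ∈ S then (c.e ⟨g, h⟩).1 else 0

open Classical in
/-- The second coordinate. -/
noncomputable def Y {S : Subgroup G} (c : Crd S F) (g : G) : F :=
  if h : g ∈ S then (c.e ⟨g, h⟩).2.1 else 0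

open Classical in
/-- The third coordinate. -/
noncomputable def W {S : Subgroup G} (c : Crd S F) (g : G) : F :=
  if h : g ∈ S then (c.e ⟨g, h⟩).2.2 else 0

variable {S : Subgroup G} (c : Crd S F)

/-- The element with given coordinates. -/
def pt (x y z : F) : G := (c.e.symm (x, y, z) : S)

theorem pt_mem (x y z : F) : c.pt x y z ∈ S := (c.e.symm (x, y, z)).2

theorem X_eq {g : G} (h : g ∈ S) : c.X g = (c.e ⟨g, h⟩).1 := dif_pos h
theorem Y_eq {g : G} (h : g ∈ S) : c.Y g = (c.e ⟨g, h⟩).2.1 := dif_pos h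
theorem W_eq {g : G} (h : g ∈ S) : c.W g = (c.e ⟨g, h⟩).2.2 := dif_pos h

@[simp] theorem X_pt (x y z : F) : c.X (c.pt x y z) = x := by simp [pt, X_eq]
@[simp] theorem Y_pt (x y z : F) : c.Y (c.pt x y z) = y := by simp [pt, Y_eq]
@[simp] theorem W_pt (x y z : F) : c.W (c.pt x y z) = z := by simp [pt, W_eq]

theorem ext {s t : G} (hs : s ∈ S) (ht : t ∈ S) (hx : c.X s = c.X t) (hy : c.Y s = c.Y t)
    (hw : c.W s = c.W t) : s = t := by
  rw [c.X_eq hs, c.X_eq ht] at hx
  rw [c.Y_eq hs, c.Y_eq ht] at hy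
  rw [c.W_eq hs, c.W_eq ht] at hw
  exact congrArg Subtype.val (c.e.injective (Prod.ext hx (Prod.ext hy hw)))

theorem pt_self {s : G} (hs : s ∈ S) : c.pt (c.X s) (c.Y s) (c.W s) = s :=
  c.ext (c.pt_mem ..) hs (c.X_pt ..) (c.Y_pt ..) (c.W_pt ..)

theorem X_mul {s t : G} (hs : s ∈ S) (ht : t ∈ S) : c.X (s * t) = c.X s + c.X t := by
  rw [c.X_eq hs, c.X_eq ht, c.X_eq (mul_mem hs ht)]
  exact congrArg Prod.fst (c.mul ⟨s, hs⟩ ⟨t, ht⟩)

theorem Y_mul {s t : G} (hs : s ∈ S) (ht : t ∈ S) : c.Y (s * t) = c.Y s + c.Y t := by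
  rw [c.Y_eq hs, c.Y_eq ht, c.Y_eq (mul_mem hs ht)]
  exact congrArg (fun p => p.2.1) (c.mul ⟨s, hs⟩ ⟨t, ht⟩)

theorem W_mul {s t : G} (hs : s ∈ S) (ht : t ∈ S) :
    c.W (s * t) = c.W s + c.W t + c.X s * c.Y t := by
  rw [c.W_eq hs, c.W_eq ht, c.W_eq (mul_mem hs ht), c.X_eq hs, c.Y_eq ht]
  exact congrArg (fun p => p.2.2) (c.mul ⟨s, hs⟩ ⟨t, ht⟩)

theorem X_one : c.X 1 = 0 := by
  have := c.X_mul S.one_mem S.one_mem
  rw [mul_one] at this
  exact this.trans (field_two c.hF _)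

theorem Y_one : c.Y 1 = 0 := by
  have := c.Y_mul S.one_mem S.one_mem
  rw [mul_one] at this
  exact this.trans (field_two c.hF _)

theorem W_one : c.W 1 = 0 := by
  have := c.W_mul S.one_mem S.one_mem
  rw [mul_one, c.X_one, zero_mul, add_zero] at this
  exact this.trans (field_two c.hF _)

theorem X_inv {s : G} (hs : s ∈ S) : c.X s⁻¹ = c.X s := by
  refine field_eq_of_add c.hF ?_
  rw [← c.X_mul (inv_mem hs) hs, inv_mul_cancel, c.X_one]

theorem Y_inv {s : G} (hs : s ∈ S) : c.Y s⁻¹ = c.Y s := by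
  refine field_eq_of_add c.hF ?_
  rw [← c.Y_mul (inv_mem hs) hs, inv_mul_cancel, c.Y_one]

theorem W_inv {s : G} (hs : s ∈ S) : c.W s⁻¹ = c.W s + c.X s * c.Y s := by
  refine field_eq_of_add c.hF ?_
  have h := c.W_mul (inv_mem hs) hs
  rw [inv_mul_cancel, c.W_one, c.X_inv hs] at h
  linear_combination -h

theorem commute_iff {s t : G} (hs : s ∈ S) (ht : t ∈ S) :
    Commute s t ↔ c.X s * c.Y t = c.X t * c.Y s := by
  constructor
  · intro h
    have e := congrArg c.W h.eq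
    rw [c.W_mul hs ht, c.W_mul ht hs] at e
    linear_combination e
  · intro h
    refine c.ext (mul_mem hs ht) (mul_mem ht hs) ?_ ?_ ?_
    · rw [c.X_mul hs ht, c.X_mul ht hs, add_comm]
    · rw [c.Y_mul hs ht, c.Y_mul ht hs, add_comm]
    · rw [c.W_mul hs ht, c.W_mul ht hs, h]; ring

theorem comm_coords {s t : G} (hs : s ∈ S) (ht : t ∈ S) :
    c.X (s * t * s⁻¹ * t⁻¹) = 0 ∧ c.Y (s * t * s⁻¹ * t⁻¹) = 0 ∧
      c.W (s * t * s⁻¹ * t⁻¹) = c.X s * c.Y t + c.X t * c.Y s := by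
  have h1 := mul_mem hs ht
  have h2 := mul_mem h1 (inv_mem hs)
  refine ⟨?_, ?_, ?_⟩
  · rw [c.X_mul h2 (inv_mem ht), c.X_mul h1 (inv_mem hs), c.X_mul hs ht, c.X_inv hs, c.X_inv ht]
    linear_combination field_two c.hF (c.X s) + field_two c.hF (c.X t)
  · rw [c.Y_mul h2 (inv_mem ht), c.Y_mul h1 (inv_mem hs), c.Y_mul hs ht, c.Y_inv hs, c.Y_inv ht]
    linear_combination field_two c.hF (c.Y s) + field_two c.hF (c.Y t)
  · rw [c.W_mul h2 (inv_mem ht), c.W_mul h1 (inv_mem hs), c.W_mul hs ht, c.X_mul h1 (inv_mem hs),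
      c.X_mul hs ht, c.W_inv hs, c.W_inv ht, c.X_inv hs, c.Y_inv hs, c.Y_inv ht]
    linear_combination field_two c.hF (c.W s) + field_two c.hF (c.W t) + field_two c.hF (c.X t * c.Y t) +
      field_two c.hF (c.X s * c.Y s) + field_two c.hF (c.X s * c.Y t)

/-- The first maximal elementary abelian subgroup. -/
noncomputable def A : Subgroup G where
  carrier := {g | g ∈ S ∧ c.X g = 0}
  one_mem' := ⟨S.one_mem, c.X_one⟩
  mul_mem' := fun ha hb => ⟨mul_mem ha.1 hb.1, by rw [c.X_mul ha.1 hb.1, ha.2, hb.2, add_zero]⟩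
  inv_mem' := fun ha => ⟨inv_mem ha.1, by rw [c.X_inv ha.1, ha.2]⟩

/-- The second maximal elementary abelian subgroup. -/
noncomputable def B : Subgroup G where
  carrier := {g | g ∈ S ∧ c.Y g = 0}
  one_mem' := ⟨S.one_mem, c.Y_one⟩
  mul_mem' := fun ha hb => ⟨mul_mem ha.1 hb.1, by rw [c.Y_mul ha.1 hb.1, ha.2, hb.2, add_zero]⟩
  inv_mem' := fun ha => ⟨inv_mem ha.1, by rw [c.Y_inv ha.1, ha.2]⟩

/-- The centre. -/
noncomputable def Z : Subgroup G := c.A ⊓ c.B

theorem mem_A {g : G} : g ∈ c.A ↔ g ∈ S ∧ c.X g = 0 := Iff.rfl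
theorem mem_B {g : G} : g ∈ c.B ↔ g ∈ S ∧ c.Y g = 0 := Iff.rfl
theorem mem_Z {g : G} : g ∈ c.Z ↔ g ∈ S ∧ c.X g = 0 ∧ c.Y g = 0 :=
  ⟨fun h => ⟨h.1.1, h.1.2, h.2.2⟩, fun h => ⟨⟨h.1, h.2.1⟩, ⟨h.1, h.2.2⟩⟩⟩

theorem A_le : c.A ≤ S := fun _ h => h.1
theorem B_le : c.B ≤ S := fun _ h => h.1
theorem Z_le_A : c.Z ≤ c.A := inf_le_left
theorem Z_le_B : c.Z ≤ c.B := inf_le_right
theorem Z_le : c.Z ≤ S := c.Z_le_A.trans c.A_le

theorem pt_mem_A (y z : F) : c.pt 0 y z ∈ c.A := ⟨c.pt_mem .., c.X_pt ..⟩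
theorem pt_mem_B (x z : F) : c.pt x 0 z ∈ c.B := ⟨c.pt_mem .., c.Y_pt ..⟩
theorem pt_mem_Z (z : F) : c.pt 0 0 z ∈ c.Z := ⟨c.pt_mem_A .., c.pt_mem_B ..⟩

theorem sq_eq_one_iff {s : G} (hs : s ∈ S) : s * s = 1 ↔ s ∈ c.A ∨ s ∈ c.B := by
  constructor
  · intro h
    have e := congrArg c.W h
    rw [c.W_mul hs hs, c.W_one, field_two c.hF, zero_add, mul_eq_zero] at e
    exact e.imp (fun e => ⟨hs, e⟩) fun e => ⟨hs, e⟩
  · intro h
    refine c.ext (mul_mem hs hs) S.one_mem ?_ ?_ ?_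
    · rw [c.X_mul hs hs, c.X_one]; exact field_two c.hF _
    · rw [c.Y_mul hs hs, c.Y_one]; exact field_two c.hF _
    · rw [c.W_mul hs hs, c.W_one, field_two c.hF, zero_add]
      rcases h with h | h <;> rw [h.2] <;> ring

theorem sq_A {a : G} (ha : a ∈ c.A) : a * a = 1 := (c.sq_eq_one_iff ha.1).2 (Or.inl ha)
theorem sq_B {b : G} (hb : b ∈ c.B) : b * b = 1 := (c.sq_eq_one_iff hb.1).2 (Or.inr hb)
theorem sq_Z {z : G} (hz : z ∈ c.Z) : z * z = 1 := c.sq_A hz.1

theorem commute_A {a a' : G} (ha : a ∈ c.A) (ha' : a' ∈ c.A) : Commute a a' :=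
  (c.commute_iff ha.1 ha'.1).2 (by rw [ha.2, ha'.2]; ring)

theorem commute_B {a a' : G} (ha : a ∈ c.B) (ha' : a' ∈ c.B) : Commute a a' :=
  (c.commute_iff ha.1 ha'.1).2 (by rw [ha.2, ha'.2]; ring)

theorem commute_Z {z s : G} (hz : z ∈ c.Z) (hs : s ∈ S) : Commute z s :=
  (c.commute_iff (c.Z_le hz) hs).2 (by rw [hz.1.2, hz.2.2]; ring)

theorem mem_A_of_commute {a s : G} (ha : a ∈ c.A) (haZ : a ∉ c.Z) (hs : s ∈ S) (h : Commute s a) :
    s ∈ c.A := by
  have e := (c.commute_iff hs ha.1).1 h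
  rw [ha.2, zero_mul, mul_eq_zero] at e
  exact ⟨hs, e.resolve_right fun e => haZ ⟨ha, ha.1, e⟩⟩

theorem mem_B_of_commute {a s : G} (ha : a ∈ c.B) (haZ : a ∉ c.Z) (hs : s ∈ S) (h : Commute s a) :
    s ∈ c.B := by
  have e := (c.commute_iff hs ha.1).1 h
  rw [ha.2, mul_zero, eq_comm, mul_eq_zero] at e
  exact ⟨hs, e.resolve_left fun e => haZ ⟨⟨ha.1, e⟩, ha⟩⟩

theorem mem_Z_of_central {s : G} (hs : s ∈ S) (h : ∀ t ∈ S, Commute s t) : s ∈ c.Z := by
  have h1 := (c.commute_iff hs (c.pt_mem 0 1 0)).1 (h _ (c.pt_mem ..))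
  have h2 := (c.commute_iff hs (c.pt_mem 1 0 0)).1 (h _ (c.pt_mem ..))
  simp only [X_pt, Y_pt, mul_zero, mul_one, zero_mul, one_mul] at h1 h2
  exact c.mem_Z.2 ⟨hs, h1, h2.symm⟩

theorem card_S (c : Crd S F) : Nat.card S = 64 := by
  rw [Nat.card_congr c.e, Nat.card_prod, Nat.card_prod, Nat.card_eq_fintype_card, c.hF]

theorem card_A : Nat.card c.A = 16 := by
  rw [← Nat.card_eq_of_bijective (fun p : F × F => (⟨c.pt 0 p.1 p.2, c.pt_mem_A ..⟩ : c.A)) ⟨?_, ?_⟩,
    Nat.card_prod, Nat.card_eq_fintype_card, c.hF]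
  · intro p q e
    have e1 := congrArg (fun g : c.A => c.Y g) e
    have e2 := congrArg (fun g : c.A => c.W g) e
    simp only [Y_pt, W_pt] at e1 e2
    exact Prod.ext e1 e2
  · exact fun g => ⟨(c.Y g, c.W g), Subtype.ext (c.ext (c.pt_mem ..) g.2.1
      (by rw [X_pt, g.2.2]) (c.Y_pt ..) (c.W_pt ..))⟩

theorem card_B : Nat.card c.B = 16 := by
  rw [← Nat.card_eq_of_bijective (fun p : F × F => (⟨c.pt p.1 0 p.2, c.pt_mem_B ..⟩ : c.B)) ⟨?_, ?_⟩,
    Nat.card_prod, Nat.card_eq_fintype_card, c.hF]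
  · intro p q e
    have e1 := congrArg (fun g : c.B => c.X g) e
    have e2 := congrArg (fun g : c.B => c.W g) e
    simp only [X_pt, W_pt] at e1 e2
    exact Prod.ext e1 e2
  · exact fun g => ⟨(c.X g, c.W g), Subtype.ext (c.ext (c.pt_mem ..) g.2.1
      (c.X_pt ..) (by rw [Y_pt, g.2.2]) (c.W_pt ..))⟩

theorem card_Z : Nat.card c.Z = 4 := by
  rw [← Nat.card_eq_of_bijective (fun z : F => (⟨c.pt 0 0 z, c.pt_mem_Z z⟩ : c.Z)) ⟨?_, ?_⟩,
    Nat.card_eq_fintype_card, c.hF]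
  · intro p q e
    have e2 := congrArg (fun g : c.Z => c.W g) e
    simpa using e2
  · exact fun g => ⟨c.W g, Subtype.ext (c.ext (c.pt_mem ..) (c.Z_le g.2)
      (by rw [X_pt, g.2.1.2]) (by rw [Y_pt, g.2.2.2]) (c.W_pt ..))⟩

theorem exists_mul_eq {s : G} (hs : s ∈ S) : ∃ a ∈ c.A, ∃ b ∈ c.B, a * b = s :=
  ⟨c.pt 0 (c.Y s) (c.W s), c.pt_mem_A .., c.pt (c.X s) 0 0, c.pt_mem_B ..,
    c.ext (mul_mem (c.pt_mem ..) (c.pt_mem ..)) hs
      (by simp [c.X_mul (c.pt_mem ..) (c.pt_mem ..)])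
      (by simp [c.Y_mul (c.pt_mem ..) (c.pt_mem ..)])
      (by simp [c.W_mul (c.pt_mem ..) (c.pt_mem ..)])⟩

/-! ## The symmetry exchanging the two subgroups -/

/-- The coordinates with the two maximal elementary abelian subgroups exchanged. -/
def swap : Crd S F where
  e := c.e.trans
    { toFun := fun p => (p.2.1, p.1, p.2.2 + p.1 * p.2.1)
      invFun := fun p => (p.2.1, p.1, p.2.2 + p.2.1 * p.1)
      left_inv := fun p => by
        refine Prod.ext rfl (Prod.ext rfl ?_)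
        linear_combination field_two c.hF (p.1 * p.2.1)
      right_inv := fun p => by
        refine Prod.ext rfl (Prod.ext rfl ?_)
        linear_combination field_two c.hF (p.2.1 * p.1) }
  hF := c.hF
  mul := fun s t => by
    simp only [Equiv.trans_apply, c.mul, Equiv.coe_fn_mk]
    refine Prod.ext rfl (Prod.ext rfl ?_)
    linear_combination field_two c.hF ((c.e s).1 * (c.e t).2.1)

theorem swap_X (g : G) : c.swap.X g = c.Y g := by
  by_cases h : g ∈ S
  · rw [c.swap.X_eq h, c.Y_eq h]; rfl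
  · simp [X, Y, h]

theorem swap_Y (g : G) : c.swap.Y g = c.X g := by
  by_cases h : g ∈ S
  · rw [c.swap.Y_eq h, c.X_eq h]; rfl
  · simp [X, Y, h]

@[simp] theorem swap_A : c.swap.A = c.B :=
  Subgroup.ext fun g => by rw [mem_A, mem_B, swap_X]

@[simp] theorem swap_B : c.swap.B = c.A :=
  Subgroup.ext fun g => by rw [mem_A, mem_B, swap_Y]

@[simp] theorem swap_Z : c.swap.Z = c.Z := by
  rw [Z, Z, swap_A, swap_B, inf_comm]

/-- Coordinates transported along an isomorphism. -/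
def ofEquiv {H : Type*} [Group H] {T : Subgroup H} (f : T ≃* S) : Crd T F where
  e := f.toEquiv.trans c.e
  hF := c.hF
  mul := fun s t => by simp [c.mul]

end Crd

/-- A group isomorphic to a Sylow 2-subgroup of `PSL₃(4)` has coordinates. -/
theorem exists_crd {T : Subgroup G} (hF : Fintype.card F = 4)
    (P : Sylow 2 (Matrix.ProjectiveSpecialLinearGroup (Fin 3) F))
    (hT : Nonempty (T ≃* (P : Subgroup (Matrix.ProjectiveSpecialLinearGroup (Fin 3) F)))) :
    Nonempty (Crd T F) := by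
  classical
  obtain ⟨f⟩ := hT
  haveI : Fact (Nat.Prime 2) := ⟨Nat.prime_two⟩
  let Pr := Matrix.ProjectiveSpecialLinearGroup (Fin 3) F
  let U : Subgroup Pr :=
    { carrier := {g | ∃ x y z : F, TwoFour.ptri x y z = g}
      one_mem' := ⟨0, 0, 0, TwoFour.ptri_zero⟩
      mul_mem' := by rintro _ _ ⟨x, y, z, rfl⟩ ⟨x', y', z', rfl⟩; exact ⟨_, _, _, (TwoFour.ptri_mul ..).symm⟩
      inv_mem' := by
        rintro _ ⟨x, y, z, rfl⟩
        refine ⟨-x, -y, -z + x * y, (inv_eq_of_mul_eq_one_right ?_).symm⟩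
        rw [TwoFour.ptri_mul, ← TwoFour.ptri_zero]; congr 1 <;> ring }
  have hbij : Function.Bijective
      (fun p : F × F × F => (⟨TwoFour.ptri p.1 p.2.1 p.2.2, _, _, _, rfl⟩ : U)) := by
    refine ⟨fun p q e => ?_, ?_⟩
    · obtain ⟨h1, h2, h3⟩ := TwoFour.ptri_inj (congrArg Subtype.val e)
      exact Prod.ext h1 (Prod.ext h2 h3)
    · rintro ⟨g, x, y, z, rfl⟩
      exact ⟨(x, y, z), rfl⟩
  have hU : Nat.card U = 64 := by
    rw [← Nat.card_eq_of_bijective _ hbij, Nat.card_prod, Nat.card_prod, Nat.card_eq_fintype_card, hF]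
  obtain ⟨Q, hQ⟩ :=
    (IsPGroup.of_card (p := 2) (n := 6) (hU.trans (by norm_num)) : IsPGroup 2 U).exists_le_sylow
  have hQU : U = Q := by
    refine Subgroup.eq_of_le_of_card_ge hQ ?_
    have hG : 3 * (3 * Nat.card Pr) = 181440 := by
      have h1 := Cfsg.Lib.Linear.card_SL_mul (F := F) 3 (by norm_num)
      rw [Cfsg.Lib.Linear.card_SL_eq_gcd_mul_card_PSL, hF, Fintype.card_fin] at h1
      simp [Fin.prod_univ_three] at h1
      rw [Nat.card_eq_fintype_card]
      exact h1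
    obtain ⟨k, hk⟩ := IsPGroup.iff_card.1 Q.isPGroup'
    have hdvd : 2 ^ k ∣ 64 * 315 := by
      have := Subgroup.card_subgroup_dvd_card (Q : Subgroup Pr)
      rw [hk] at this
      rwa [show Nat.card Pr = 64 * 315 by omega] at this
    have := Nat.le_of_dvd (by norm_num)
      ((Nat.Coprime.pow_left k (by norm_num : Nat.Coprime 2 315)).dvd_of_dvd_mul_right hdvd)
    rw [hU, hk]
    exact this
  let φ := f.trans ((Sylow.equiv P Q).trans (MulEquiv.subgroupCongr hQU.symm))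
  let ψ := Equiv.ofBijective _ hbij
  refine ⟨⟨φ.toEquiv.trans ψ.symm, hF, fun s t => ?_⟩⟩
  simp only [Equiv.trans_apply, MulEquiv.coe_toEquiv, map_mul, MulEquiv.toEquiv_eq_coe, EquivLike.coe_coe]
  rw [Equiv.symm_apply_eq]
  obtain ⟨p, hp⟩ := ψ.surjective (φ s)
  obtain ⟨q, hq⟩ := ψ.surjective (φ t)
  rw [← hp, ← hq, Equiv.symm_apply_apply, Equiv.symm_apply_apply]
  exact Subtype.ext (TwoFour.ptri_mul ..)

end Cfsg.Lib.Syl34
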