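import Cfsg.Agent.Lib.Invol.BrauerFowler
import Cfsg.Agent.S0205

/-!
# An element of order three with small centraliser in an odd group
-/

set_option autoImplicit false
set_option linter.style.haveILetI false

namespace Cfsg.Lib.Syl34

open Subgroup Cfsg Cfsg.Lib
open scoped commutatorElement

universe u

variable {M : Type u} [Group M] [Finite M]

/-- A group of odd order does not invert a nontrivial element by conjugation. -/
theorem not_conj_inv_of_odd (hodd : Odd (Nat.card M)) {g t : M} (ht : t ≠ 1) : g * t * g⁻¹ ≠ t⁻¹ := by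
  intro h
  have hto : Odd (orderOf t) := hodd.of_dvd_nat (orderOf_dvd_natCard t)
  have h2 : Commute (g * g) t := by
    refine mul_inv_eq_iff_eq_mul.1 ?_
    have h' : g * t⁻¹ * g⁻¹ = (g * t * g⁻¹)⁻¹ := by group
    calc g * g * t * (g * g)⁻¹ = g * (g * t * g⁻¹) * g⁻¹ := by group
      _ = g * t⁻¹ * g⁻¹ := by rw [h]
      _ = t := by rw [h', h, inv_inv]
  obtain ⟨j, hj⟩ := hodd.of_dvd_nat (orderOf_dvd_natCard g)
  have hg : g = (g * g) ^ (j + 1) := by
    rw [← pow_two, ← pow_mul, show 2 * (j + 1) = orderOf g + 1 by omega, pow_succ, pow_orderOf_eq_one,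
      one_mul]
  have hc : Commute g t := hg ▸ h2.pow_left (j + 1)
  rw [hc.eq, mul_inv_cancel_right] at h
  have h1 : t ^ 2 = 1 := by rw [pow_two]; exact eq_inv_iff_mul_eq_one.1 h
  exact ht (orderOf_eq_one_iff.1 (Nat.Coprime.eq_one_of_dvd (Nat.coprime_two_right.2 hto)
    (orderOf_dvd_of_pow_eq_one h1)))

/-- An element of order three of an odd group with small centraliser lies outside some normal subgroup
with abelian quotient. -/
theorem exists_comm_quotient (hodd : Odd (Nat.card M)) {t : M} (ht : orderOf t = 3)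
    (hC : Nat.card (centralizer ({t} : Set M)) ≤ 9) :
    ∃ K : Subgroup M, K.Normal ∧ (∀ x y, x * y * x⁻¹ * y⁻¹ ∈ K) ∧ t ∉ K := by
  classical
  haveI : Fact (Nat.Prime 3) := ⟨Nat.prime_three⟩
  let P : Subgroup M → Prop := fun K => K.Normal ∧ t ∉ K
  have ht1 : t ≠ 1 := fun e => by rw [e, orderOf_one] at ht; omega
  obtain ⟨K, ⟨hKn, htK⟩, hmax⟩ := (Set.toFinite {K | P K}).exists_maximal ⟨⊥, inferInstance,
    fun h => ht1 (mem_bot.1 h)⟩
  refine ⟨K, hKn, ?_, htK⟩
  haveI := hKn
  set mk := QuotientGroup.mk' K with hmk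
  set tb := mk t with htb
  have htb1 : tb ≠ 1 := fun e => htK ((QuotientGroup.eq_one_iff t).1 e)
  have htb3 : orderOf tb = 3 := by
    rcases (Nat.dvd_prime Nat.prime_three).1 (ht ▸ orderOf_map_dvd mk t) with h | h
    · exact absurd (orderOf_eq_one_iff.1 h) htb1
    · exact h
  -- a nontrivial normal subgroup of the quotient contains the image of `t`
  have hbig : ∀ L : Subgroup (M ⧸ K), L.Normal → L ≠ ⊥ → tb ∈ L := by
    intro L hL hne
    by_contra hni
    have hle : K ≤ L.comap mk := fun x hx => by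
      show mk x ∈ L
      rw [show mk x = 1 from (QuotientGroup.eq_one_iff x).2 hx]
      exact one_mem L
    have hP : P (L.comap mk) := ⟨hL.comap _, hni⟩
    refine hne (le_bot_iff.1 fun q hq => ?_)
    obtain ⟨x, rfl⟩ := QuotientGroup.mk'_surjective K q
    exact (QuotientGroup.eq_one_iff x).2 (hmax hP hle hq)
  have hodd' : Odd (Nat.card (M ⧸ K)) := hodd.of_dvd_nat K.card_quotient_dvd_card
  -- the centraliser does not grow
  have hC' : Nat.card (centralizer ({tb} : Set (M ⧸ K))) ≤ 9 := by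
    refine le_trans ?_ hC
    have h1 := Invol.card_conj_mul_centralizer t
    have h2 := Invol.card_conj_mul_centralizer tb
    have hm : Nat.card M = Nat.card (M ⧸ K) * Nat.card K := K.card_eq_card_quotient_mul_card_subgroup
    haveI := Fintype.ofFinite M
    haveI := Fintype.ofFinite {y : M ⧸ K // IsConj tb y}
    have hmap : Nat.card {y : M // IsConj t y} ≤ Nat.card {y : M ⧸ K // IsConj tb y} * Nat.card K := by
      rw [← Nat.card_prod]
      refine Nat.card_le_card_of_injective (fun y => (⟨mk y, mk.map_isConj y.2⟩,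
        ⟨((mk (y : M)).out)⁻¹ * y, QuotientGroup.eq.1 (QuotientGroup.out_eq' _)⟩)) ?_
      intro a b e
      simp only [Prod.mk.injEq, Subtype.mk.injEq] at e
      obtain ⟨e1, e2⟩ := e
      rw [e1] at e2
      exact Subtype.ext (mul_left_cancel e2)
    have hpos : 0 < Nat.card {y : M // IsConj t y} :=
      Nat.card_pos_iff.2 ⟨⟨⟨t, IsConj.refl t⟩⟩, inferInstance⟩
    refine Nat.le_of_mul_le_mul_left ?_ hpos
    calc Nat.card {y : M // IsConj t y} * Nat.card (centralizer ({tb} : Set (M ⧸ K)))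
        ≤ Nat.card {y : M ⧸ K // IsConj tb y} * Nat.card K * Nat.card (centralizer ({tb} : Set (M ⧸ K))) :=
          Nat.mul_le_mul_right _ hmap
      _ = Nat.card M := by rw [hm, ← h2]; ring
      _ = _ := h1.symm
  have hCodd := hodd'.of_dvd_nat (centralizer ({tb} : Set (M ⧸ K))).card_subgroup_dvd_card
  -- the normal closure of `tb` is abelian
  set N := normalClosure ({tb} : Set (M ⧸ K)) with hN
  haveI : N.Normal := normalClosure_normal
  have hNmem : tb ∈ N := subset_normalClosure rfl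
  haveI hsol : Group.IsSolvable (M ⧸ K) := Cfsg.Agent.S0205.result hodd'
  have hNab : ∀ x ∈ N, ∀ y ∈ N, x * y = y * x := by
    set D : Subgroup (M ⧸ K) := ⁅N, N⁆ with hD
    haveI : D.Normal := Subgroup.commutator_normal N N
    by_cases hD1 : D = ⊥
    · intro x hx y hy
      have h : ⁅x, y⁆ ∈ D := commutator_mem_commutator hx hy
      rw [hD1, mem_bot] at h
      exact commutatorElement_eq_one_iff_mul_comm.1 h
    · exfalso
      have hND : N ≤ D := normalClosure_le_normal fun y hy => by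
        rw [Set.mem_singleton_iff.1 hy]; exact hbig D inferInstance hD1
      haveI : Nontrivial N := (nontrivial_iff_ne_bot N).2 fun e => htb1 (mem_bot.1 (e ▸ hNmem))
      have hlt := Group.IsSolvable.commutator_lt_top_of_nontrivial N
      refine hlt.ne (eq_top_iff.2 fun x _ => ?_)
      have h : (x : M ⧸ K) ∈ (commutator N).map N.subtype := by
        rw [map_subtype_commutator]; exact hND x.2
      obtain ⟨y, hy, e⟩ := h
      rwa [← Subtype.ext (e : (y : M ⧸ K) = x)]
  have hNC : N ≤ centralizer ({tb} : Set (M ⧸ K)) := fun x hx =>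
    mem_centralizer_singleton_iff.2 (hNab x hx tb hNmem)
  -- so the class of `tb` is small
  have hcls := Invol.card_conj_mul_centralizer tb
  set C := {y : M ⧸ K | IsConj tb y} with hCdef
  have hCc : Nat.card {y : M ⧸ K // IsConj tb y} = C.ncard := (Nat.card_coe_set_eq C)
  rw [hCc] at hcls
  have hC4 : C.ncard ≤ 4 := by
    have hsub : C ∪ (fun y => y⁻¹) '' C ⊆ (N : Set (M ⧸ K)) \ {1} := by
      have hC1 : ∀ y ∈ C, y ∈ N ∧ y ≠ 1 := fun y hy => by
        obtain ⟨g, rfl⟩ := isConj_iff.1 hy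
        exact ⟨Subgroup.Normal.conj_mem inferInstance tb hNmem g, fun e => htb1 (conj_eq_one_iff.1 e)⟩
      rintro y (hy | ⟨w, hw, rfl⟩)
      · exact ⟨(hC1 y hy).1, (hC1 y hy).2⟩
      · exact ⟨inv_mem (hC1 w hw).1, fun e => (hC1 w hw).2 (inv_eq_one.1 e)⟩
    have hdisj : Disjoint C ((fun y => y⁻¹) '' C) := by
      refine Set.disjoint_left.2 ?_
      rintro y hy ⟨w, hw, rfl⟩
      obtain ⟨g, hg⟩ := isConj_iff.1 (show IsConj w w⁻¹ from hw.symm.trans hy)
      refine not_conj_inv_of_odd hodd' ?_ hg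
      obtain ⟨g', hg'⟩ := isConj_iff.1 hw
      exact fun e => htb1 (conj_eq_one_iff.1 (hg'.trans e))
    have h := Set.ncard_le_ncard hsub (Set.toFinite _)
    rw [Set.ncard_union_eq hdisj (Set.toFinite _) (Set.toFinite _),
      Set.ncard_image_of_injective _ inv_injective, Set.ncard_sdiff_singleton_of_mem (one_mem N),
      show (N : Set (M ⧸ K)).ncard = Nat.card N from (Nat.card_coe_set_eq _).symm] at h
    have hle : Nat.card N ≤ 9 := (Nat.le_of_dvd Nat.card_pos (card_dvd_of_le hNC)).trans hC'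
    omega
  have hodd3 : ∀ n : ℕ, n ≤ 4 → Odd n → n = 1 ∨ n = 3 := fun n hn ho => by
    obtain ⟨j, rfl⟩ := ho; omega
  have hs := hodd3 _ hC4 (hodd'.of_dvd_nat ⟨_, hcls.symm⟩)
  have hc39 : Nat.card (centralizer ({tb} : Set (M ⧸ K))) = 3 ∨
      Nat.card (centralizer ({tb} : Set (M ⧸ K))) = 9 := by
    have h3 : 3 ∣ Nat.card (centralizer ({tb} : Set (M ⧸ K))) :=
      htb3 ▸ Subgroup.orderOf_dvd_natCard _ (mem_centralizer_singleton_iff.2 rfl)
    obtain ⟨j, hj⟩ := h3
    obtain ⟨i, hi⟩ := hCodd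
    omega
  have hp : IsPGroup 3 (M ⧸ K) := by
    rcases hs with hs | hs <;> rcases hc39 with hc | hc <;> rw [hs, hc] at hcls
    · exact IsPGroup.of_card (n := 1) (by omega)
    · exact IsPGroup.of_card (n := 2) (by omega)
    · exact IsPGroup.of_card (n := 2) (by omega)
    · exact IsPGroup.of_card (n := 3) (by omega)
  haveI : Nontrivial (M ⧸ K) := ⟨⟨tb, 1, htb1⟩⟩
  haveI := hp.center_nontrivial
  have htc : tb ∈ center (M ⧸ K) := by
    exact hbig _ inferInstance ((nontrivial_iff_ne_bot _).1 inferInstance)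
  have hQ9 : Nat.card (M ⧸ K) = 3 ∨ Nat.card (M ⧸ K) = 9 := by
    have : centralizer ({tb} : Set (M ⧸ K)) = ⊤ := eq_top_iff.2 fun y _ =>
      mem_centralizer_singleton_iff.2 (mem_center_iff.1 htc y)
    rwa [this, card_top] at hc39
  have hcomm : ∀ a b : M ⧸ K, a * b = b * a := by
    intro a b
    rcases hQ9 with h | h
    · haveI : IsCyclic (M ⧸ K) := isCyclic_of_prime_card h
      exact mul_comm' a b
    · exact (IsPGroup.commGroupOfCardEqPrimeSq (p := 3) (by rw [h]; norm_num)).mul_comm a b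
  intro x y
  refine (QuotientGroup.eq_one_iff _).1 ?_
  show mk (x * y * x⁻¹ * y⁻¹) = 1
  rw [map_mul, map_mul, map_mul, map_inv, map_inv, hcomm (mk x) (mk y)]
  group

end Cfsg.Lib.Syl34
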