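import Cfsg.Agent.Lib.Syl34.EndQ
import Cfsg.Agent.Lib.Syl34.EndFixed
import Cfsg.Agent.Lib.CompositeOrder.TransferFixed

/-!
# The simple spread case with trivial signalizers has no element of order three fixing an involution
-/

set_option autoImplicit false
set_option linter.style.haveILetI false
set_option linter.unusedSectionVars false

namespace Cfsg.Lib.Syl34

open Subgroup Cfsg Cfsg.Lib

universe u

variable {G : Type u} [Group G] [Finite G] {F : Type*} [Field F] [Fintype F]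

namespace Crd

variable {S : Sylow 2 G} (c : Crd (S : Subgroup G) F)

theorem pow_lt_three {i : ℕ} (hi : i < 3) : i = 0 ∨ i = 1 ∨ i = 2 := by omega

/-- In `C(z)` there is one class of subgroups of order three. -/
theorem isConj_or_of_commute_invol (hA : ¬ c.Norml) (hB : ¬ c.swap.Norml)
    (hth : ∀ z ∈ c.Z, z ≠ 1 → th z = ⊥) (htau : ¬ c.NoTau) {t : G}
    (ht : t ∈ normalizer ((S : Subgroup G) : Set G)) (ht3 : orderOf t = 3)
    (htab : c.sa t * c.sb t = 1) {x v : G} (hx : orderOf x = 3) (hv : orderOf v = 2) (hxv : Commute x v) :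
    IsConj t x ∨ IsConj t⁻¹ x := by
  haveI : Fact (Nat.Prime 3) := ⟨Nat.prime_three⟩
  obtain ⟨z, hz, h1⟩ := (c.Z).bot_or_exists_ne_one.resolve_left fun e => by
    have := c.card_Z; rw [e, card_bot] at this; omega
  obtain ⟨g, rfl⟩ := isConj_iff.1 (c.isConj_invol hA hB hz h1 hv)
  set x' := g⁻¹ * x * g with hx'
  set C := centralizer ({z} : Set G) with hC
  have hx'C : x' ∈ C := mem_centralizer_singleton_iff.2 (by
    have := (Commute.conj_iff g⁻¹).2 hxv
    simpa [hx', mul_assoc] using this.eq)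
  have htC : t ∈ C := mem_centralizer_singleton_iff.2 (c.commute_tau_Z ht htab hz).eq
  set tC : C := ⟨t, htC⟩
  set xC : C := ⟨x', hx'C⟩
  have hxC3 : orderOf xC = 3 := by
    rw [Subgroup.orderOf_mk, show x' = g⁻¹ * x * g⁻¹⁻¹ by rw [hx']; group, Invol.orderOf_conj_eq, hx]
  have hcard : Nat.card (zpowers tC) = 3 ^ (Nat.card C).factorization 3 := by
    rw [Nat.card_zpowers, Subgroup.orderOf_mk, ht3, c.card_cent_eq hth htau hz h1,
      show (192 : ℕ) = 3 ^ 1 * 64 by norm_num, Nat.factorization_mul (by norm_num) (by norm_num),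
      Finsupp.add_apply, Nat.Prime.factorization_pow Nat.prime_three, Finsupp.single_eq_same,
      Nat.factorization_eq_zero_of_not_dvd (by norm_num : ¬ 3 ∣ 64), add_zero, pow_one]
  obtain ⟨q, hq⟩ := Invol.exists_conj_mem_sylow (Sylow.ofCard (zpowers tC) hcard) (K := zpowers xC)
    (IsPGroup.of_card (n := 1) (by rw [Nat.card_zpowers, hxC3, pow_one]))
  have hm : q * xC * q⁻¹ ∈ zpowers tC := hq xC (mem_zpowers xC)
  obtain ⟨i, hi⟩ := (IsOfFinOrder.mem_powers_iff_mem_zpowers (isOfFinOrder_of_finite tC)).2 hm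
  have hi' : t ^ i = (q : G) * x' * (q : G)⁻¹ := congrArg Subtype.val hi
  have htt : t ^ 3 = 1 := ht3 ▸ pow_orderOf_eq_one t
  rw [pow_eq_pow_mod i htt] at hi'
  have hconj : IsConj ((q : G) * x' * (q : G)⁻¹) x := isConj_iff.2 ⟨g * (q : G)⁻¹, by rw [hx']; group⟩
  rcases pow_lt_three (Nat.mod_lt i (by norm_num : 0 < 3)) with h | h | h <;> rw [h] at hi'
  · exfalso
    rw [pow_zero] at hi'
    have h1' : xC = 1 := Subtype.ext (conj_eq_one_iff.1 hi'.symm)
    rw [h1', orderOf_one] at hxC3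
    norm_num at hxC3
  · rw [pow_one] at hi'
    exact Or.inl (hi'.symm ▸ hconj)
  · have ht2 : t⁻¹ = t ^ 2 := (eq_inv_of_mul_eq_one_left (by rw [← pow_succ, htt])).symm
    exact Or.inr (ht2.trans hi' ▸ hconj)

/-- An element fixing `Z` elementwise and moving `X` is not real. -/
theorem not_isConj_inv (hth : ∀ z ∈ c.Z, z ≠ 1 → th z = ⊥) {t : G}
    (ht : t ∈ normalizer ((S : Subgroup G) : Set G)) (hta : c.sa t ≠ 1) (htab : c.sa t * c.sb t = 1)
    (hsyl : ∀ R : Subgroup G, IsPGroup 2 R → R ≤ centralizer ({t} : Set G) →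
        ∃ q, Commute q t ∧ ∀ w ∈ R, q * w * q⁻¹ ∈ c.Z) {g : G} : g * t * g⁻¹ ≠ t⁻¹ := by
  intro hg
  classical
  haveI : Fact (Nat.Prime 2) := ⟨Nat.prime_two⟩
  obtain ⟨q, hqt, hq⟩ := hsyl (c.Z.map (MulAut.conj g).toMonoidHom) ((S.2.to_le c.Z_le).map _) (by
    rintro _ ⟨w, hw, rfl⟩
    refine mem_centralizer_singleton_iff.2 ?_
    have h : Commute (g * w * g⁻¹) t⁻¹ := hg ▸ (Commute.conj_iff g).2 (c.commute_tau_Z ht htab hw).symm
    simpa using h.inv_right.eq)
  obtain ⟨g', hg'⟩ : ∃ g', g' = q * g := ⟨_, rfl⟩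
  have hgZ : g' ∈ normalizer (c.Z : Set G) := mem_norm_of_conj_mem fun w hw => by
    rw [hg', conj_conj]; exact hq _ ⟨w, hw, rfl⟩
  have hinv : g' * t * g'⁻¹ = t⁻¹ := by
    rw [hg', conj_conj, hg, hqt.inv_right.eq, mul_inv_cancel_right]
  have hodd : ∀ j : ℕ, g' ^ (2 * j + 1) * t * (g' ^ (2 * j + 1))⁻¹ = t⁻¹ := by
    intro j
    induction j with
    | zero => simpa using hinv
    | succ j ih =>
      have h2 : g' * t⁻¹ * g'⁻¹ = t := by
        rw [show g' * t⁻¹ * g'⁻¹ = (g' * t * g'⁻¹)⁻¹ by group, hinv, inv_inv]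
      rw [show 2 * (j + 1) + 1 = 1 + (1 + (2 * j + 1)) by ring, pow_add, pow_add, pow_one, conj_conj, conj_conj,
        ih, h2, hinv]
  obtain ⟨i, d, ⟨j, rfl⟩, hid⟩ := Nat.exists_eq_two_pow_mul_odd (n := orderOf g') (orderOf_pos g').ne'
  set m := g' ^ (2 * j + 1) with hm
  have hmi : m ^ 2 ^ i = 1 := by rw [hm, ← pow_mul, mul_comm, ← hid, pow_orderOf_eq_one]
  have hmZ : m ∈ normalizer (c.Z : Set G) := pow_mem hgZ _
  -- a fixed involution
  obtain ⟨w, hw, hw1, hmw⟩ : ∃ w ∈ c.Z, w ≠ 1 ∧ m * w * m⁻¹ = w := by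
    haveI : Fact (Nat.Prime 2) := ⟨Nat.prime_two⟩
    haveI := Fintype.ofFinite ↥c.Z
    let Φ : ↥(normalizer (c.Z : Set G)) →* Equiv.Perm ↥c.Z :=
      (MulAut.toPerm c.Z).comp c.Z.normalizerMonoidHom
    set σ := Φ ⟨m, hmZ⟩
    obtain ⟨w, hw, hw1⟩ := Equiv.Perm.exists_fixed_point_of_prime' (p := 2) (n := i)
      (by rw [← Nat.card_eq_fintype_card, c.card_Z]; norm_num) (σ := σ)
      (by rw [← map_pow, show (⟨m, hmZ⟩ : ↥(normalizer (c.Z : Set G))) ^ 2 ^ i = 1 from Subtype.ext hmi,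
        map_one]) (a := (1 : c.Z)) (map_one (c.Z.normalizerMonoidHom ⟨m, hmZ⟩))
    exact ⟨w, w.2, fun e => hw1 (Subtype.ext e), congrArg Subtype.val hw⟩
  have hmS : m ∈ (S : Subgroup G) := mem_sylow_of_pow
    (c.cent_le_normS hw hw1 (hth w hw hw1) (mem_centralizer_singleton_iff.2 (mul_inv_eq_iff_eq_mul.1 hmw)))
    (orderOf_dvd_of_pow_eq_one hmi)
  have hmS' := le_normalizer (H := (S : Subgroup G)) hmS
  have e : m * t * m⁻¹ = t⁻¹ := hodd j
  have e' : m * t * m⁻¹ * t = 1 := by rw [e, inv_mul_cancel]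
  have h2 := (c.sa_mul (mul_mem (mul_mem hmS' ht) (inv_mem hmS')) ht).1
  rw [e', (c.sa_of_mem (S : Subgroup G).one_mem).1, (c.sa_mul (mul_mem hmS' ht) (inv_mem hmS')).1,
    (c.sa_mul hmS' ht).1, (c.sa_of_mem hmS).1, (c.sa_of_mem (inv_mem hmS)).1, one_mul, mul_one] at h2
  exact hta (by linear_combination field_cube c.hF (c.scal ht).2.2.1 - (c.sa t) * h2.symm)

/-- The endgame of the simple spread case. -/
theorem false_of_trivial_th [IsSimpleGroup G] (hG : ¬ IsMulCommutative G) (hA : ¬ c.Norml)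
    (hB : ¬ c.swap.Norml) (hth : ∀ z ∈ c.Z, z ≠ 1 → th z = ⊥) (htau : ¬ c.NoTau) : False := by
  classical
  haveI : Fact (Nat.Prime 2) := ⟨Nat.prime_two⟩
  haveI : Fact (Nat.Prime 3) := ⟨Nat.prime_three⟩
  obtain ⟨t, k, ht3, hk3, htk, ht, hk, hta, htab, hka, hkb, hk90⟩ := c.exists_tau_k hA hth htau
  have htt : t ^ 3 = 1 := ht3 ▸ pow_orderOf_eq_one t
  have hkk : k ^ 3 = 1 := hk3 ▸ pow_orderOf_eq_one k
  let Tc : G → Prop := fun x => IsConj t x ∨ IsConj t⁻¹ x
  have hTconj : ∀ {x y : G}, Tc x → IsConj x y → Tc y := fun h h' =>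
    h.elim (fun h => Or.inl (h.trans h')) fun h => Or.inr (h.trans h')
  have hTinv : ∀ {x : G}, Tc x → Tc x⁻¹ := by
    rintro x (h | h) <;> obtain ⟨g, rfl⟩ := isConj_iff.1 h
    · exact Or.inr (isConj_iff.2 ⟨g, by group⟩)
    · exact Or.inl (isConj_iff.2 ⟨g, by group⟩)
  have hclass : ∀ x v : G, orderOf x = 3 → orderOf v = 2 → Commute x v → Tc x := fun x v hx hv hxv =>
    c.isConj_or_of_commute_invol hA hB hth htau ht ht3 htab hx hv hxv
  -- `k` centralises an involution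
  obtain ⟨b, hb2, hkbc⟩ : ∃ b, orderOf b = 2 ∧ Commute k b := by
    set b₀ := c.pt 1 0 0
    set b₁ := k * b₀ * k⁻¹
    set b₂ := k * b₁ * k⁻¹
    have hkB := c.normS_le_norm_B hk
    have hb₀ : b₀ ∈ c.B := c.pt_mem_B 1 0
    have hb₁ : b₁ ∈ c.B := conj_mem_of_norm hkB hb₀
    have hb₂ : b₂ ∈ c.B := conj_mem_of_norm hkB hb₁
    have hX : ∀ {s : G}, s ∈ c.B → c.X (k * s * k⁻¹) = c.X s := fun {s} hs => by
      rw [((c.scal hk).1 s hs.1).1, hka, one_mul]
    have hbX : c.X (b₀ * b₁ * b₂) = 1 := by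
      rw [c.X_mul (mul_mem hb₀ hb₁).1 hb₂.1, c.X_mul hb₀.1 hb₁.1, hX hb₁, hX hb₀, X_pt]
      linear_combination field_two c.hF (1 : F)
    have hne : b₀ * b₁ * b₂ ≠ 1 := fun e => one_ne_zero (α := F) (by rw [← hbX, e, c.X_one])
    refine ⟨_, orderOf_eq_prime (by rw [pow_two]; exact c.sq_B (mul_mem (mul_mem hb₀ hb₁) hb₂)) hne, ?_⟩
    refine mul_inv_eq_iff_eq_mul.1 ?_
    have e3 : k * b₂ * k⁻¹ = b₀ := by
      rw [show k * b₂ * k⁻¹ = k ^ 3 * b₀ * (k ^ 3)⁻¹ by
        simp only [b₂, b₁, pow_succ, pow_zero, one_mul, conj_conj]]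
      rw [hkk]; group
    rw [show k * (b₀ * b₁ * b₂) * k⁻¹ = b₁ * b₂ * (k * b₂ * k⁻¹) by simp only [b₂, b₁]; group, e3]
    exact ((c.commute_B hb₀ (mul_mem hb₁ hb₂)).symm.eq).trans (mul_assoc _ _ _).symm
  have hkT : Tc k := hclass k b hk3 hb2 hkbc
  -- the centraliser of `t`
  have h90 : 90 ≤ Nat.card (centralizer ({t} : Set G)) := by
    refine hk90.trans ?_
    obtain ⟨g, hg⟩ : ∃ g, g * t * g⁻¹ = k ∨ g * t * g⁻¹ = k⁻¹ := by
      rcases hkT with h | h <;> obtain ⟨g, hg⟩ := isConj_iff.1 h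
      · exact ⟨g, Or.inl hg⟩
      · exact ⟨g, Or.inr (by rw [← hg]; group)⟩
    refine Nat.card_le_card_of_injective (fun x => ⟨g⁻¹ * x * g, mem_centralizer_singleton_iff.2 ?_⟩)
      fun x y e => Subtype.ext (mul_left_cancel (mul_right_cancel (congrArg Subtype.val e :)))
    have hx : Commute (x : G) (g * t * g⁻¹) := by
      rcases hg with e | e <;> rw [e]
      · exact mem_centralizer_singleton_iff.1 x.2
      · exact (show Commute (x : G) k from mem_centralizer_singleton_iff.1 x.2).inv_right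
    have := (Commute.conj_iff g⁻¹).2 hx
    simpa [mul_assoc] using this.eq
  obtain ⟨hQc, hsyl, hDrep, u, hu, hut, j, hj3, huk⟩ :=
    c.cent_tau_structure hth ht ht3 hta htab hk hk3 htk hka h90
  have hreal : ∀ g : G, g * t * g⁻¹ ≠ t⁻¹ := fun g => c.not_isConj_inv hth ht hta htab hsyl
  have hTreal : ∀ {x v : G}, Tc x → v * x * v⁻¹ ≠ x⁻¹ := by
    rintro x v (h | h) e <;> obtain ⟨g, rfl⟩ := isConj_iff.1 h <;> refine hreal (g⁻¹ * v * g) ?_
    · calc g⁻¹ * v * g * t * (g⁻¹ * v * g)⁻¹ = g⁻¹ * (v * (g * t * g⁻¹) * v⁻¹) * g := by group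
        _ = _ := by rw [e]; group
    · calc g⁻¹ * v * g * t * (g⁻¹ * v * g)⁻¹ = (g⁻¹ * (v * (g * t⁻¹ * g⁻¹) * v⁻¹) * g)⁻¹ := by group
        _ = _ := by rw [e]; group
  have hu2 : u * u = 1 := by rw [← pow_two, ← hu, pow_orderOf_eq_one]
  have hu' : u⁻¹ = u := inv_eq_of_mul_eq_one_right hu2
  have hk2i : k * k = k⁻¹ := eq_inv_of_mul_eq_one_left (by rw [← pow_two, ← pow_succ]; exact hkk)
  have hj0 : j ≠ 0 := by
    rintro rfl
    rw [pow_zero, mul_one, hk2i] at huk
    exact hTreal hkT huk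
  -- the inverted element
  have hpw : ∀ a b a' b' : ℕ, k ^ a * t ^ b * (k ^ a' * t ^ b') = k ^ (a + a') * t ^ (b + b') := fun a b a' b' => by
    rw [(htk.pow_pow b a').mul_mul_mul_comm, pow_add, pow_add]
  have hred : ∀ a b : ℕ, k ^ a * t ^ b = k ^ (a % 3) * t ^ (b % 3) := fun a b => by
    rw [← pow_eq_pow_mod a hkk, ← pow_eq_pow_mod b htt]
  set k' := u * k * u⁻¹ with hk'
  have hk'e : k' = k ^ 2 * t ^ j := by rw [pow_two]; exact huk
  set ρ := k * k'⁻¹ with hρ
  have hρe : ρ = k ^ 2 * t ^ (2 * j) := by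
    rw [hρ, mul_inv_eq_iff_eq_mul, hk'e, hpw, hred, show (2 + 2) % 3 = 1 by norm_num,
      show (2 * j + j) % 3 = 0 by omega, pow_one, pow_zero, mul_one]
  have hkk' : Commute k k' := by
    rw [hk'e]
    exact ((Commute.refl k).pow_right 2).mul_right (htk.symm.pow_right j)
  have huρ : u * ρ * u⁻¹ = ρ⁻¹ := by
    have e2 : u * k' * u⁻¹ = k := by
      rw [hk', ← conj_conj, hu2]; group
    calc u * ρ * u⁻¹ = u * k * u⁻¹ * (u * k' * u⁻¹)⁻¹ := by rw [hρ]; group
      _ = ρ⁻¹ := by rw [e2, hρ, mul_inv_rev, inv_inv, ← hk']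
  set D := centralizer ({t} : Set G) ⊓ centralizer ({k} : Set G) with hD
  have hDc : ∀ {x : G}, x ∈ D → Commute x t ∧ Commute x k := fun {x} hx =>
    ⟨mem_centralizer_singleton_iff.1 (Subgroup.mem_inf.1 hx).1,
      mem_centralizer_singleton_iff.1 (Subgroup.mem_inf.1 hx).2⟩
  have hDmem : ∀ a b : ℕ, k ^ a * t ^ b ∈ D := fun a b => Subgroup.mem_inf.2
    ⟨mem_centralizer_singleton_iff.2 ((htk.symm.pow_left a).mul_left ((Commute.refl t).pow_left b)).eq,
      mem_centralizer_singleton_iff.2 (((Commute.refl k).pow_left a).mul_left (htk.pow_left b)).eq⟩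
  have hD9 : Nat.card D = 9 := by
    have hle : Nat.card D ≤ 9 := by
      refine (Nat.card_le_card_of_surjective (α := Fin 3 × Fin 3)
        (fun p => (⟨k ^ (p.1 : ℕ) * t ^ (p.2 : ℕ), hDmem _ _⟩ : D)) fun x => ?_).trans (by simp)
      obtain ⟨a, b, ha, hb, e⟩ := hDrep x (hDc x.2).1 (hDc x.2).2
      exact ⟨(⟨a, ha⟩, ⟨b, hb⟩), Subtype.ext e.symm⟩
    have hp : IsPGroup 3 D := fun x => ⟨1, by
      obtain ⟨a, b, -, -, e⟩ := hDrep x (hDc x.2).1 (hDc x.2).2
      refine Subtype.ext ?_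
      rw [pow_one, SubgroupClass.coe_pow, e, (htk.symm.pow_pow a b).mul_pow, ← pow_mul, ← pow_mul,
        mul_comm a, mul_comm b, pow_mul, pow_mul, hkk, htt, one_pow, one_pow, one_mul]
      rfl⟩
    obtain ⟨n, hn⟩ := IsPGroup.iff_card.1 hp
    have hgt : 3 < Nat.card D := by
      by_contra hle3
      have hz : zpowers t = D := Subgroup.eq_of_le_of_card_ge
        (zpowers_le.2 (by simpa using hDmem 0 1)) (by rw [Nat.card_zpowers, ht3]; omega)
      have hkz : k ∈ zpowers t := hz ▸ (by simpa using hDmem 1 0)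
      obtain ⟨i, hi⟩ := (IsOfFinOrder.mem_powers_iff_mem_zpowers (isOfFinOrder_of_finite t)).2 hkz
      have hi' : t ^ i = k := hi
      have h1 := c.sa_mul_sb_of_commute hk (c.pt_mem_Z 1) (fun e => one_ne_zero (α := F) (by
        have := congrArg c.W e; rwa [W_pt, c.W_one] at this)) (hi' ▸ (c.commute_tau_Z ht htab (c.pt_mem_Z 1)).pow_left i)
      rw [hka, one_mul] at h1
      exact hkb h1
    rcases n with - | - | - | n <;> simp only [pow_succ, pow_zero, one_mul] at hn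
    · omega
    · omega
    · omega
    · have : 1 ≤ 3 ^ n := Nat.one_le_pow _ _ (by norm_num)
      omega
  -- the lines of `D`
  have hTt : Tc t := Or.inl (IsConj.refl t)
  have hTk' : Tc k' := hTconj hkT (isConj_iff.2 ⟨u, rfl⟩)
  have hline : ∀ a b : ℕ, a < 3 → b < 3 →
      k ^ a * t ^ b = 1 ∨ Tc (k ^ a * t ^ b) ∨ k ^ a * t ^ b = ρ ∨ k ^ a * t ^ b = ρ⁻¹ := by
    intro a b ha hb
    have hsqi : ∀ {x : G}, x ^ 3 = 1 → x ^ 2 = x⁻¹ := fun {x} hx =>
      eq_inv_of_mul_eq_one_left (by rw [← pow_succ]; exact hx)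
    have e1 : ρ⁻¹ = k ^ 1 * t ^ (j % 3) := by
      rw [inv_eq_of_mul_eq_one_right]
      rw [hρe, hpw, hred, show (2 + 1) % 3 = 0 by norm_num, show (2 * j + j % 3) % 3 = 0 by omega,
        pow_zero, pow_zero, one_mul]
    have e2 : k'⁻¹ = k ^ 1 * t ^ ((2 * j) % 3) := by
      rw [inv_eq_of_mul_eq_one_right]
      rw [hk'e, hpw, hred, show (2 + 1) % 3 = 0 by norm_num, show (j + 2 * j % 3) % 3 = 0 by omega,
        pow_zero, pow_zero, one_mul]
    have e3 : ρ = k ^ 2 * t ^ (2 * j % 3) := by rw [hρe, hred]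
    have hj : j = 1 ∨ j = 2 := by omega
    rcases pow_lt_three ha with rfl | rfl | rfl <;> rcases pow_lt_three hb with rfl | rfl | rfl
    · left; simp
    · right; left; simpa using hTt
    · right; left; rw [pow_zero, one_mul, hsqi htt]; exact hTinv hTt
    · right; left; simpa using hkT
    · rcases hj with rfl | rfl
      · right; right; right; rw [e1]
      · right; left; have := hTinv hTk'; rw [e2] at this; exact this
    · rcases hj with rfl | rfl
      · right; left; have := hTinv hTk'; rw [e2] at this; exact this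
      · right; right; right; rw [e1]
    · right; left; rw [pow_zero, mul_one, hsqi hkk]; exact hTinv hkT
    · rcases hj with rfl | rfl
      · right; left; rw [← hk'e]; exact hTk'
      · right; right; left; rw [e3]
    · rcases hj with rfl | rfl
      · right; right; left; rw [e3]
      · right; left; rw [← hk'e]; exact hTk'
  have hρne : ρ ≠ 1 := fun e => by
    have hk'k : k' = k := by rw [hρ, mul_inv_eq_one] at e; exact e.symm
    have e' : k ^ 2 * t ^ j = k := hk'e.symm.trans hk'k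
    have e4 : k * t ^ j = 1 := mul_left_cancel (a := k) (by rw [← mul_assoc, ← pow_two, e', mul_one])
    have hh := c.sa_mul_sb_of_commute hk (c.pt_mem_Z 1) (fun e0 => one_ne_zero (α := F) (by
      have := congrArg c.W e0; rwa [W_pt, c.W_one] at this))
      (by rw [eq_inv_of_mul_eq_one_left e4]
          exact ((c.commute_tau_Z ht htab (c.pt_mem_Z 1)).pow_left j).inv_left)
    rw [hka, one_mul] at hh
    exact hkb hh
  have hρ3 : ρ ^ 3 = 1 := by
    rw [hρe, (htk.symm.pow_pow 2 (2 * j)).mul_pow, ← pow_mul, ← pow_mul, mul_comm 2 3, mul_comm (2 * j),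
      pow_mul k, pow_mul t, hkk, htt, one_pow, one_pow, one_mul]
  have hρo : orderOf ρ = 3 := orderOf_eq_prime hρ3 hρne
  have hρT : ¬ Tc ρ := fun h => hTreal h huρ
  have hρD : ρ ∈ D := hρe ▸ hDmem _ _
  -- the centraliser of `ρ`
  set M := centralizer ({ρ} : Set G) with hM
  have htM : t ∈ M := mem_centralizer_singleton_iff.2 (hDc hρD).1.eq.symm
  have hModd : Odd (Nat.card M) := by
    refine Nat.not_even_iff_odd.1 fun he => ?_
    obtain ⟨⟨v, hvM⟩, hv⟩ := exists_prime_orderOf_dvd_card' (G := M) 2 (even_iff_two_dvd.1 he)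
    rw [Subgroup.orderOf_mk] at hv
    exact hρT (hclass ρ v hρo hv (mem_centralizer_singleton_iff.1 hvM).symm)
  -- an element commuting with `t` and `ρ` lies in `D`
  have hMD : ∀ x, Commute x t → Commute x ρ → x ∈ D := fun x hxt hxρ => by
    refine Subgroup.mem_inf.2 ⟨mem_centralizer_singleton_iff.2 hxt.eq, mem_centralizer_singleton_iff.2 ?_⟩
    have h2 : Commute x (ρ * (t ^ (2 * j))⁻¹) := hxρ.mul_right (hxt.pow_right _).inv_right
    rw [hρe, mul_inv_cancel_right] at h2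
    have h4 := h2.pow_right 2
    rwa [← pow_mul, pow_eq_pow_mod _ hkk, show 2 * 2 % 3 = 1 by norm_num, pow_one] at h4
  set tM : M := ⟨t, htM⟩
  obtain ⟨K, hK, hKc, htK⟩ := exists_comm_quotient (t := tM) hModd (by rw [Subgroup.orderOf_mk, ht3]) (by
    rw [← hD9]
    exact Nat.card_le_card_of_injective (fun x => ⟨((x : M) : G), hMD _
      (congrArg Subtype.val (mem_centralizer_singleton_iff.1 x.2) :)
      (mem_centralizer_singleton_iff.1 (x : M).2)⟩)
      fun a b e => Subtype.ext (Subtype.ext (congrArg Subtype.val e :)))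
  haveI := hK
  letI : CommGroup (M ⧸ K) :=
    { (inferInstance : Group (M ⧸ K)) with
      mul_comm := fun a b => by
        obtain ⟨x, rfl⟩ := QuotientGroup.mk'_surjective K a
        obtain ⟨y, rfl⟩ := QuotientGroup.mk'_surjective K b
        refine mul_inv_eq_one.1 ?_
        rw [← map_mul, ← map_mul, ← map_inv, ← map_mul]
        refine (QuotientGroup.eq_one_iff _).2 ?_
        rw [show x * y * (y * x)⁻¹ = x * y * x⁻¹ * y⁻¹ by group]
        exact hKc x y }
  -- a Sylow 3-subgroup of `G` lies in `M`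
  obtain ⟨R, hDR⟩ := (IsPGroup.of_card (p := 3) (n := 2) (by rw [hD9]; norm_num) :
    IsPGroup 3 D).exists_le_sylow
  have hRM : (R : Subgroup G) ≤ M := by
    haveI : Nontrivial (R : Subgroup G) := ⟨⟨⟨ρ, hDR hρD⟩, 1, fun e => hρne (congrArg Subtype.val e)⟩⟩
    haveI := R.2.center_nontrivial
    obtain ⟨w, hw⟩ := exists_ne (1 : center (R : Subgroup G))
    have hwc : ∀ x ∈ (R : Subgroup G), Commute x ((w : (R : Subgroup G)) : G) := fun x hx =>
      congrArg Subtype.val (mem_center_iff.1 w.2 ⟨x, hx⟩)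
    have hw1 : ((w : (R : Subgroup G)) : G) ≠ 1 := fun e => hw (Subtype.ext (Subtype.ext e))
    have hDt : t ∈ D := by simpa using hDmem 0 1
    have hDk : k ∈ D := by simpa using hDmem 1 0
    obtain ⟨a, b, ha, hb, e⟩ := hDrep _ (hwc t (hDR hDt)).symm (hwc k (hDR hDk)).symm
    rcases hline a b ha hb with h | h | h | h
    · exact absurd (e.trans h) hw1
    · -- the centraliser of a conjugate of `t` has 3-part nine
      rw [← e] at h
      have hle : Nat.card (R : Subgroup G) ∣ 180 := by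
        rw [← hQc]
        obtain ⟨g, hg⟩ : ∃ g, g * t * g⁻¹ = ((w : (R : Subgroup G)) : G) ∨
            g * t * g⁻¹ = (((w : (R : Subgroup G)) : G))⁻¹ := by
          rcases h with h | h <;> obtain ⟨g, hg⟩ := isConj_iff.1 h
          · exact ⟨g, Or.inl hg⟩
          · exact ⟨g, Or.inr (by rw [← hg]; group)⟩
        refine dvd_trans ?_ (card_dvd_of_le (H := (R : Subgroup G).map (MulAut.conj g⁻¹).toMonoidHom) ?_)
        · rw [card_map_of_injective (MulAut.conj g⁻¹).injective]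
        · rintro _ ⟨x, hx, rfl⟩
          refine mem_centralizer_singleton_iff.2 ?_
          have hx' : Commute x (g * t * g⁻¹) := by
            rcases hg with e | e <;> rw [e]
            · exact hwc x hx
            · exact (hwc x hx).inv_right
          have := (Commute.conj_iff g⁻¹).2 hx'
          simpa [mul_assoc] using this.eq
      obtain ⟨n, hn⟩ := IsPGroup.iff_card.1 R.2
      have hn2 : n ≤ 2 := by
        by_contra h3
        have := (pow_dvd_pow 3 (not_le.1 h3 : 2 < n)).trans (hn ▸ hle)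
        norm_num at this
      have hRD : (R : Subgroup G) ≤ D := (Subgroup.eq_of_le_of_card_ge hDR (by
        rw [hn, hD9]
        exact (Nat.pow_le_pow_right (by norm_num) hn2).trans (by norm_num))).ge
      intro x hx
      obtain ⟨a', b', -, -, e'⟩ := hDrep x (hDc (hRD hx)).1 (hDc (hRD hx)).2
      refine mem_centralizer_singleton_iff.2 ?_
      rw [e', hρe]
      rw [hpw, hpw, add_comm a', add_comm b']
    · intro x hx
      have := hwc x hx
      rw [e, h] at this
      exact mem_centralizer_singleton_iff.2 this.eq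
    · intro x hx
      have := hwc x hx
      rw [e, h] at this
      exact mem_centralizer_singleton_iff.2 (by simpa using this.inv_right.eq)
  -- the transfer
  let f : ↥M →* M ⧸ K := QuotientGroup.mk' K
  have hf1 : f tM ≠ 1 := fun e => htK ((QuotientGroup.eq_one_iff _).1 e)
  have hfix : ∀ g : G, ∀ hg : g⁻¹ * t * g ∈ M, f ⟨g⁻¹ * t * g, hg⟩ = f tM := by
    intro g hg
    set y := g⁻¹ * t * g with hy
    have hρ' : Commute (g * ρ * g⁻¹) t := by
      have := (Commute.conj_iff g).2 (show Commute ρ y from (mem_centralizer_singleton_iff.1 hg).symm)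
      rwa [show g * y * g⁻¹ = t by rw [hy]; group] at this
    set Q := centralizer ({t} : Set G) with hQ
    have hDQ : D ≤ Q := inf_le_left
    have hcard : Nat.card (D.subgroupOf Q) = 3 ^ (Nat.card Q).factorization 3 := by
      rw [Nat.card_congr (subgroupOfEquivOfLe hDQ).toEquiv, hD9, hQc,
        show (180 : ℕ) = 3 ^ 2 * 20 by norm_num, Nat.factorization_mul (by norm_num) (by norm_num),
        Finsupp.add_apply, Nat.Prime.factorization_pow Nat.prime_three, Finsupp.single_eq_same,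
        Nat.factorization_eq_zero_of_not_dvd (by norm_num : ¬ 3 ∣ 20)]
      norm_num
    set ρQ : Q := ⟨g * ρ * g⁻¹, mem_centralizer_singleton_iff.2 hρ'.eq⟩ with hρQ
    have hρQo : orderOf ρQ = 3 := by rw [Subgroup.orderOf_mk, Invol.orderOf_conj_eq, hρo]
    obtain ⟨q, hq⟩ := Invol.exists_conj_mem_sylow (Sylow.ofCard (D.subgroupOf Q) hcard) (K := zpowers ρQ)
      (IsPGroup.of_card (n := 1) (by rw [Nat.card_zpowers, hρQo, pow_one]))
    have hqD : (q : G) * (g * ρ * g⁻¹) * (q : G)⁻¹ ∈ D := mem_subgroupOf.1 (hq ρQ (mem_zpowers ρQ))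
    set n := (q : G) * g with hn
    have hnρD : n * ρ * n⁻¹ ∈ D := by rw [hn, conj_conj]; exact hqD
    have hny : n * y * n⁻¹ = t := by
      rw [hn, conj_conj, show g * y * g⁻¹ = t by rw [hy]; group,
        mem_centralizer_singleton_iff.1 q.2, mul_inv_cancel_right]
    obtain ⟨a, b, ha, hb, e⟩ := hDrep _ (hDc hnρD).1 (hDc hnρD).2
    -- an element of `M` carrying `y` to `t`
    obtain ⟨m, hm, hmy⟩ : ∃ m ∈ M, m * y * m⁻¹ = t := by
      rcases hline a b ha hb with h | h | h | h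
      · exact absurd (e.trans h) fun e0 => hρne (conj_eq_one_iff.1 e0)
      · rw [← e] at h
        exact absurd (hTconj h (isConj_iff.2 ⟨n⁻¹, by group⟩)) hρT
      · exact ⟨n, mem_centralizer_singleton_iff.2 (mul_inv_eq_iff_eq_mul.1 (e.trans h)), hny⟩
      · refine ⟨u * n, mem_centralizer_singleton_iff.2 (mul_inv_eq_iff_eq_mul.1 ?_), ?_⟩
        · rw [conj_conj, e.trans h, show u * ρ⁻¹ * u⁻¹ = (u * ρ * u⁻¹)⁻¹ by group, huρ, inv_inv]
        · rw [conj_conj, hny, hut.eq, mul_inv_cancel_right]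
    have : (⟨m, hm⟩ : M) * ⟨y, hg⟩ * ⟨m, hm⟩⁻¹ = tM := Subtype.ext hmy
    rw [← this, map_mul, map_mul, map_inv, mul_comm (f ⟨m, hm⟩), mul_inv_cancel_right]
  have hV := CompOrd.transfer_fixed f Nat.prime_three htt htM hfix
  have hVtriv : MonoidHom.transfer f t = 1 := by
    rcases IsSimpleGroup.eq_bot_or_eq_top_of_normal (MonoidHom.transfer f).ker inferInstance with h | h
    · exfalso
      refine hG ⟨⟨fun a b => (MonoidHom.ker_eq_bot_iff _).1 h ?_⟩⟩
      rw [map_mul, map_mul, mul_comm]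
    · exact MonoidHom.mem_ker.1 (h ▸ mem_top t)
  rw [hVtriv] at hV
  have hfo : orderOf (f ⟨t, htM⟩) = 3 := orderOf_eq_prime (by
    rw [← map_pow, show (⟨t, htM⟩ : M) ^ 3 = 1 from Subtype.ext htt, map_one]) hf1
  have hN : 3 ∣ Nat.card {x : G ⧸ M // t • x = x} := hfo ▸ orderOf_dvd_of_pow_eq_one hV.symm
  have hp : IsPGroup 3 (zpowers t) := IsPGroup.of_card (n := 1) (by rw [Nat.card_zpowers, ht3, pow_one])
  have hmod := hp.card_modEq_card_fixedPoints (G ⧸ M)
  have hfp : Nat.card (MulAction.fixedPoints (zpowers t) (G ⧸ M)) = Nat.card {x : G ⧸ M // t • x = x} := by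
    refine Nat.card_congr (Equiv.subtypeEquivRight fun x => ⟨fun h => h ⟨t, mem_zpowers t⟩, ?_⟩)
    rintro h ⟨v, hv⟩
    obtain ⟨i, rfl⟩ := mem_zpowers_iff.1 hv
    show t ^ i • x = x
    exact MulAction.mem_stabilizer_iff.1 (zpow_mem (MulAction.mem_stabilizer_iff.2 h) i)
  rw [hfp] at hmod
  have hidx : ¬ 3 ∣ M.index := fun h => R.not_dvd_index (h.trans (index_dvd_of_le hRM))
  exact hidx ((Nat.modEq_zero_iff_dvd).1 (hmod.trans ((Nat.modEq_zero_iff_dvd).2 hN)))

end Crd

end Cfsg.Lib.Syl34
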