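import Cfsg.Agent.Lib.Syl34.StepA

/-!
# The local subgroups in the simple spread case with trivial signalizers
-/

set_option autoImplicit false
set_option linter.style.haveILetI false
set_option linter.unusedSectionVars false

namespace Cfsg.Lib.Syl34

open Subgroup Cfsg Cfsg.Lib

universe u

variable {G : Type u} [Group G] [Finite G] {F : Type*} [Field F] [Fintype F]

namespace Crd

variable {S : Sylow 2 G} (c : Crd (S : Subgroup G) F)

/-! ## The scalars -/

/-- The scalar on the first coordinate. -/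
noncomputable def sa (n : G) : F := c.fX n 1

/-- The scalar on the second coordinate. -/
noncomputable def sb (n : G) : F := c.fY n 1

theorem scal {n : G} (hn : n ∈ normalizer ((S : Subgroup G) : Set G)) :
    (∀ s ∈ (S : Subgroup G), c.X (n * s * n⁻¹) = c.sa n * c.X s ∧ c.Y (n * s * n⁻¹) = c.sb n * c.Y s) ∧
      (∀ z ∈ c.Z, c.W (n * z * n⁻¹) = c.sa n * c.sb n * c.W z) ∧ c.sa n ≠ 0 ∧ c.sb n ≠ 0 := by
  obtain ⟨α, β, hα, hβ, hs, hW⟩ := c.exists_scal hn
  have ea : c.sa n = α := by rw [sa, fX, (hs _ (c.pt_mem 1 0 0)).1, X_pt, mul_one]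
  have eb : c.sb n = β := by rw [sb, fY, (hs _ (c.pt_mem 0 1 0)).2, Y_pt, mul_one]
  rw [ea, eb]
  exact ⟨hs, hW, hα, hβ⟩

theorem sa_mul {n m : G} (hn : n ∈ normalizer ((S : Subgroup G) : Set G))
    (hm : m ∈ normalizer ((S : Subgroup G) : Set G)) :
    c.sa (n * m) = c.sa n * c.sa m ∧ c.sb (n * m) = c.sb n * c.sb m := by
  have h1 := (c.scal (mul_mem hn hm)).1
  constructor
  · have := (h1 _ (c.pt_mem 1 0 0)).1
    rw [conj_conj, ((c.scal hn).1 _ (conj_mem_of_norm hm (c.pt_mem ..))).1,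
      ((c.scal hm).1 _ (c.pt_mem ..)).1, X_pt, mul_one, mul_one] at this
    exact this.symm
  · have := (h1 _ (c.pt_mem 0 1 0)).2
    rw [conj_conj, ((c.scal hn).1 _ (conj_mem_of_norm hm (c.pt_mem ..))).2,
      ((c.scal hm).1 _ (c.pt_mem ..)).2, Y_pt, mul_one, mul_one] at this
    exact this.symm

theorem sa_of_mem {s : G} (hs : s ∈ (S : Subgroup G)) : c.sa s = 1 ∧ c.sb s = 1 := by
  constructor
  · rw [sa, fX, c.X_mul (mul_mem hs (c.pt_mem ..)) (inv_mem hs), c.X_mul hs (c.pt_mem ..), c.X_inv hs, X_pt]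
    linear_combination field_two c.hF (c.X s)
  · rw [sb, fY, c.Y_mul (mul_mem hs (c.pt_mem ..)) (inv_mem hs), c.Y_mul hs (c.pt_mem ..), c.Y_inv hs, Y_pt]
    linear_combination field_two c.hF (c.Y s)

/-- The scalars as a homomorphism. -/
noncomputable def scHom : ↥(normalizer ((S : Subgroup G) : Set G)) →* Fˣ × Fˣ :=
  MonoidHom.mk' (fun n => (Units.mk0 _ (c.scal n.2).2.2.1, Units.mk0 _ (c.scal n.2).2.2.2)) fun n m =>
    Prod.ext (Units.ext (c.sa_mul n.2 m.2).1) (Units.ext (c.sa_mul n.2 m.2).2)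

theorem sa_pow {n : G} (hn : n ∈ normalizer ((S : Subgroup G) : Set G)) (j : ℕ) :
    c.sa (n ^ j) = c.sa n ^ j ∧ c.sb (n ^ j) = c.sb n ^ j := by
  induction j with
  | zero => simpa using c.sa_of_mem (S : Subgroup G).one_mem
  | succ j ih =>
    obtain ⟨h1, h2⟩ := c.sa_mul (pow_mem hn j) hn
    rw [pow_succ, h1, h2, ih.1, ih.2, pow_succ, pow_succ]
    exact ⟨rfl, rfl⟩

theorem sa_mul_sb_of_commute {n z : G} (hn : n ∈ normalizer ((S : Subgroup G) : Set G)) (hz : z ∈ c.Z)
    (h1 : z ≠ 1) (h : Commute n z) : c.sa n * c.sb n = 1 := by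
  have := (c.scal hn).2.1 z hz
  rw [h.eq, mul_inv_cancel_right] at this
  exact (mul_eq_right₀ (c.W_ne_zero hz h1)).1 this.symm

theorem commute_Z_of_sa_mul_sb {n z : G} (hn : n ∈ normalizer ((S : Subgroup G) : Set G)) (hz : z ∈ c.Z)
    (h : c.sa n * c.sb n = 1) : Commute n z := by
  have h' := conj_mem_of_norm (c.normS_le_norm_Z hn) hz
  refine mul_inv_eq_iff_eq_mul.1 (c.ext (c.Z_le h') (c.Z_le hz) (by rw [h'.1.2, hz.1.2])
    (by rw [h'.2.2, hz.2.2]) ?_)
  rw [(c.scal hn).2.1 z hz, h, one_mul]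

include c in
theorem cube_eq_one (x : Fˣ) : x ^ 3 = 1 := by
  have h := field_cube c.hF x.ne_zero
  exact Units.ext (by rw [Units.val_pow_eq_pow_val, Units.val_one, pow_succ, pow_two]; exact h)

include c in
theorem card_units : Nat.card Fˣ = 3 := by
  classical
  rw [Nat.card_eq_fintype_card, Fintype.card_units, c.hF]

section Trivial

variable (hA : ¬ c.Norml) (hth : ∀ z ∈ c.Z, z ≠ 1 → th z = ⊥)
include hth

theorem mem_S_of_sa {n : G} (hn : n ∈ normalizer ((S : Subgroup G) : Set G)) (ha : c.sa n = 1)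
    (hb : c.sb n = 1) : n ∈ (S : Subgroup G) := by
  obtain ⟨z, hz, h1⟩ := (c.Z).bot_or_exists_ne_one.resolve_left fun e => by
    have := c.card_Z; rw [e, card_bot] at this; omega
  refine c.mem_S_of_fix_X hz h1 (hth z hz h1) (c.commute_Z_of_sa_mul_sb hn hz (by rw [ha, hb, mul_one])) hn
    fun s hs => ?_
  rw [((c.scal hn).1 s hs).1, ha, one_mul]

theorem ker_scHom : c.scHom.ker = (S : Subgroup G).subgroupOf (normalizer ((S : Subgroup G) : Set G)) := by
  ext n
  rw [MonoidHom.mem_ker, mem_subgroupOf]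
  refine ⟨fun h => ?_, fun h => Prod.ext (Units.ext (c.sa_of_mem h).1) (Units.ext (c.sa_of_mem h).2)⟩
  exact c.mem_S_of_sa hth n.2 (congrArg (fun p : Fˣ × Fˣ => (p.1 : F)) h)
    (congrArg (fun p : Fˣ × Fˣ => (p.2 : F)) h)

theorem mem_A_of_centralizes {x : G} (hx : ∀ a ∈ c.A, Commute x a) : x ∈ c.A := by
  obtain ⟨z, hz, h1⟩ := (c.Z).bot_or_exists_ne_one.resolve_left fun e => by
    have := c.card_Z; rw [e, card_bot] at this; omega
  have hxS := c.cent_le_normS hz h1 (hth z hz h1) (mem_centralizer_singleton_iff.2 (hx z hz.1).eq)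
  have hu := c.pt_mem_A 1 0
  have hb : c.sb x = 1 := by
    have := ((c.scal hxS).1 _ hu.1).2
    rw [(hx _ hu).eq, mul_inv_cancel_right, Y_pt, mul_one] at this
    exact this.symm
  have ha : c.sa x = 1 := by
    have := c.sa_mul_sb_of_commute hxS hz h1 (hx z hz.1)
    rwa [hb, mul_one] at this
  exact c.mem_A_of_commute hu (fun h => by simpa using h.2.2) (c.mem_S_of_sa hth hxS ha hb) (hx _ hu)

/-- The centraliser of a nontrivial element of `Z` has order 192 when some element moves `X`. -/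
theorem card_cent_eq (htau : ¬ c.NoTau) {z : G} (hz : z ∈ c.Z) (h1 : z ≠ 1) :
    Nat.card (centralizer ({z} : Set G)) = 192 := by
  simp only [NoTau, not_forall] at htau
  obtain ⟨z₀, hz₀, h₀, n, hn, hnz, s, hs, hX⟩ := htau
  refine (c.card_cent_Z hz h1 (hth z hz h1)).2 ⟨n, ?_, s, hs, hX⟩
  exact c.commute_Z_of_sa_mul_sb hn hz (c.sa_mul_sb_of_commute hn hz₀ h₀ hnz)

include hA

/-- Every pair of scalars occurs. -/
theorem scHom_surjective (htau : ¬ c.NoTau) : Function.Surjective c.scHom := by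
  classical
  simp only [NoTau, not_forall] at htau
  obtain ⟨z₀, hz₀, h₀, n, hn, hnz, s, hs, hX⟩ := htau
  obtain ⟨m, hm, α, β, hαβ, hms⟩ := c.exists_move_Z hA
  have hsa : c.sa n ≠ 1 := fun e => hX (by rw [((c.scal hn).1 s hs).1, e, one_mul])
  have hsm : c.sa m * c.sb m ≠ 1 := by
    have e1 : c.sa m = α := by rw [sa, fX, (hms _ (c.pt_mem 1 0 0)).1, X_pt, mul_one]
    have e2 : c.sb m = β := by rw [sb, fY, (hms _ (c.pt_mem 0 1 0)).2, Y_pt, mul_one]
    rwa [e1, e2]
  rw [← MonoidHom.range_eq_top]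
  set R := c.scHom.range
  have h9 : Nat.card (Fˣ × Fˣ) = 3 ^ 2 := by rw [Nat.card_prod, c.card_units]; norm_num
  obtain ⟨j, hj, hR⟩ := (Nat.dvd_prime_pow Nat.prime_three).1 (h9 ▸ R.card_subgroup_dvd_card)
  set p := c.scHom ⟨n, hn⟩
  set q := c.scHom ⟨m, hm⟩
  have hp1 : p ≠ 1 := fun e => hsa (congrArg (fun p : Fˣ × Fˣ => (p.1 : F)) e)
  have hpR : p ∈ R := ⟨_, rfl⟩
  have hqR : q ∈ R := ⟨_, rfl⟩
  interval_cases j
  · exfalso
    rw [pow_zero] at hR
    exact hp1 (mem_bot.1 ((eq_bot_of_card_eq R hR) ▸ hpR))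
  · exfalso
    haveI : Fact (Nat.Prime 3) := ⟨Nat.prime_three⟩
    have hz : zpowers p = R := Subgroup.eq_of_le_of_card_ge (zpowers_le.2 hpR) (by
      rw [hR, Nat.card_zpowers, orderOf_eq_prime (Prod.ext (c.cube_eq_one _) (c.cube_eq_one _)) hp1,
        pow_one])
    let μ : Fˣ × Fˣ →* Fˣ := (MonoidHom.fst Fˣ Fˣ) * (MonoidHom.snd Fˣ Fˣ)
    obtain ⟨i, hi⟩ := mem_zpowers_iff.1 (hz.symm ▸ hqR : q ∈ zpowers p)
    have hμp : μ p = 1 := Units.ext (c.sa_mul_sb_of_commute hn hz₀ h₀ hnz)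
    have hμq : μ q = 1 := by rw [← hi, map_zpow, hμp, one_zpow]
    exact hsm (congrArg Units.val hμq)
  · exact Subgroup.eq_top_of_card_eq R (by rw [hR, h9])

theorem card_normS (htau : ¬ c.NoTau) : Nat.card ↥(normalizer ((S : Subgroup G) : Set G)) = 576 := by
  rw [← c.scHom.ker.card_mul_index, index_ker, c.ker_scHom hth,
    Nat.card_congr (subgroupOfEquivOfLe le_normalizer).toEquiv, c.card_S,
    MonoidHom.range_eq_top.2 (c.scHom_surjective hA hth htau), card_top, Nat.card_prod, c.card_units]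

/-- The stabiliser of `Z` in the normaliser of `A` is the normaliser of `S`. -/
theorem mem_normS_of_norm {g : G} (hgA : g ∈ normalizer (c.A : Set G))
    (hgZ : g ∈ normalizer (c.Z : Set G)) : g ∈ normalizer ((S : Subgroup G) : Set G) := by
  obtain ⟨z, hz, h1⟩ := (c.Z).bot_or_exists_ne_one.resolve_left fun e => by
    have := c.card_Z; rw [e, card_bot] at this; omega
  obtain ⟨n, hn, -, hZ⟩ := c.exists_normS_of_norm hgA hgZ
  have h : n⁻¹ * g ∈ centralizer ({z} : Set G) := Invol.coset_iff_conj.2 (hZ z hz)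
  simpa using mul_mem hn (c.cent_le_normS hz h1 (hth z hz h1) h)

set_option maxHeartbeats 1600000 in
/-- An element of order three fixing `X` whose centraliser has order at least 90, and a commuting one
centralising `Z` and moving `X`. -/
theorem exists_tau_k (htau : ¬ c.NoTau) :
    ∃ t k : G, orderOf t = 3 ∧ orderOf k = 3 ∧ Commute t k ∧ t ∈ normalizer ((S : Subgroup G) : Set G) ∧
      k ∈ normalizer ((S : Subgroup G) : Set G) ∧ c.sa t ≠ 1 ∧ c.sa t * c.sb t = 1 ∧ c.sa k = 1 ∧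
      c.sb k ≠ 1 ∧ 90 ≤ Nat.card (centralizer ({k} : Set G)) := by
  classical
  haveI : Fact (Nat.Prime 2) := ⟨Nat.prime_two⟩
  haveI : Fact (Nat.Prime 3) := ⟨Nat.prime_three⟩
  obtain ⟨z, hz, h1⟩ := (c.Z).bot_or_exists_ne_one.resolve_left fun e => by
    have := c.card_Z; rw [e, card_bot] at this; omega
  set NA := normalizer (c.A : Set G) with hNA
  set NS := normalizer ((S : Subgroup G) : Set G) with hNS
  have hle : NS ≤ NA := c.normS_le_norm_A
  have hNAc : Nat.card NA = 2880 := by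
    rw [hNA, c.card_normA hA hz h1 ((c.cent_le_normS hz h1 (hth z hz h1)).trans c.normS_le_norm_A),
      c.card_cent_eq hth htau hz h1]
  have hNSc : Nat.card NS = 576 := c.card_normS hA hth htau
  set H : Subgroup NA := NS.subgroupOf NA
  set R₀ : Subgroup NA := H.normalCore
  have hidx : R₀.index ∣ 120 := by
    have hH : H.index = 5 := by
      have := H.card_mul_index
      rw [Nat.card_congr (subgroupOfEquivOfLe hle).toEquiv, hNSc, hNAc] at this
      omega
    rw [show R₀ = (MulAction.toPermHom NA (NA ⧸ H)).ker from normalCore_eq_ker H, index_ker]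
    have h := (MulAction.toPermHom NA (NA ⧸ H)).range.card_subgroup_dvd_card
    rw [Nat.card_perm, show Nat.card (NA ⧸ H) = 5 from hH] at h
    exact h
  set R : Subgroup G := R₀.map NA.subtype
  have hRS : R ≤ NS := by
    rintro _ ⟨x, hx, rfl⟩
    exact H.normalCore_le hx
  have hRn : ∀ g ∈ NA, ∀ r ∈ R, g * r * g⁻¹ ∈ R := by
    rintro g hg _ ⟨x, hx, rfl⟩
    exact ⟨⟨g, hg⟩ * x * ⟨g, hg⟩⁻¹, Subgroup.Normal.conj_mem inferInstance x hx _, rfl⟩
  have hRA : ∀ s ∈ R, s ∈ (S : Subgroup G) → s ∈ c.A := by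
    intro s hsR hsS
    by_contra hsA
    obtain ⟨g, hg, hgZ⟩ := SetLike.not_le_iff_exists.1 hA
    have h' := hRS (hRn g⁻¹ (inv_mem hg) s hsR)
    rw [inv_inv] at h'
    have hpow : ∃ i, orderOf (g⁻¹ * s * g) = 2 ^ i := by
      obtain ⟨i, hi⟩ := (IsPGroup.iff_orderOf.1 S.2) ⟨s, hsS⟩
      refine ⟨i, ?_⟩
      rw [Subgroup.orderOf_mk] at hi
      rw [← hi, show g⁻¹ * s * g = g⁻¹ * s * g⁻¹⁻¹ by group, Invol.orderOf_conj_eq]
    obtain ⟨i, hi⟩ := hpow
    have hS' : g⁻¹ * s * g ∈ (S : Subgroup G) := mem_sylow_of_pow h' (dvd_of_eq hi)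
    have hc : Commute (g⁻¹ * s * g) z := (c.commute_Z hz hS').symm
    have hfix : s * (g * z * g⁻¹) * s⁻¹ = g * z * g⁻¹ := by
      have := (Commute.conj_iff g).2 hc
      rw [show g * (g⁻¹ * s * g) * g⁻¹ = s by group] at this
      rw [this.eq, mul_inv_cancel_right]
    exact hgZ (c.norm_Z_of_meet hg hz h1 (c.mem_Z_of_fixed hsS hsA (conj_mem_of_norm hg hz.1) hfix))
  have hsaR : ∀ r ∈ R, c.sa r = 1 := by
    intro r hr
    set s := c.pt 1 0 0
    have hs : s ∈ (S : Subgroup G) := c.pt_mem ..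
    have hs' := conj_mem_of_norm (hRS hr) hs
    have hA' : r * s * r⁻¹ * s⁻¹ ∈ c.A := hRA _ (by
      rw [show r * s * r⁻¹ * s⁻¹ = r * (s * r⁻¹ * s⁻¹) by group]
      exact mul_mem hr (hRn s (c.S_le_norm_A hs) _ (inv_mem hr))) (mul_mem hs' (inv_mem hs))
    have := hA'.2
    rw [c.X_mul hs' (inv_mem hs), c.X_inv hs, ((c.scal (hRS hr)).1 s hs).1] at this
    simp only [s, X_pt, mul_one] at this
    exact field_eq_of_add c.hF this
  -- an element of order three in `R`
  have hR24 : 3 ∣ Nat.card R := by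
    rw [card_map_of_injective NA.subtype_injective]
    obtain ⟨j, hj⟩ := hidx
    have := R₀.card_mul_index
    rw [hNAc] at this
    have h : R₀.index * Nat.card R₀ = R₀.index * (24 * j) := by
      calc R₀.index * Nat.card R₀ = 2880 := by rw [mul_comm]; exact this
        _ = 24 * (R₀.index * j) := by rw [← hj]
        _ = _ := by ring
    have hpos : 0 < R₀.index := Nat.pos_of_ne_zero R₀.index_ne_zero_of_finite
    exact ⟨8 * j, by rw [Nat.eq_of_mul_eq_mul_left hpos h]; ring⟩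
  obtain ⟨⟨k, hk⟩, hk3⟩ := exists_prime_orderOf_dvd_card' 3 hR24
  rw [Subgroup.orderOf_mk] at hk3
  have hk1 : k ∉ (S : Subgroup G) := fun h => by
    obtain ⟨i, hi⟩ := (IsPGroup.iff_orderOf.1 S.2) ⟨k, h⟩
    rw [Subgroup.orderOf_mk, hk3] at hi
    rcases i with - | i
    · norm_num at hi
    · rw [pow_succ] at hi; omega
  have hkb : c.sb k ≠ 1 := fun e => hk1 (c.mem_S_of_sa hth (hRS hk) (hsaR k hk) e)
  -- the class of `k` in the normaliser of `A` lies in `R` outside `A`
  have hcent : 90 ≤ Nat.card (centralizer ({k} : Set G)) := by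
    let f : ↥R →* Fˣ := (MonoidHom.snd Fˣ Fˣ).comp (c.scHom.comp (inclusion hRS))
    have hfk : f.ker = c.A.subgroupOf R := by
      ext r
      rw [MonoidHom.mem_ker, mem_subgroupOf]
      refine ⟨fun h => hRA r r.2 (c.mem_S_of_sa hth (hRS r.2) (hsaR r r.2) (congrArg Units.val h)),
        fun h => Units.ext (c.sa_of_mem h.1).2⟩
    have hAR : c.A ≤ R := by
      intro a ha
      refine ⟨⟨a, hle (le_normalizer ha.1)⟩, fun g => ?_, rfl⟩
      show (g : G) * a * (g : G)⁻¹ ∈ NS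
      exact le_normalizer (conj_mem_of_norm g.2 ha).1
    have hR : Nat.card R ≤ 48 := by
      rw [← f.ker.card_mul_index, index_ker, hfk, Nat.card_congr (subgroupOfEquivOfLe hAR).toEquiv, c.card_A]
      have := Nat.le_of_dvd (by rw [c.card_units]; norm_num) f.range.card_subgroup_dvd_card
      rw [c.card_units] at this
      omega
    have hkA : k ∉ c.A := fun h => hk1 h.1
    set kN : NA := ⟨k, hle (hRS hk)⟩
    have h := Invol.card_conj_mul_centralizer kN
    rw [hNAc] at h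
    have hcls : Nat.card {y : NA // IsConj kN y} ≤ 32 := by
      have hsub : Nat.card {y : NA // IsConj kN y} ≤ ((R : Set G) \ (c.A : Set G)).ncard := by
        rw [← Nat.card_coe_set_eq]
        refine Nat.card_le_card_of_injective (fun y => ⟨((y : NA) : G), ?_⟩) fun a b e =>
          Subtype.ext (Subtype.ext (congrArg Subtype.val e :))
        obtain ⟨⟨g, hg⟩, e⟩ := isConj_iff.1 y.2
        rw [← e]
        exact ⟨hRn g hg k hk, fun h => hkA ((mem_normalizer_iff.1 hg k).2 h)⟩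
      rw [Set.ncard_sdiff (fun a ha => hAR ha), ← Nat.card_coe_set_eq, ← Nat.card_coe_set_eq,
        SetLike.coe_sort_coe, SetLike.coe_sort_coe, c.card_A] at hsub
      omega
    have hle' : Nat.card (centralizer ({kN} : Set NA)) ≤ Nat.card (centralizer ({k} : Set G)) := by
      refine Nat.card_le_card_of_injective (fun g => ⟨((g : NA) : G), mem_centralizer_singleton_iff.2
        (congrArg Subtype.val (mem_centralizer_singleton_iff.1 g.2) :)⟩) fun a b e =>
          Subtype.ext (Subtype.ext (congrArg Subtype.val e :))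
    have := Nat.mul_le_mul hcls hle'
    rw [h] at this
    omega
  -- a commuting element moving `X`
  obtain ⟨E, hE⟩ := (IsPGroup.of_card (p := 3) (n := 1)
    (by rw [Nat.card_zpowers, Subgroup.orderOf_mk, hk3, pow_one]) :
      IsPGroup 3 (zpowers (⟨k, hRS hk⟩ : NS))).exists_le_sylow
  have hE9 : Nat.card (E : Subgroup NS) = 3 ^ 2 := by
    rw [E.card_eq_multiplicity, hNSc]
    congr 1
    rw [show (576 : ℕ) = 3 ^ 2 * 64 by norm_num, Nat.factorization_mul (by norm_num) (by norm_num),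
      Finsupp.add_apply, Nat.Prime.factorization_pow Nat.prime_three, Finsupp.single_eq_same,
      Nat.factorization_eq_zero_of_not_dvd (by norm_num : ¬ 3 ∣ 64)]
  let g : ↥(E : Subgroup NS) →* Fˣ × Fˣ := c.scHom.comp (E : Subgroup NS).subtype
  have hginj : Function.Injective g := by
    rw [injective_iff_map_eq_one]
    intro x hx
    have hxS : ((x : NS) : G) ∈ (S : Subgroup G) := by
      have : (x : NS) ∈ c.scHom.ker := hx
      rwa [c.ker_scHom hth, mem_subgroupOf] at this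
    refine Subtype.ext (Subtype.ext (orderOf_eq_one_iff.1 (Nat.Coprime.eq_one_of_dvd (m := 3 ^ 2) ?_ ?_)))
    · refine Nat.Coprime.coprime_dvd_left (?_ : orderOf ((x : NS) : G) ∣ 64) (by norm_num)
      exact c.card_S ▸ Subgroup.orderOf_dvd_natCard _ hxS
    · rw [← hE9, orderOf_coe, orderOf_coe]; exact orderOf_dvd_natCard x
  have hbij := (Nat.bijective_iff_injective_and_card g).2
    ⟨hginj, by rw [hE9, Nat.card_prod, c.card_units]; norm_num⟩
  obtain ⟨w, w0, w1⟩ := exists_omega c.hF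
  obtain ⟨t, ht⟩ := hbij.2 (Units.mk0 w w0, (Units.mk0 w w0)⁻¹)
  haveI : IsMulCommutative (E : Subgroup NS) :=
    ⟨⟨(IsPGroup.commGroupOfCardEqPrimeSq (p := 3) hE9).mul_comm⟩⟩
  have hkE := hE (mem_zpowers (⟨k, hRS hk⟩ : NS))
  have hta : c.sa ((t : NS) : G) = w := congrArg (fun p : Fˣ × Fˣ => (p.1 : F)) ht
  have htb : c.sb ((t : NS) : G) = ((Units.mk0 w w0)⁻¹ : Fˣ) := congrArg (fun p : Fˣ × Fˣ => (p.2 : F)) ht
  refine ⟨((t : NS) : G), k, ?_, hk3, ?_, (t : NS).2, hRS hk, hta ▸ w1, ?_, hsaR k hk, hkb, hcent⟩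
  · rw [orderOf_coe, orderOf_coe]
    refine orderOf_eq_prime (hbij.1 ?_) fun e => w1 ?_
    · rw [map_pow, map_one]
      exact Prod.ext (c.cube_eq_one _) (c.cube_eq_one _)
    · rw [e, map_one] at ht
      exact (congrArg (fun p : Fˣ × Fˣ => (p.1 : F)) ht).symm
  · exact congrArg (fun x : ↥(E : Subgroup NS) => ((x : NS) : G))
      (mul_comm' t (⟨⟨k, hRS hk⟩, hkE⟩ : ↥(E : Subgroup NS)))
  · rw [hta, htb, Units.val_inv_eq_inv_val, Units.val_mk0, mul_inv_cancel₀ w0]

end Trivial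

end Crd

end Cfsg.Lib.Syl34
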