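import Cfsg.Agent.Lib.Syl34.SpreadFacts
import Cfsg.Agent.Lib.Syl34.BothTransfer
import Cfsg.Agent.Lib.Syl34.LData
import Cfsg.Agent.Lib.Syl34.Formula
import Cfsg.Agent.S0213
import Cfsg.Agent.S1225

/-!
# One spread and one unspread normaliser: local structure and the strongly embedded case
-/

set_option autoImplicit false
set_option linter.style.haveILetI false
set_option linter.unusedSectionVars false

namespace Cfsg.Lib.Syl34

open Subgroup Cfsg Cfsg.Lib

universe u

variable {G : Type u} [Group G] [Finite G] {F : Type*} [Field F] [Fintype F]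

/-- A four-group with trivial signalizers is normal or the group is `A₅`. -/
theorem FourData.normal_or_a5 {L : Type u} [Group L] [Finite L] {V : Sylow 2 L} (h : FourData V)
    (hO : oddCore L = ⊥) (hth : ∀ v ∈ (V : Subgroup L), v ≠ 1 → th v = ⊥) :
    (V : Subgroup L).Normal ∨ Nonempty (L ≃* alternatingGroup (Fin 5)) := by
  by_cases hn : (V : Subgroup L).Normal
  · exact Or.inl hn
  right
  have hC : ∀ v ∈ (V : Subgroup L), v ≠ 1 → centralizer ({v} : Set L) ≤ (V : Subgroup L) := fun v hv h1 g hg => by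
    obtain ⟨o, ho, x, hx, rfl⟩ := h.cent v hv h1 g (mem_centralizer_singleton_iff.1 hg)
    rw [hth v hv h1, mem_bot] at ho
    rwa [ho, one_mul]
  have h60 : Nat.card L = 60 := (four_cit V h.card h.sq hC).resolve_left hn
  obtain ⟨N, hNn, -, hiso⟩ := h.exists_normal hO hn
  rcases hiso with ⟨⟨e⟩⟩ | ⟨K, hKi, hKt, hodd, h7, ⟨e⟩⟩
  · exact ⟨((MulEquiv.subgroupCongr (Subgroup.eq_top_of_card_eq N (by rw [a5_card e, h60]))).trans
      Subgroup.topEquiv).symm.trans e⟩
  · exfalso
    letI := hKi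
    letI := hKt
    have hN := GW.DGroup.card_psl_two (F := K) (Nat.odd_iff.2 hodd)
    rw [← Nat.card_congr e.toEquiv] at hN
    have hle := Nat.le_of_dvd (by rw [h60]; norm_num) (N.card_subgroup_dvd_card)
    rw [h60] at hle
    have : 7 * 7 * Fintype.card K ≤ Fintype.card K ^ 3 := by
      rw [pow_succ, pow_two]; exact Nat.mul_le_mul_right _ (Nat.mul_le_mul h7 h7)
    omega

namespace Crd

variable {S : Sylow 2 G} {c : Crd (S : Subgroup G) F} (hsp : ¬ c.Norml) (hB : c.swap.Norml)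
include hsp hB

theorem not_isConj_B {z b : G} (hz : z ∈ c.Z) (h1 : z ≠ 1) (hb : b ∈ c.B) (hbZ : b ∉ c.Z) :
    ¬ IsConj z b := by
  intro h
  obtain ⟨g, rfl⟩ := isConj_iff.1 h
  obtain ⟨T, hT⟩ := c.swap.exists_sylow_cent hB (a := g * z * g⁻¹) (by rw [swap_A]; exact hb)
    (by rw [swap_Z]; exact hbZ)
  rw [swap_A] at hT
  haveI : Fact (Nat.Prime 2) := ⟨Nat.prime_two⟩
  have hle : (S : Subgroup G).map (MulAut.conj g).toMonoidHom ≤ centralizer ({g * z * g⁻¹} : Set G) := by
    rintro _ ⟨s, hs, rfl⟩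
    exact mem_centralizer_singleton_iff.2 ((Commute.conj_iff g).2 (c.commute_Z hz hs).symm).eq
  obtain ⟨m, hm⟩ := Invol.exists_conj_mem_sylow T
    (K := ((S : Subgroup G).map (MulAut.conj g).toMonoidHom).subgroupOf (centralizer ({g * z * g⁻¹} : Set G)))
    (S.2.map _).comap_subtype
  have hinj : Function.Injective (fun s : (S : Subgroup G) =>
      (⟨(m : G) * (g * s * g⁻¹) * (m : G)⁻¹, by
        have := hm ⟨g * (s : G) * g⁻¹, hle ⟨s, s.2, rfl⟩⟩ (mem_subgroupOf.2 ⟨s, s.2, rfl⟩)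
        replace this : _ ∈ (T : Subgroup (centralizer ({g * z * g⁻¹} : Set G))) := this
        rw [hT, mem_subgroupOf] at this
        simpa using this⟩ : c.B)) := fun p q e =>
    Subtype.ext (mul_left_cancel (mul_right_cancel (mul_left_cancel (mul_right_cancel (congrArg Subtype.val e :)))))
  have := Nat.card_le_card_of_injective _ hinj
  rw [c.card_S, c.card_B] at this
  omega

/-- The conjugates of `z` in `S` lie in `A`. -/
theorem mem_A_of_conj_Z {z g : G} (hz : z ∈ c.Z) (h1 : z ≠ 1) (hg : g * z * g⁻¹ ∈ (S : Subgroup G)) :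
    g * z * g⁻¹ ∈ c.A := by
  rcases c.mem_A_or_B_of_conj (c.sq_Z hz) hg with h | h
  · exact h
  by_contra hA
  exact not_isConj_B hsp hB hz h1 h (fun hZ => hA (c.Z_le_A hZ)) (isConj_iff.2 ⟨g, rfl⟩)

variable {b : G} (hb : b ∈ c.swap.A) (hbZ : b ∉ c.swap.Z) {B₁ : Subgroup G} (hF : c.swap.IsFix b B₁)
include hb hbZ hF

/-- The signalizers of the quotient at `b` are trivial. -/
theorem th_bot_B (hO : oddCore G = ⊥) {z : centralizer ({b} : Set G)} (hz : (z : G) ∈ c.swap.Z)
    (h1 : (z : G) ≠ 1) :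
    letI := kerL_normal hB hb hbZ hF
    th (QuotientGroup.mk' (kerL b B₁) z) = ⊥ := by
  letI := kerL_normal hB hb hbZ hF
  obtain ⟨V, hV, hVe, hVth⟩ := fourData hB hb hbZ hF
  set π := QuotientGroup.mk' (kerL b B₁) with hπ
  by_cases hn : (V : Subgroup (centralizer ({b} : Set G) ⧸ kerL b B₁)).Normal
  · exact th_bot_of_normal hB hb hbZ hF hz h1 (hVe ▸ hn)
  set R := (c.wZ.subgroupOf (centralizer ({b} : Set G))).map π with hR
  have hle : ∀ w : centralizer ({b} : Set G), (w : G) ∈ c.swap.Z → (w : G) ≠ 1 → th (π w) ≤ R := by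
    intro w hw hw1
    refine (hVth w hw hw1).trans (map_mono fun x hx => mem_subgroupOf.2 ?_)
    exact c.le_wZ (by rwa [swap_Z] at hw) hw1 (mem_subgroupOf.1 hx)
  have hbot : R = ⊥ := by
    refine hV.eq_bot_of_invariant (oddCore_quotient hB hb hbZ hF) hn R ?_ ?_ ?_
    · refine Odd.of_dvd_nat ?_ (card_map_dvd _ _)
      refine (c.bal_of_spread hsp).odd_wZ.of_dvd_nat ?_
      exact card_dvd_of_injective
        (((centralizer ({b} : Set G)).subtype.comp (c.wZ.subgroupOf _).subtype).codRestrict c.wZ fun r => r.2)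
        fun r r' e => Subtype.ext (Subtype.ext (congrArg Subtype.val e :))
    · intro l hl
      obtain ⟨g, rfl⟩ := QuotientGroup.mk'_surjective _ l
      obtain ⟨m, hm, hmg⟩ := exists_norm_of_quotient hB hb hbZ hF (g := g) fun w hw => by
        have h2 := conj_mem_of_norm hl
          (show π w ∈ (V : Subgroup (centralizer ({b} : Set G) ⧸ kerL b B₁)) by rw [hVe]; exact ⟨w, hw, rfl⟩)
        rw [hVe] at h2
        obtain ⟨w', hw', e⟩ := h2
        refine ⟨w', hw', ?_⟩
        rw [← QuotientGroup.eq_one_iff, ← QuotientGroup.mk'_apply, ← hπ, map_mul, map_inv, map_mul, map_mul,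
          map_inv, e, inv_mul_cancel]
      rw [swap_A] at hmg
      have hW := c.normB_le_norm_wZ hmg
      refine mem_norm_of_conj_mem ?_
      rintro _ ⟨r, hr, rfl⟩
      refine ⟨m * g * r * (m * g)⁻¹, mem_subgroupOf.2 ?_, ?_⟩
      · simpa using conj_mem_of_norm hW (mem_subgroupOf.1 hr)
      · rw [map_mul, map_mul, map_inv, map_mul, show π m = 1 from (QuotientGroup.eq_one_iff _).2 hm, one_mul]
    · intro v hv hv1
      rw [hVe] at hv
      obtain ⟨w, hw, rfl⟩ := hv
      exact hle w hw fun e => hv1 (by rw [show w = 1 from Subtype.ext e, map_one])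
  exact le_bot_iff.1 (hbot ▸ hle z hz h1)

/-- The quotient at `b` has normal four-group or is `A₅`. -/
theorem quotient_cases (hO : oddCore G = ⊥) :
    letI := kerL_normal hB hb hbZ hF
    ((c.swap.Z.subgroupOf (centralizer ({b} : Set G))).map (QuotientGroup.mk' (kerL b B₁))).Normal ∨
      Nonempty ((centralizer ({b} : Set G) ⧸ kerL b B₁) ≃* alternatingGroup (Fin 5)) := by
  letI := kerL_normal hB hb hbZ hF
  obtain ⟨V, hV, hVe, -⟩ := fourData hB hb hbZ hF
  have := hV.normal_or_a5 (oddCore_quotient hB hb hbZ hF) fun v hv hv1 => by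
    rw [hVe] at hv
    obtain ⟨w, hw, rfl⟩ := hv
    exact th_bot_B hsp hB hb hbZ hF hO hw fun e => hv1 (by rw [show w = 1 from Subtype.ext e, map_one])
  rwa [hVe] at this

omit hb hbZ hF

theorem bal_swap (hO : oddCore G = ⊥) : c.swap.Bal := by
  intro x hx hx1 R hodd hR hAR
  by_cases hxZ : x ∈ c.swap.Z
  · exact c.swap.le_th_of_norm_A hxZ hx1 hodd hR hAR
  obtain ⟨B₁, hF⟩ := c.swap.exists_fix hB hx hxZ
  exact le_th_of_quotient hB hx hxZ hF (fun z hz hz1 => th_bot_B hsp hB hx hxZ hF hO hz hz1) hodd hR hAR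

include hb hbZ hF

theorem centB_le_norm_wZ (hO : oddCore G = ⊥) :
    centralizer ({b} : Set G) ≤ normalizer (c.wZ : Set G) := by
  intro g hg
  obtain ⟨o, ho, hog⟩ := exists_th_mul_cent hB hb hbZ hF hg
  have ho' : o ∈ normalizer (c.wZ : Set G) := by
    have := c.swap.th_le_wZ hb ho
    rw [swap_wZ] at this
    exact le_normalizer this
  have hbal := bal_swap hsp hB hO
  suffices h : ∀ k : G, (∀ x ∈ B₁, k * x * k⁻¹ = x) → k ∈ normalizer (c.wZ : Set G) by
    simpa using mul_mem (inv_mem ho') (h _ hog)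
  intro k hk
  have hBW : c.swap.A ≤ normalizer (c.wZ : Set G) := by
    rw [swap_A]; exact le_trans le_normalizer c.normB_le_norm_wZ
  have hB₁W : B₁ ≤ normalizer (c.wZ : Set G) := hF.le.trans hBW
  haveI : IsMulCommutative B₁ := ⟨⟨fun p q => Subtype.ext (c.swap.commute_A (hF.le p.2) (hF.le q.2)).eq⟩⟩
  have hnc : ¬ IsCyclic B₁ := fun hc => by
    obtain ⟨q, hq⟩ := hc.exists_generator
    have h4 := orderOf_eq_card_of_forall_mem_zpowers hq
    have hle := orderOf_le_of_pow_eq_one (x := q) (n := 2) two_pos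
      (Subtype.ext (by rw [SubgroupClass.coe_pow, pow_two]; exact c.swap.sq_A (hF.le q.2)))
    have hcard : c.swap.Z ⊔ B₁ = c.swap.A := by
      refine le_antisymm (sup_le c.swap.Z_le_A hF.le) fun x hx => ?_
      obtain ⟨u, hu, z, hz, rfl⟩ := hF.cover x hx
      exact mul_mem (mem_sup_right hu) (mem_sup_left hz)
    have hsurj : Nat.card c.swap.A ≤ Nat.card B₁ * Nat.card c.swap.Z := by
      rw [← Nat.card_prod]
      refine Nat.card_le_card_of_surjective (fun p : B₁ × c.swap.Z =>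
        (⟨(p.1 : G) * p.2, mul_mem (hF.le p.1.2) (c.swap.Z_le_A p.2.2)⟩ : c.swap.A)) fun x => ?_
      obtain ⟨u, hu, z, hz, e⟩ := hF.cover x x.2
      exact ⟨(⟨u, hu⟩, ⟨z, hz⟩), Subtype.ext e⟩
    rw [c.swap.card_A, c.swap.card_Z, ← h4] at hsurj
    omega
  have hcop : (Nat.card B₁).Coprime (Nat.card c.wZ) := by
    obtain ⟨i, hi⟩ := IsPGroup.iff_card.1 (c.swap.A_isPGroup.to_le hF.le)
    rw [hi]
    exact (Nat.coprime_two_left.2 (c.bal_of_spread hsp).odd_wZ).pow_left i
  refine mem_norm_of_conj_mem fun w hw => ?_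
  suffices c.wZ ≤ c.wZ.comap (MulAut.conj k).toMonoidHom from this hw
  refine (Coprime.le_iSup_centralizer_of_not_isCyclic hnc hB₁W hcop).trans (iSup_le ?_)
  rintro ⟨x, hx, hx1⟩ y hy
  have hxA := hF.le hx
  have hyth : y ∈ th x := by
    refine hbal x hxA hx1 (c.wZ ⊓ centralizer ({x} : Set G))
      ((c.bal_of_spread hsp).odd_wZ.of_dvd_nat (card_dvd_of_le inf_le_left)) inf_le_right (fun p hp => ?_) hy
    refine mem_norm_of_conj_mem fun r hr => Subgroup.mem_inf.2
      ⟨conj_mem_of_norm (hBW hp) (Subgroup.mem_inf.1 hr).1, mem_centralizer_singleton_iff.2 ?_⟩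
    have h2 := (Commute.conj_iff p).2
      (show Commute r x from mem_centralizer_singleton_iff.1 (Subgroup.mem_inf.1 hr).2)
    rw [(c.swap.commute_A hp hxA).eq, mul_inv_cancel_right] at h2
    exact h2.eq
  have := th_conj k x hyth
  rw [hk x hx] at this
  have h3 := c.swap.th_le_wZ hxA this
  rwa [swap_wZ] at h3

omit hb hbZ hF

/-- A nontrivial `wZ` would give a strongly embedded subgroup. -/
theorem wZ_eq_bot (hO : oddCore G = ⊥) : c.wZ = ⊥ := by
  by_contra hne
  obtain ⟨z, hz, hz1⟩ := (c.Z).bot_or_exists_ne_one.resolve_left fun e => by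
    have := c.card_Z; rw [e, card_bot] at this; omega
  refine not_isConj_B hsp hB hz hz1 (b := c.pt 1 0 0) (c.pt_mem_B ..) (fun h => by simpa using h.1.2)
    (isConj_of_stronglyEmbedded (c.stronglyEmbedded_wZ (c.bal_of_spread hsp).odd_wZ hne hO ?_ ?_) (c.orderOf_A hz.1 hz1) ?_)
  · intro x hxS hx2
    rcases (c.sq_eq_one_iff hxS).1 (Invol.inv_mul_self hx2) with hx | hx
    · exact c.centA_le_norm_wZ hsp hx (Invol.ne_one hx2)
    by_cases hxZ : x ∈ c.Z
    · exact c.cent_le_norm_wZ hxZ (Invol.ne_one hx2)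
    obtain ⟨B₁, hF⟩ := c.swap.exists_fix hB (a := x) (by rw [swap_A]; exact hx) (by rw [swap_Z]; exact hxZ)
    exact centB_le_norm_wZ hsp hB (by rw [swap_A]; exact hx) (by rw [swap_Z]; exact hxZ) hF hO
  · intro x hxS hx2 g hg
    by_cases hxA : x ∈ c.A
    · have hzx := c.isConj_A hsp hz hz1 hxA (Invol.ne_one hx2)
      obtain ⟨h, hh⟩ := isConj_iff.1 hzx
      have hgA := mem_A_of_conj_Z hsp hB (g := g * h) hz hz1 (by rw [conj_conj, hh]; exact hg)
      rw [conj_conj, hh] at hgA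
      obtain ⟨n, hn, e⟩ := c.exists_norm_conj hxA hgA
      exact ⟨n, c.normA_le_norm_wZ hn, e⟩
    have hxB : x ∈ c.B := ((c.sq_eq_one_iff hxS).1 (Invol.inv_mul_self hx2)).resolve_left hxA
    have hgB : g * x * g⁻¹ ∈ c.B := by
      refine ((c.sq_eq_one_iff hg).1 (by
        rw [show g * x * g⁻¹ * (g * x * g⁻¹) = g * (x * x) * g⁻¹ by group, Invol.inv_mul_self hx2]; group)).resolve_left
        fun hgA => ?_
      have hzx := c.isConj_A hsp hz hz1 hgA fun e => Invol.ne_one hx2 (conj_eq_one_iff.1 e)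
      exact not_isConj_B hsp hB hz hz1 hxB (fun h => hxA (c.Z_le_A h)) (hzx.trans (isConj_iff.2 ⟨g, rfl⟩).symm)
    obtain ⟨n, hn, e⟩ := c.swap.exists_norm_conj (a := x) (g := g) (by rw [swap_A]; exact hxB)
      (by rw [swap_A]; exact hgB)
    rw [swap_A] at hn
    exact ⟨n, c.normB_le_norm_wZ hn, e⟩
  · exact Invol.orderOf_eq_two_of (fun e => one_ne_zero (α := F) (by rw [← X_pt c (1 : F) 0 0, e, c.X_one]))
      (c.sq_B (c.pt_mem_B ..))

end Crd

end Cfsg.Lib.Syl34
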