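import Cfsg.Agent.Lib.Syl34.EndLocal
import Cfsg.Agent.Lib.Syl34.Mixed

/-!
# The centraliser of the element of order three in the simple spread case
-/

set_option autoImplicit false
set_option linter.style.haveILetI false
set_option linter.unusedSectionVars false

namespace Cfsg.Lib.Syl34

open Subgroup Cfsg Cfsg.Lib

universe u

set_option maxRecDepth 100000 in
theorem a5_three : ∀ x : alternatingGroup (Fin 5), x * x * x = 1 → x ≠ 1 →
    (∀ y, x * y = y * x → y = 1 ∨ y = x ∨ y = x * x) ∧ ∃ y, y * y = 1 ∧ y ≠ 1 ∧ y * x * y = x * x := by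
  decide +kernel

/-- A group with a self-centralising Sylow four-group, not normal, has the properties of `A₅` used below. -/
theorem four_three {L : Type u} [Group L] [Finite L] (V : Sylow 2 L) (h4 : Nat.card (V : Subgroup L) = 4)
    (h2 : ∀ v ∈ (V : Subgroup L), v * v = 1)
    (hC : ∀ v ∈ (V : Subgroup L), v ≠ 1 → centralizer ({v} : Set L) ≤ (V : Subgroup L))
    (hn : ¬ (V : Subgroup L).Normal) :
    Nat.card L = 60 ∧ ∀ x : L, x * x * x = 1 → x ≠ 1 →
      (∀ y, x * y = y * x → y = 1 ∨ y = x ∨ y = x * x) ∧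
        ∃ y, y * y = 1 ∧ y ≠ 1 ∧ y * x * y = x * x := by
  haveI : Fact (Nat.Prime 2) := ⟨Nat.prime_two⟩
  haveI : IsMulCommutative (V : Subgroup L) := ⟨⟨fun a b => Subtype.ext (by
    have h := h2 _ (mul_mem a.2 b.2)
    calc (a : L) * b = a * (a * b * (a * b)) * b := by rw [h, mul_one]
      _ = a * a * (b * a) * (b * b) := by group
      _ = b * a := by rw [h2 a a.2, h2 b b.2, one_mul, mul_one])⟩⟩
  have hnc : ¬ IsCyclic (V : Subgroup L) := fun hc => by
    obtain ⟨g, hg⟩ := hc.exists_generator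
    have h := orderOf_eq_card_of_forall_mem_zpowers hg
    have hle := orderOf_le_of_pow_eq_one (x := g) (n := 2) two_pos
      (Subtype.ext (by rw [SubgroupClass.coe_pow, pow_two]; exact h2 g g.2))
    omega
  have hsmall : ∀ v ∈ (V : Subgroup L), v ≠ 1 → ∀ R : Subgroup L, Odd (Nat.card R) →
      R ≤ centralizer ({v} : Set L) → R = ⊥ := fun v hv h1 R hodd hR => by
    refine eq_bot_of_card_eq R (Nat.Coprime.eq_one_of_dvd (Nat.coprime_two_right.2 hodd |>.pow_right 2) ?_)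
    rw [show 2 ^ 2 = Nat.card (V : Subgroup L) by rw [h4]; norm_num]
    exact card_dvd_of_le (hR.trans (hC v hv h1))
  have hO : oddCore L = ⊥ := by
    haveI hOn : (oddCore L).Normal := pPrimeCore_normal 2 L
    have hodd : Odd (Nat.card (oddCore L)) := ZStar.odd_card_oddCore
    have hcop : (Nat.card (V : Subgroup L)).Coprime (Nat.card (oddCore L)) := by
      rw [h4, show (4 : ℕ) = 2 ^ 2 from rfl]
      exact (Nat.coprime_two_left.2 hodd).pow_left 2
    refine le_bot_iff.1 ((Coprime.le_iSup_centralizer_of_not_isCyclic hnc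
      (normalizer_eq_top_iff.2 hOn ▸ le_top) hcop).trans (iSup_le fun v => ?_))
    refine le_bot_iff.2 (hsmall v v.2.1 v.2.2 _ (hodd.of_dvd_nat (card_dvd_of_le inf_le_left)) inf_le_right)
  have hd : FourData V := ⟨h4, h2, fun v hv h1 g hg => ⟨1, one_mem _, g,
    hC v hv h1 (mem_centralizer_singleton_iff.2 hg.eq), one_mul g⟩⟩
  obtain ⟨e⟩ := (hd.normal_or_a5 hO fun v hv h1 =>
    hsmall v hv h1 (th v) (odd_th v) (th_le v)).resolve_left hn
  refine ⟨(Nat.card_congr e.toEquiv).trans (a5_card (MulEquiv.refl _)), fun x h3 h1 => ?_⟩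
  obtain ⟨hcent, y, hy2, hy1, hyx⟩ := a5_three (e x) (by rw [← map_mul, ← map_mul, h3, map_one])
    fun h => h1 (e.injective (h.trans (map_one e).symm))
  refine ⟨fun y' hy' => ?_, e.symm y, ?_, fun h => hy1 ?_, e.injective ?_⟩
  · rcases hcent (e y') (by rw [← map_mul, hy', map_mul]) with h | h | h
    · exact Or.inl (e.injective (h.trans (map_one e).symm))
    · exact Or.inr (Or.inl (e.injective h))
    · exact Or.inr (Or.inr (e.injective (h.trans (map_mul e x x).symm)))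
  · rw [← map_mul, hy2, map_one]
  · rw [← e.apply_symm_apply y, h, map_one]
  · rw [map_mul, map_mul, e.apply_symm_apply, hyx, map_mul]

variable {G : Type u} [Group G] [Finite G] {F : Type*} [Field F] [Fintype F]

namespace Crd

variable {S : Sylow 2 G} (c : Crd (S : Subgroup G) F) (hth : ∀ z ∈ c.Z, z ≠ 1 → th z = ⊥)
  {t : G} (ht : t ∈ normalizer ((S : Subgroup G) : Set G)) (ht3 : orderOf t = 3) (hta : c.sa t ≠ 1)
  (htab : c.sa t * c.sb t = 1)

theorem eq_pow_mod_three {x : G} (hx : x * x * x = 1) (i : ℕ) : x ^ i = x ^ (i % 3) :=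
  pow_eq_pow_mod i (by rw [pow_succ, pow_two]; exact hx)

include ht hta htab in
theorem mem_Z_of_S_commute {s : G} (hs : s ∈ (S : Subgroup G)) (hst : Commute s t) : s ∈ c.Z := by
  have h := (c.scal ht).1 s hs
  rw [hst.symm.eq, mul_inv_cancel_right] at h
  have hb : c.sb t ≠ 1 := fun e => hta (by rwa [e, mul_one] at htab)
  refine c.mem_Z.2 ⟨hs, ?_, ?_⟩
  · by_contra hx
    exact hta ((mul_eq_right₀ hx).1 h.1.symm)
  · by_contra hy
    exact hb ((mul_eq_right₀ hy).1 h.2.symm)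

include ht htab in
theorem commute_tau_Z {z : G} (hz : z ∈ c.Z) : Commute t z := c.commute_Z_of_sa_mul_sb ht hz htab

include hth ht hta htab in
theorem mem_Z_of_two_commute {g z : G} (hz : z ∈ c.Z) (h1 : z ≠ 1) (hgz : Commute g z) (hgt : Commute g t)
    {i : ℕ} (hi : orderOf g ∣ 2 ^ i) : g ∈ c.Z :=
  c.mem_Z_of_S_commute ht hta htab (mem_sylow_of_pow
    (c.cent_le_normS hz h1 (hth z hz h1) (mem_centralizer_singleton_iff.2 hgz.eq)) hi) hgt

include hth ht hta htab in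
theorem exists_pow_tau {g z : G} (hz : z ∈ c.Z) (h1 : z ≠ 1) (hgz : Commute g z) (hgt : Commute g t) :
    ∃ i, g * t ^ i ∈ c.Z := by
  have hgS := c.cent_le_normS hz h1 (hth z hz h1) (mem_centralizer_singleton_iff.2 hgz.eq)
  have hab := c.sa_mul_sb_of_commute hgS hz h1 hgz
  have ht0 := (c.scal ht).2.2.1
  have hg0 := (c.scal hgS).2.2.1
  obtain ⟨i, hi⟩ : ∃ i : ℕ, c.sa g * c.sa t ^ i = 1 := by
    rcases field_cases c.hF ht0 hta (c.sa g) with h | h | h | h
    · exact absurd h hg0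
    · exact ⟨0, by rw [h, pow_zero, one_mul]⟩
    · exact ⟨2, by rw [h, pow_two, ← mul_assoc]; exact field_cube c.hF ht0⟩
    · refine ⟨1, ?_⟩
      rw [h, pow_one]
      linear_combination field_quad c.hF ht0 hta - field_two c.hF (1 : F)
  refine ⟨i, c.mem_Z_of_S_commute ht hta htab (c.mem_S_of_sa hth (mul_mem hgS (pow_mem ht i)) ?_ ?_)
    (hgt.mul_left ((Commute.refl t).pow_left i))⟩
  · rw [(c.sa_mul hgS (pow_mem ht i)).1, (c.sa_pow ht i).1, hi]
  · rw [(c.sa_mul hgS (pow_mem ht i)).2, (c.sa_pow ht i).2]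
    have h : c.sa g * c.sb g * (c.sa t * c.sb t) ^ i = 1 := by rw [hab, htab, one_pow, one_mul]
    calc c.sb g * c.sb t ^ i = c.sa g * c.sa t ^ i * (c.sb g * c.sb t ^ i) := by rw [hi, one_mul]
      _ = 1 := by rw [← h, mul_pow]; ring

include hth ht ht3 hta htab in
/-- The structure of the centraliser of `t`. -/
theorem cent_tau_structure {k : G} (hkN : k ∈ normalizer ((S : Subgroup G) : Set G)) (hk3 : orderOf k = 3)
    (htk : Commute t k) (hka : c.sa k = 1) (h90 : 90 ≤ Nat.card (centralizer ({t} : Set G))) :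
    Nat.card (centralizer ({t} : Set G)) = 180 ∧
      (∀ R : Subgroup G, IsPGroup 2 R → R ≤ centralizer ({t} : Set G) →
        ∃ q, Commute q t ∧ ∀ w ∈ R, q * w * q⁻¹ ∈ c.Z) ∧
      (∀ x, Commute x t → Commute x k → ∃ a b : ℕ, a < 3 ∧ b < 3 ∧ x = k ^ a * t ^ b) ∧
      ∃ u, orderOf u = 2 ∧ Commute u t ∧ ∃ j < 3, u * k * u⁻¹ = k * k * t ^ j := by
  classical
  haveI : Fact (Nat.Prime 2) := ⟨Nat.prime_two⟩
  set Q := centralizer ({t} : Set G) with hQ
  have hcomm : ∀ x : Q, Commute (x : G) t := fun x => mem_centralizer_singleton_iff.1 x.2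
  set tQ : Q := ⟨t, mem_centralizer_singleton_iff.2 rfl⟩ with htQ
  have hcen : ∀ x : Q, Commute x tQ := fun x => Subtype.ext (hcomm x).eq
  have htpow : ∀ i : ℕ, (t ^ i) ^ 2 = 1 → t ^ i = 1 := fun i h => by
    have h3 : t ^ 3 = 1 := ht3 ▸ pow_orderOf_eq_one t
    calc t ^ i = (t ^ i) ^ 3 := by rw [pow_succ, h, one_mul]
      _ = 1 := by rw [← pow_mul, mul_comm, pow_mul, h3, one_pow]
  have hTmem : ∀ x : Q, x ∈ zpowers tQ → ∃ i : ℕ, t ^ i = (x : G) := fun x hx => by
    obtain ⟨i, hi⟩ := (IsOfFinOrder.mem_powers_iff_mem_zpowers (isOfFinOrder_of_finite tQ)).2 hx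
    exact ⟨i, congrArg Subtype.val hi⟩
  set T : Subgroup Q := zpowers tQ
  haveI hTn : T.Normal := ⟨fun x hx g => by
    obtain ⟨i, rfl⟩ := mem_zpowers_iff.1 hx
    rw [((hcen g).zpow_right i).eq, mul_inv_cancel_right]; exact hx⟩
  have hTc : Nat.card T = 3 := by rw [Nat.card_zpowers, Subgroup.orderOf_mk, ht3]
  have hZQ : c.Z ≤ Q := fun z hz => mem_centralizer_singleton_iff.2 (c.commute_tau_Z ht htab hz).eq.symm
  obtain ⟨z, hz, h1⟩ := (c.Z).bot_or_exists_ne_one.resolve_left fun e => by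
    have := c.card_Z; rw [e, card_bot] at this; omega
  have hZp : IsPGroup 2 (c.Z.subgroupOf Q) :=
    IsPGroup.of_card (n := 2) (by rw [Nat.card_congr (subgroupOfEquivOfLe hZQ).toEquiv, c.card_Z]; norm_num)
  let VQ : Sylow 2 Q :=
    { toSubgroup := c.Z.subgroupOf Q
      isPGroup' := hZp
      is_maximal' := fun {R} hR hle => by
        refine le_antisymm (fun r hr => ?_) hle
        haveI : Nontrivial R := ⟨⟨⟨⟨z, hZQ hz⟩, hle (mem_subgroupOf.2 hz)⟩, 1, fun e =>
          h1 (congrArg (fun x : R => ((x : Q) : G)) e)⟩⟩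
        haveI := hR.center_nontrivial
        obtain ⟨w, hw1⟩ := exists_ne (1 : center R)
        have hpow : ∀ x : R, ∃ i, orderOf ((x : Q) : G) = 2 ^ i := fun x => by
          obtain ⟨i, hi⟩ := (IsPGroup.iff_orderOf.1 hR) x
          exact ⟨i, by rw [orderOf_coe, orderOf_coe, hi]⟩
        have hwz : Commute (((w : R) : Q) : G) z :=
          congrArg (fun x : R => ((x : Q) : G))
            (mem_center_iff.1 w.2 ⟨⟨z, hZQ hz⟩, hle (mem_subgroupOf.2 hz)⟩).symm
        obtain ⟨i, hi⟩ := hpow (w : R)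
        have hwZ : (((w : R) : Q) : G) ∈ c.Z :=
          c.mem_Z_of_two_commute hth ht hta htab hz h1 hwz (hcomm _) (dvd_of_eq hi)
        have hw1' : (((w : R) : Q) : G) ≠ 1 := fun e => hw1 (Subtype.ext (Subtype.ext (Subtype.ext e)))
        have hrw : Commute (r : G) (((w : R) : Q) : G) :=
          congrArg (fun x : R => ((x : Q) : G)) (mem_center_iff.1 w.2 ⟨r, hr⟩)
        obtain ⟨j, hj⟩ := hpow ⟨r, hr⟩
        exact mem_subgroupOf.2
          (c.mem_Z_of_two_commute hth ht hta htab hwZ hw1' hrw (hcomm r) (dvd_of_eq hj)) }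
  have hsyl : ∀ R : Subgroup G, IsPGroup 2 R → R ≤ Q → ∃ q, Commute q t ∧ ∀ w ∈ R, q * w * q⁻¹ ∈ c.Z := by
    intro R hR hRQ
    obtain ⟨q, hq⟩ := Invol.exists_conj_mem_sylow VQ (hR.of_equiv (subgroupOfEquivOfLe hRQ).symm)
    exact ⟨q, hcomm q, fun w hw => mem_subgroupOf.1 (hq ⟨w, hRQ hw⟩ (mem_subgroupOf.2 hw))⟩
  set π := QuotientGroup.mk' T with hπ
  have hπ0 : ∀ x : Q, π x = 1 ↔ x ∈ T := fun x => QuotientGroup.eq_one_iff x
  let V : Sylow 2 (Q ⧸ T) := VQ.mapSurjective (f := π) (QuotientGroup.mk'_surjective T)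
  have hVmem : ∀ v, v ∈ (V : Subgroup (Q ⧸ T)) ↔ ∃ w : Q, (w : G) ∈ c.Z ∧ π w = v := fun v => Iff.rfl
  have hfix : ∀ w w' : Q, (w : G) ∈ c.Z → (w' : G) * (w' : G) = 1 → π w' = π w → (w' : G) = w := by
    intro w w' hw hw' e
    have hT' : w⁻¹ * w' ∈ T := (hπ0 _).1 (by rw [map_mul, map_inv, e, inv_mul_cancel])
    obtain ⟨i, hi⟩ := hTmem _ hT'
    have hww : (w' : G) = (w : G) * t ^ i := by
      rw [hi, Subgroup.coe_mul, InvMemClass.coe_inv, mul_inv_cancel_left]
    have hcw : Commute (w : G) (t ^ i) := (hcomm w).pow_right i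
    have h2 : (t ^ i) ^ 2 = 1 := by
      rw [hww, hcw.symm.mul_mul_mul_comm, c.sq_Z hw, one_mul, ← pow_two] at hw'
      exact hw'
    rw [hww, htpow i h2, mul_one]
  have hV4 : Nat.card (V : Subgroup (Q ⧸ T)) = 4 := by
    rw [← c.card_Z, ← Nat.card_congr (subgroupOfEquivOfLe hZQ).toEquiv]
    exact (Nat.card_congr (Equiv.ofBijective
      (fun w : (c.Z.subgroupOf Q) => (⟨π w, (hVmem _).2 ⟨w, w.2, rfl⟩⟩ : (V : Subgroup (Q ⧸ T))))
      ⟨fun a b e => Subtype.ext (Subtype.ext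
        (hfix b a b.2 (c.sq_Z a.2) (congrArg Subtype.val e :))), fun v => by
        obtain ⟨w, hw, e⟩ := (hVmem _).1 v.2
        exact ⟨⟨w, hw⟩, Subtype.ext e⟩⟩)).symm
  have hV2 : ∀ v ∈ (V : Subgroup (Q ⧸ T)), v * v = 1 := fun v hv => by
    obtain ⟨w, hw, rfl⟩ := (hVmem v).1 hv
    rw [← map_mul, show w * w = 1 from Subtype.ext (c.sq_Z hw), map_one]
  have hC : ∀ v ∈ (V : Subgroup (Q ⧸ T)), v ≠ 1 → centralizer ({v} : Set (Q ⧸ T)) ≤ V := by
    intro v hv hv1 y hy
    obtain ⟨w, hw, rfl⟩ := (hVmem v).1 hv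
    obtain ⟨x, rfl⟩ := QuotientGroup.mk'_surjective T y
    have hw1 : (w : G) ≠ 1 := fun e => hv1 (by rw [show w = 1 from Subtype.ext e, map_one])
    have hconj := hfix w (x * w * x⁻¹) hw (by
      have : ((x : G) * w * (x : G)⁻¹) * ((x : G) * w * (x : G)⁻¹) = (x : G) * ((w : G) * w) * (x : G)⁻¹ := by
        group
      rw [Subgroup.coe_mul, Subgroup.coe_mul, InvMemClass.coe_inv, this, c.sq_Z hw, mul_one, mul_inv_cancel])
      (by rw [map_mul, map_mul, map_inv, mem_centralizer_singleton_iff.1 hy, mul_inv_cancel_right])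
    obtain ⟨i, hi⟩ := c.exists_pow_tau hth ht hta htab hw hw1 (mul_inv_eq_iff_eq_mul.1 hconj) (hcomm x)
    refine (hVmem _).2 ⟨x * tQ ^ i, hi, ?_⟩
    rw [map_mul, show π (tQ ^ i) = 1 from (hπ0 _).2 (pow_mem (mem_zpowers tQ) i), mul_one]
  have hnn : ¬ (V : Subgroup (Q ⧸ T)).Normal := by
    intro hVn
    set zQ : Q := ⟨z, hZQ hz⟩
    have hcl : Nat.card {y : Q // IsConj zQ y} ≤ 3 := by
      have hle : Nat.card {y : Q // IsConj zQ y} ≤ ((c.Z : Set G) \ {1}).ncard := by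
        rw [← Nat.card_coe_set_eq]
        refine Nat.card_le_card_of_injective (fun y => ⟨((y : Q) : G), ?_⟩) fun a b e =>
          Subtype.ext (Subtype.ext (congrArg Subtype.val e :))
        obtain ⟨g, hg⟩ := isConj_iff.1 y.2
        have hmem := hVn.conj_mem _ ((hVmem _).2 ⟨zQ, hz, rfl⟩) (π g)
        rw [← map_inv, ← map_mul, ← map_mul, hg] at hmem
        obtain ⟨w, hw, e⟩ := (hVmem _).1 hmem
        have hyz : ((y : Q) : G) = (g : G) * z * (g : G)⁻¹ := by rw [← hg]; rfl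
        have hsq : ((y : Q) : G) * ((y : Q) : G) = 1 := by
          rw [hyz, show (g : G) * z * (g : G)⁻¹ * ((g : G) * z * (g : G)⁻¹) = (g : G) * (z * z) * (g : G)⁻¹ by
            group, c.sq_Z hz, mul_one, mul_inv_cancel]
        exact ⟨(hfix w y hw hsq e.symm) ▸ hw, fun e' => h1 (conj_eq_one_iff.1 (hyz.symm.trans e'))⟩
      rw [Set.ncard_sdiff_singleton_of_mem (one_mem c.Z), ← Nat.card_coe_set_eq, SetLike.coe_sort_coe,
        c.card_Z] at hle
      exact hle
    have hce : Nat.card (centralizer ({zQ} : Set Q)) ≤ 12 := by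
      refine (Nat.card_le_card_of_surjective (α := (c.Z.subgroupOf Q) × T)
        (fun p => (⟨(p.1 : Q) * p.2, mem_centralizer_singleton_iff.2 ?_⟩ : centralizer ({zQ} : Set Q)))
        fun x => ?_).trans ?_
      · obtain ⟨j, hj⟩ := hTmem _ p.2.2
        refine Subtype.ext ((c.commute_Z hz (c.Z_le p.1.2)).symm.mul_left ?_).eq
        rw [← hj]
        exact (c.commute_tau_Z ht htab hz).pow_left j
      · obtain ⟨i, hi⟩ := c.exists_pow_tau hth ht hta htab hz h1
          (congrArg Subtype.val (mem_centralizer_singleton_iff.1 x.2) :) (hcomm x)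
        exact ⟨⟨⟨(x : Q) * tQ ^ i, mem_subgroupOf.2 hi⟩, ⟨(tQ ^ i)⁻¹, inv_mem (pow_mem (mem_zpowers tQ) i)⟩⟩,
          Subtype.ext (mul_inv_cancel_right _ _)⟩
      · rw [Nat.card_prod, Nat.card_congr (subgroupOfEquivOfLe hZQ).toEquiv, c.card_Z, hTc]
    have h := Invol.card_conj_mul_centralizer zQ
    have := Nat.mul_le_mul hcl hce
    omega
  obtain ⟨h60, ha5⟩ := four_three V hV4 hV2 hC hnn
  refine ⟨by rw [T.card_eq_card_quotient_mul_card_subgroup, hTc, h60], hsyl, ?_⟩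
  set kQ : Q := ⟨k, mem_centralizer_singleton_iff.2 htk.symm.eq⟩ with hkQ
  have hk3' : k * k * k = 1 := by
    rw [show k * k * k = k ^ 3 by rw [pow_succ, pow_two], ← hk3]; exact pow_orderOf_eq_one k
  have hkne : π kQ ≠ 1 := by
    intro e
    obtain ⟨i, hi⟩ := hTmem _ ((hπ0 _).1 e)
    have hi' : t ^ i = k := hi
    have h := (c.sa_pow ht i).1
    rw [hi', hka] at h
    have h3 : 3 ∣ i := by
      by_contra hne
      have hm : i % 3 = 1 ∨ i % 3 = 2 := by omega
      have hc3 : c.sa t ^ 3 = 1 := by rw [pow_succ, pow_two]; exact field_cube c.hF (c.scal ht).2.2.1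
      rw [pow_eq_pow_mod i hc3] at h
      rcases hm with hm | hm <;> rw [hm] at h
      · exact hta (by rw [pow_one] at h; exact h.symm)
      · refine hta ?_
        rw [pow_succ, ← h, one_mul] at hc3
        exact hc3
    obtain ⟨j, rfl⟩ := h3
    rw [pow_mul, ← ht3, pow_orderOf_eq_one, one_pow] at hi'
    rw [← hi', orderOf_one] at hk3
    norm_num at hk3
  obtain ⟨hkc, ybar, hy2, hy1, hyk⟩ :=
    ha5 (π kQ) (by rw [← map_mul, ← map_mul, show kQ * kQ * kQ = 1 from Subtype.ext hk3', map_one]) hkne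
  have ht3' : t * t * t = 1 := by
    rw [show t * t * t = t ^ 3 by rw [pow_succ, pow_two], ← ht3]; exact pow_orderOf_eq_one t
  refine ⟨fun x hxt hxk => ?_, ?_⟩
  · set xQ : Q := ⟨x, mem_centralizer_singleton_iff.2 hxt.eq⟩
    have hdiv : ∀ a : ℕ, a < 3 → π xQ = π (kQ ^ a) → ∃ a b : ℕ, a < 3 ∧ b < 3 ∧ x = k ^ a * t ^ b := by
      intro a ha e
      obtain ⟨i, hi⟩ := hTmem ((kQ ^ a)⁻¹ * xQ) ((hπ0 _).1 (by rw [map_mul, map_inv, e, inv_mul_cancel]))
      refine ⟨a, i % 3, ha, Nat.mod_lt _ (by norm_num), ?_⟩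
      rw [← eq_pow_mod_three ht3' i, hi]
      simp [xQ, kQ]
    rcases hkc (π xQ) (by
      rw [← map_mul, ← map_mul, show kQ * xQ = xQ * kQ from Subtype.ext hxk.eq.symm]) with e | e | e
    · exact hdiv 0 (by norm_num) (by rw [e, pow_zero, map_one])
    · exact hdiv 1 (by norm_num) (by rw [e, pow_one])
    · exact hdiv 2 (by norm_num) (by rw [e, pow_two, map_mul])
  · obtain ⟨w, rfl⟩ := QuotientGroup.mk'_surjective T ybar
    obtain ⟨i, hi⟩ := hTmem _ ((hπ0 (w * w)).1 (by rw [map_mul]; exact hy2))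
    set u : Q := w * w * w with hu
    have hπu : π u = π w := by rw [hu, map_mul, map_mul, hy2, one_mul]
    have hu2 : u * u = 1 := by
      refine Subtype.ext ?_
      rw [show u * u = (w * w) * (w * w) * (w * w) by rw [hu]; group, Subgroup.coe_mul, Subgroup.coe_mul, ← hi,
        ← pow_add, ← pow_add, show i + i + i = 3 * i by ring, pow_mul, ← ht3, pow_orderOf_eq_one, one_pow]
      rfl
    have hu1 : (u : G) ≠ 1 := fun e => hy1 (by rw [← hπu, show u = 1 from Subtype.ext e, map_one])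
    haveI : Fact (Nat.Prime 2) := ⟨Nat.prime_two⟩
    refine ⟨u, orderOf_eq_prime (by rw [pow_two]; exact congrArg Subtype.val hu2) hu1, hcomm u, ?_⟩
    have e : π (u * kQ * u⁻¹) = π (kQ * kQ) := by
      rw [inv_eq_of_mul_eq_one_right hu2, map_mul, map_mul, hπu, hyk, map_mul]
    obtain ⟨j, hj⟩ := hTmem ((kQ * kQ)⁻¹ * (u * kQ * u⁻¹)) ((hπ0 _).1 (by
      rw [map_mul, map_inv, e, inv_mul_cancel]))
    refine ⟨j % 3, Nat.mod_lt _ (by norm_num), ?_⟩
    rw [← eq_pow_mod_three ht3' j, hj]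
    simp [kQ, mul_assoc]

end Crd

end Cfsg.Lib.Syl34
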