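import Cfsg.Agent.Lib.Syl34.Th
import Cfsg.Agent.Lib.Syl34.FourCIT
import Cfsg.Agent.Lib.StrongEmb.Core
import Cfsg.Agent.Lib.GW.ConsumersOvergroup
import Cfsg.Agent.Lib.GW.DGroupDihedral
import Cfsg.Agent.Lib.Solv.KW.Basic
import Cfsg.Agent.Lib.ClassSizePSL.Values
import Cfsg.Agent.S3188
import Cfsg.Agent.S0252
import Cfsg.Agent.S0253

/-!
# Groups with a Sylow four-group and 2-nilpotent involution centralisers

A count of the pairs of involutions with product of odd order, and the vanishing of an odd subgroup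
invariant under the normaliser of the four-group.
-/

set_option autoImplicit false
set_option linter.style.haveILetI false
set_option linter.unusedSectionVars false

namespace Cfsg.Lib.Syl34

open Subgroup Cfsg Cfsg.Lib

universe u

variable {L : Type u} [Group L] [Finite L]

/-- A Sylow four-group, each involution of which has centraliser its signalizer times the four-group. -/
structure FourData (V : Sylow 2 L) : Prop where
  card : Nat.card (V : Subgroup L) = 4
  sq : ∀ v ∈ (V : Subgroup L), v * v = 1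
  cent : ∀ v ∈ (V : Subgroup L), v ≠ 1 → ∀ g, Commute g v →
    ∃ o ∈ th v, ∃ x ∈ (V : Subgroup L), o * x = g

/-- The involutions commuting with `x`. -/
abbrev invCent (x : L) : Set L := {y | orderOf y = 2 ∧ Commute y x}

/-- The involutions other than `x` whose product with `x` has even order. -/
abbrev badSet (x : L) : Set L := {y | orderOf y = 2 ∧ y ≠ x ∧ Even (orderOf (x * y))}

/-- The ordered pairs of involutions with product of odd order. -/
abbrev oddPairs (L : Type u) [Group L] : Set (L × L) :=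
  {p | orderOf p.1 = 2 ∧ orderOf p.2 = 2 ∧ Odd (orderOf (p.1 * p.2))}

theorem badSet_ncard_le {x : L} (hx : orderOf x = 2) {r : ℕ}
    (hm : ∀ w : L, orderOf w = 2 → (invCent w).ncard ≤ 2 * r + 1) :
    (badSet x).ncard ≤ 2 * r + 2 * r * (2 * r - 2) := by
  classical
  haveI : Fintype L := Fintype.ofFinite L
  have hsub : badSet x ⊆ (invCent x \ {x}) ∪
      ⋃ w ∈ (invCent x \ {x}).toFinset, (invCent w \ {w, x, w * x}) := by
    rintro y ⟨hy, hne, hev⟩
    by_cases hc : Commute y x
    · exact Or.inl ⟨⟨hy, hc⟩, hne⟩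
    right
    obtain ⟨k, hk⟩ := hev
    set d := x * y with hd
    set w := d ^ k
    have hkpos : 0 < k := by
      rcases Nat.eq_zero_or_pos k with h | h
      · exact absurd (hk.trans (by rw [h])) (orderOf_pos d).ne'
      · exact h
    have hw2 : orderOf w = 2 := by
      rw [orderOf_pow_of_dvd hkpos.ne' ⟨2, by omega⟩, hk, show k + k = 2 * k by ring,
        Nat.mul_div_cancel _ hkpos]
    have hwi : w⁻¹ = w := Invol.inv_eq_self hw2
    have hxd : x * d * x⁻¹ = d⁻¹ := by
      rw [hd, mul_inv_rev, Invol.inv_eq_self hy, Invol.inv_eq_self hx]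
      calc x * (x * y) * x = x * x * (y * x) := by group
        _ = y * x := by rw [Invol.inv_mul_self hx, one_mul]
    have hyd : y * d * y⁻¹ = d⁻¹ := by
      rw [hd, mul_inv_rev, Invol.inv_eq_self hy, Invol.inv_eq_self hx]
      calc y * (x * y) * y = y * x * (y * y) := by group
        _ = y * x := by rw [Invol.inv_mul_self hy, mul_one]
    have hwx : Commute w x := by
      refine (mul_inv_eq_iff_eq_mul.1 ?_).symm
      rw [← conj_pow, hxd, inv_pow, hwi]
    have hwy : Commute y w := mul_inv_eq_iff_eq_mul.1 (by rw [← conj_pow, hyd, inv_pow, hwi])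
    refine Set.mem_biUnion (Set.mem_toFinset.2 ⟨⟨hw2, hwx⟩, fun e => ?_⟩) ⟨⟨hy, hwy⟩, ?_⟩
    · exact hc (by rwa [Set.mem_singleton_iff.1 e] at hwy)
    · rintro (e | e | e)
      · exact hc (e ▸ hwx)
      · exact hne e
      · exact hc (by rw [Set.mem_singleton_iff.1 e]; exact hwx.mul_left (Commute.refl x))
  have h1 : (invCent x \ {x}).ncard ≤ 2 * r := by
    have := hm x hx
    have hxm : x ∈ invCent x := ⟨hx, Commute.refl x⟩
    rw [Set.ncard_sdiff_singleton_of_mem hxm]
    omega
  refine (Set.ncard_le_ncard hsub (Set.toFinite _)).trans ((Set.ncard_union_le _ _).trans (add_le_add h1 ?_))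
  refine (Finset.set_ncard_biUnion_le _ _).trans ?_
  refine (Finset.sum_le_card_nsmul _ _ (2 * r - 2) fun w hw => ?_).trans ?_
  · obtain ⟨⟨hw2, hwx⟩, hne⟩ := Set.mem_toFinset.1 hw
    have hne' : w ≠ x := fun e => hne e
    have hwxo : orderOf (w * x) = 2 := orderOf_eq_prime (by
      rw [pow_two, hwx.symm.mul_mul_mul_comm, Invol.inv_mul_self hw2, Invol.inv_mul_self hx, one_mul])
      (fun e => hne' (by rw [eq_inv_of_mul_eq_one_left e, Invol.inv_eq_self hx]))
    have hsub3 : ({w, x, w * x} : Set L) ⊆ invCent w := by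
      rintro _ (rfl | rfl | rfl)
      · exact ⟨hw2, Commute.refl _⟩
      · exact ⟨hx, hwx.symm⟩
      · exact ⟨hwxo, (Commute.refl w).mul_left hwx.symm⟩
    have h3 : ({w, x, w * x} : Set L).ncard = 3 := by
      rw [Set.ncard_insert_of_notMem (by
        simp only [Set.mem_insert_iff, Set.mem_singleton_iff, not_or]
        exact ⟨hne', fun e => Invol.ne_one hx (left_eq_mul.1 e)⟩), Set.ncard_pair fun e =>
          Invol.ne_one hw2 (right_eq_mul.1 e)]
    rw [Set.ncard_sdiff hsub3, h3]
    have := hm w hw2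
    omega
  · rw [smul_eq_mul, ← Set.ncard_eq_toFinset_card']
    exact Nat.mul_le_mul_right _ h1

/-- The complement bounds the involutions of a centraliser. -/
theorem invCent_ncard_le {v : L} (hv : orderOf v = 2) (R V : Subgroup L) (hV : Nat.card V = 4)
    (hVsq : ∀ x ∈ V, x * x = 1) (hvV : v ∈ V) (hR : Odd (Nat.card R)) (hRC : ∀ o ∈ R, Commute o v)
    (hVR : V ≤ normalizer (R : Set L)) (hgen : ∀ g, Commute g v → ∃ o ∈ R, ∃ x ∈ V, o * x = g) :
    (invCent v).ncard ≤ 2 * Nat.card R + 1 := by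
  classical
  have hsub : invCent v ⊆ insert v ((fun p : L × L => p.1 * p.2) '' ((R : Set L) ×ˢ ((V : Set L) \ {1, v}))) := by
    rintro y ⟨hy, hc⟩
    obtain ⟨o, ho, x, hx, rfl⟩ := hgen y hc
    have hy2 : o * x * (o * x) = 1 := Invol.inv_mul_self hy
    by_cases h1 : x = 1
    · exfalso
      rw [h1, mul_one] at hy2 hy
      exact Invol.ne_one hy (eq_one_of_odd_of_sq (hR.of_dvd_nat (Subgroup.orderOf_dvd_natCard _ ho)) hy2)
    by_cases hxv : x = v
    · left
      subst hxv
      rw [(hRC o ho).symm.mul_mul_mul_comm, hVsq x hx, mul_one] at hy2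
      rw [eq_one_of_odd_of_sq (hR.of_dvd_nat (Subgroup.orderOf_dvd_natCard _ ho)) hy2, one_mul]
    · exact Or.inr ⟨(o, x), Set.mk_mem_prod ho ⟨hx, by simp [h1, hxv]⟩, rfl⟩
  refine (Set.ncard_le_ncard hsub (Set.toFinite _)).trans ((Set.ncard_insert_le _ _).trans ?_)
  refine Nat.succ_le_succ ((Set.ncard_image_le (Set.toFinite _)).trans ?_)
  have h1v : ({1, v} : Set L) ⊆ (V : Set L) := by
    rintro _ (rfl | rfl)
    · exact one_mem _
    · exact hvV
  rw [Set.ncard_prod, Set.ncard_sdiff h1v, Set.ncard_pair (Invol.ne_one hv).symm,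
    ← Nat.card_coe_set_eq, ← Nat.card_coe_set_eq, SetLike.coe_sort_coe, SetLike.coe_sort_coe, hV]
  omega

variable {V : Sylow 2 L}

theorem FourData.orderOf_two (h : FourData V) {v : L} (hv : v ∈ (V : Subgroup L)) (h1 : v ≠ 1) :
    orderOf v = 2 :=
  orderOf_eq_prime (by rw [pow_two]; exact h.sq v hv) h1

theorem FourData.comm (h : FourData V) {x y : L} (hx : x ∈ (V : Subgroup L)) (hy : y ∈ (V : Subgroup L)) :
    Commute x y := by
  show x * y = y * x
  have h0 := h.sq _ (mul_mem hx hy)
  calc x * y = x * (x * y * (x * y)) * y := by rw [h0, mul_one]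
    _ = x * x * (y * x) * (y * y) := by group
    _ = y * x := by rw [h.sq x hx, h.sq y hy, one_mul, mul_one]

theorem FourData.exists_conj (h : FourData V) {t : L} (ht : orderOf t = 2) :
    ∃ g, g * t * g⁻¹ ∈ (V : Subgroup L) := by
  haveI : Fact (Nat.Prime 2) := ⟨Nat.prime_two⟩
  obtain ⟨g, hg⟩ := Invol.exists_conj_mem_sylow V (K := zpowers t)
    (IsPGroup.of_card (n := 1) (by rw [Nat.card_zpowers, ht, pow_one]))
  exact ⟨g, hg t (mem_zpowers t)⟩

theorem FourData.card_cent_eq (h : FourData V) {v : L} (hv : v ∈ (V : Subgroup L)) (h1 : v ≠ 1) :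
    Nat.card (centralizer ({v} : Set L)) = 4 * Nat.card (th v) := by
  have hVC : (V : Subgroup L) ≤ centralizer ({v} : Set L) := fun x hx =>
    mem_centralizer_singleton_iff.2 (h.comm hx hv).eq
  have hcop : (Nat.card (th v)).Coprime (Nat.card (V : Subgroup L)) := by
    rw [h.card, show (4 : ℕ) = 2 ^ 2 from rfl]
    exact (odd_th v).coprime_two_right.pow_right 2
  have hd := disjoint_iff.1 (disjoint_of_coprime_natCard hcop)
  rw [← h.card, mul_comm, ← Nat.card_prod]
  refine (Nat.card_eq_of_bijective (fun p : th v × (V : Subgroup L) =>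
    (⟨(p.1 : L) * p.2, mul_mem (th_le v p.1.2) (hVC p.2.2)⟩ : centralizer ({v} : Set L)))
    ⟨?_, fun g => ?_⟩).symm
  · rintro ⟨o, x⟩ ⟨o', x'⟩ e
    have e' : (o : L) * x = o' * x' := congrArg Subtype.val e
    have hm : (o' : L)⁻¹ * o ∈ th v ⊓ (V : Subgroup L) := by
      refine Subgroup.mem_inf.2 ⟨mul_mem (inv_mem o'.2) o.2, ?_⟩
      rw [show (o' : L)⁻¹ * o = x' * (x : L)⁻¹ by
        rw [inv_mul_eq_iff_eq_mul, ← mul_assoc, ← e', mul_inv_cancel_right]]
      exact mul_mem x'.2 (inv_mem x.2)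
    rw [hd, mem_bot, inv_mul_eq_one] at hm
    rw [hm] at e'
    exact Prod.ext (Subtype.ext hm.symm) (Subtype.ext (mul_left_cancel e'))
  · obtain ⟨o, ho, x, hx, e⟩ := h.cent v hv h1 g (mem_centralizer_singleton_iff.1 g.2)
    exact ⟨(⟨o, ho⟩, ⟨x, hx⟩), Subtype.ext e⟩

/-- The involutions of each centraliser, when all involutions have centralisers of order `4 r`. -/
theorem FourData.invCent_le (h : FourData V) {r : ℕ}
    (hr : ∀ x : L, orderOf x = 2 → Nat.card (centralizer ({x} : Set L)) = 4 * r) {w : L}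
    (hw : orderOf w = 2) : (invCent w).ncard ≤ 2 * r + 1 := by
  obtain ⟨g, hg⟩ := h.exists_conj hw
  have hv := hg
  set v := g * w * g⁻¹ with hv'
  have hv2 : orderOf v = 2 := by rw [hv', Invol.orderOf_conj_eq, hw]
  have h1 := Invol.ne_one hv2
  have hR : Nat.card (th v) = r := by
    have := (h.card_cent_eq hv h1).symm.trans (hr v hv2)
    omega
  have hle := invCent_ncard_le hv2 (th v) V h.card h.sq hv (odd_th v) (fun o ho => commute_of_mem_th ho)
    (fun x hx => cent_le_norm_th v (mem_centralizer_singleton_iff.2 (h.comm hx hv).eq))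
    (h.cent v hv h1)
  rw [hR] at hle
  refine le_trans (le_of_eq ?_) hle
  rw [← Set.ncard_image_of_injective (invCent w) (MulAut.conj g).injective]
  congr 1
  ext y
  constructor
  · rintro ⟨x, ⟨hx, hxw⟩, rfl⟩
    exact ⟨by rw [MulAut.conj_apply, Invol.orderOf_conj_eq, hx], (Commute.conj_iff g).2 hxw⟩
  · rintro ⟨hy, hyv⟩
    refine ⟨g⁻¹ * y * g, ⟨?_, (Commute.conj_iff g).1 ?_⟩, by rw [MulAut.conj_apply]; group⟩
    · have := Invol.orderOf_conj_eq g⁻¹ y
      rw [inv_inv] at this
      rw [this, hy]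
    · rwa [show g * (g⁻¹ * y * g) * g⁻¹ = y by group]

theorem FourData.solvable_cent (h : FourData V) {t : L} (ht : orderOf t = 2) :
    Group.IsSolvable (centralizer ({t} : Set L)) := by
  haveI : Fact (Nat.Prime 2) := ⟨Nat.prime_two⟩
  obtain ⟨g, hg⟩ := h.exists_conj ht
  set v := g * t * g⁻¹ with hv'
  have h1 : v ≠ 1 := fun e => Invol.ne_one ht (conj_eq_one_iff.1 e)
  set C := centralizer ({v} : Set L)
  have hC : Group.IsSolvable C := by
    haveI : Group.IsSolvable (oddCore C) := Cfsg.Agent.S0205.result ZStar.odd_card_oddCore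
    haveI : Group.IsSolvable (C ⧸ oddCore C) := by
      refine isSolvable_of_comm fun p q => ?_
      obtain ⟨x, rfl⟩ := QuotientGroup.mk'_surjective _ p
      obtain ⟨y, rfl⟩ := QuotientGroup.mk'_surjective _ q
      have key : ∀ x : C, ∃ u : C, (u : L) ∈ (V : Subgroup L) ∧
          QuotientGroup.mk' (oddCore C) x = QuotientGroup.mk' (oddCore C) u := fun x => by
        obtain ⟨o, ho, u, hu, e⟩ := h.cent v hg h1 x (mem_centralizer_singleton_iff.1 x.2)
        obtain ⟨o', ho', eo⟩ := ho
        refine ⟨⟨u, mem_centralizer_singleton_iff.2 (h.comm hu hg).eq⟩, hu, ?_⟩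
        rw [show x = o' * ⟨u, mem_centralizer_singleton_iff.2 (h.comm hu hg).eq⟩ from
          Subtype.ext (e.symm.trans (by rw [← eo]; rfl)), map_mul,
          show QuotientGroup.mk' (oddCore C) o' = 1 from (QuotientGroup.eq_one_iff _).2 ho', one_mul]
      obtain ⟨u, hu, eu⟩ := key x
      obtain ⟨w, hw, ew⟩ := key y
      rw [eu, ew, ← map_mul, ← map_mul, show u * w = w * u from Subtype.ext (h.comm hu hw).eq]
    exact Group.isSolvable_of_ker_le_range (oddCore C).subtype (QuotientGroup.mk' (oddCore C))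
      (by rw [QuotientGroup.ker_mk', range_subtype])
  haveI := hC
  let f : centralizer ({t} : Set L) →* C :=
    ((MulAut.conj g).toMonoidHom.comp (centralizer ({t} : Set L)).subtype).codRestrict C fun x =>
      mem_centralizer_singleton_iff.2 ((Commute.conj_iff g).2 (mem_centralizer_singleton_iff.1 x.2)).eq
  exact solvable_of_solvable_injective (f := f) fun x y e =>
    Subtype.ext ((MulAut.conj g).injective (congrArg Subtype.val e))

/-- When `V` is not normal, the group has a normal subgroup `A₅` or `PSL₂(q)`, `q ≥ 7` odd, containing `V`. -/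
theorem FourData.exists_normal (h : FourData V) (hO : oddCore L = ⊥) (hn : ¬ (V : Subgroup L).Normal) :
    ∃ N : Subgroup L, N.Normal ∧ (V : Subgroup L) ≤ N ∧
      (Nonempty (N ≃* alternatingGroup (Fin 5)) ∨
        ∃ (F : Type) (_ : Field F) (_ : Fintype F), Fintype.card F % 2 = 1 ∧ 7 ≤ Fintype.card F ∧
          Nonempty (N ≃* Matrix.ProjectiveSpecialLinearGroup (Fin 2) F)) := by
  haveI : Fact (Nat.Prime 2) := ⟨Nat.prime_two⟩
  haveI : IsMulCommutative (V : Subgroup L) :=
    ⟨⟨fun a b => Subtype.ext (h.comm a.2 b.2).eq⟩⟩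
  rcases Cfsg.Agent.S3188.result V inferInstance fun t ht => h.solvable_cent ht with hs | hp
  · exfalso
    haveI := hs
    haveI : Nontrivial L := by
      by_contra hnt
      rw [not_nontrivial_iff_subsingleton] at hnt
      haveI := hnt
      exact hn ⟨fun x hx g => by rwa [Subsingleton.elim (g * x * g⁻¹) x]⟩
    obtain ⟨t, ht, hne⟩ := Solv.KW.exists_pCore_ne_bot (U := L)
    haveI := Fact.mk ht
    rcases ht.eq_two_or_odd' with rfl | hodd
    · have hle : pCore 2 L ≤ (V : Subgroup L) := Core.pCore_le_sylow V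
      obtain ⟨k, hk⟩ := IsPGroup.iff_card.1 (Fusion.pCore_isPGroup (G := L) 2)
      have hdvd := card_dvd_of_le hle
      rw [hk, h.card, show (4 : ℕ) = 2 ^ 2 from rfl] at hdvd
      have hk2 := (Nat.pow_dvd_pow_iff_le_right (by norm_num : 1 < 2)).1 hdvd
      interval_cases k
      · exact hne (eq_bot_of_card_eq _ (by rw [hk]; rfl))
      · -- a central involution
        obtain ⟨z, hz, hz1⟩ := (pCore 2 L).bot_or_exists_ne_one.resolve_left hne
        obtain ⟨a, b, -, hab⟩ := Nat.card_eq_two_iff.1 (by rw [hk]; rfl : Nat.card (pCore 2 L) = 2)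
        have huniq : ∀ u ∈ pCore 2 L, u ≠ 1 → u = z := by
          intro u hu hu1
          have hu' := hab.symm ▸ Set.mem_univ (⟨u, hu⟩ : pCore 2 L)
          have hz' := hab.symm ▸ Set.mem_univ (⟨z, hz⟩ : pCore 2 L)
          have h1' := hab.symm ▸ Set.mem_univ (1 : pCore 2 L)
          simp only [Set.mem_insert_iff, Set.mem_singleton_iff] at hu' hz' h1'
          rcases hu' with e1 | e1 <;> rcases hz' with e2 | e2 <;> rcases h1' with e3 | e3 <;>
            first
            | exact congrArg Subtype.val (e1.trans e2.symm)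
            | exact absurd (congrArg Subtype.val (e1.trans e3.symm)) hu1
            | exact absurd (congrArg Subtype.val (e2.trans e3.symm)) hz1
        have hcen : ∀ g : L, Commute g z := fun g => mul_inv_eq_iff_eq_mul.1
          (huniq _ ((pCore_normal 2 L).conj_mem z hz g) fun e => hz1 (conj_eq_one_iff.1 e))
        have hbot : th z = ⊥ := by
          refine le_bot_iff.1 (hO ▸ ZStar.le_oddCore ?_ (odd_th z))
          refine normalizer_eq_top_iff.1 (top_unique fun g _ => cent_le_norm_th z ?_)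
          exact mem_centralizer_singleton_iff.2 (hcen g).eq
        refine hn ⟨fun x hx g => ?_⟩
        obtain ⟨o, ho, u, hu, rfl⟩ := h.cent z (hle hz) hz1 g (hcen g)
        rw [hbot, mem_bot] at ho
        rw [ho, one_mul, (h.comm hu hx).eq, mul_inv_cancel_right]
        exact hx
      · exact hn (Subgroup.eq_of_le_of_card_ge hle (by rw [hk, h.card]; rfl) ▸ pCore_normal 2 L)
    · refine hne (le_bot_iff.1 (hO ▸ ZStar.le_oddCore (pCore_normal t L) ?_))
      obtain ⟨k, hk⟩ := IsPGroup.iff_card.1 (Fusion.pCore_isPGroup (G := L) t)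
      rw [hk]; exact hodd.pow
  · obtain ⟨F, hFi, hFt, hq, N, hN, ⟨e⟩, -⟩ := hp
    letI := hFi
    letI := hFt
    haveI := hN
    set π := QuotientGroup.mk' (oddCore L)
    have hπ : Function.Bijective π := ⟨(MonoidHom.ker_eq_bot_iff π).1 (by rw [QuotientGroup.ker_mk', hO]),
      QuotientGroup.mk'_surjective _⟩
    set N' := N.comap π
    haveI hN' : N'.Normal := hN.comap π
    let eN : N' ≃* N := MulEquiv.ofBijective
      ((π.comp N'.subtype).codRestrict N fun x => x.2)
      ⟨fun x y exy => Subtype.ext (hπ.1 (congrArg Subtype.val exy)), fun y => by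
        obtain ⟨x, hx⟩ := hπ.2 y
        exact ⟨⟨x, show π x ∈ N from hx.symm ▸ y.2⟩, Subtype.ext hx⟩⟩
    let eF := eN.trans e
    -- the normal subgroup contains the four-group
    have hVN : (V : Subgroup L) ≤ N' := by
      obtain ⟨Q, hQ⟩ := exists_sylow_inf V N'
      obtain ⟨P⟩ : Nonempty (Sylow 2 (Matrix.ProjectiveSpecialLinearGroup (Fin 2) F)) := inferInstance
      have h4 : 4 ∣ Nat.card (Matrix.ProjectiveSpecialLinearGroup (Fin 2) F) := by
        rcases hq with ⟨hmod, h5⟩ | ⟨n, hn2, hn⟩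
        · have hodd : Odd (Fintype.card F) := Nat.odd_iff.2 (by omega)
          have hc := GW.DGroup.card_psl_two hodd
          obtain ⟨m, hm⟩ : ∃ m, Fintype.card F = 2 * m + 1 := hodd
          rw [hm] at hc
          have h3 : Nat.card (Matrix.ProjectiveSpecialLinearGroup (Fin 2) F) =
              (2 * m + 1) * (2 * m * (m + 1)) := by nlinarith
          rw [h3]
          refine Dvd.dvd.mul_left ?_ _
          rw [show 4 = 2 * 2 from rfl, mul_assoc]
          exact mul_dvd_mul_left 2 (even_iff_two_dvd.1 (Nat.even_mul_succ_self m))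
        · rw [ClassSizePSL.card_psl_even (hn ▸ dvd_pow_self 2 (by omega)), hn]
          refine Dvd.dvd.mul_right ?_ _
          rw [show (4 : ℕ) = 2 ^ 2 from rfl]
          exact pow_dvd_pow 2 hn2
      have hQ4 : 4 ∣ Nat.card (Q : Subgroup N') := by
        rw [← Nat.card_congr eF.toEquiv] at h4
        rw [show (4 : ℕ) = 2 ^ 2 from rfl] at h4 ⊢
        exact Q.pow_dvd_card_of_pow_dvd_card h4
      intro x hx
      rw [hQ, ← Nat.card_congr (inf_subgroupOf_right (V : Subgroup L) N' ▸
        subgroupOfEquivOfLe (inf_le_right : (V : Subgroup L) ⊓ N' ≤ N')).toEquiv.symm] at hQ4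
      have := Subgroup.eq_of_le_of_card_ge (inf_le_left : (V : Subgroup L) ⊓ N' ≤ V)
        (by rw [h.card]; exact Nat.le_of_dvd Nat.card_pos hQ4)
      exact (Subgroup.mem_inf.1 (this.symm ▸ hx)).2
    refine ⟨N', hN', hVN, ?_⟩
    rcases hq with ⟨hmod, h5⟩ | ⟨n, hn2, hnq⟩
    · rcases Nat.lt_or_ge (Fintype.card F) 7 with h7 | h7
      · obtain ⟨e5⟩ := Cfsg.Agent.S0253.result (F := F) (by omega)
        exact Or.inl ⟨eF.trans e5⟩
      · exact Or.inr ⟨F, hFi, hFt, by omega, h7, ⟨eF⟩⟩
    · -- only four divides the order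
      have hn' : n = 2 := by
        by_contra hne
        have h8 : 2 ^ 3 ∣ Nat.card N' := by
          rw [Nat.card_congr eF.toEquiv,
            ClassSizePSL.card_psl_even (hnq ▸ dvd_pow_self 2 (by omega)), hnq]
          exact Dvd.dvd.mul_right (pow_dvd_pow 2 (by omega)) _
        have h8' : 2 ^ 3 ∣ Nat.card (V : Subgroup L) :=
          V.pow_dvd_card_of_pow_dvd_card (h8.trans (card_subgroup_dvd_card N'))
        rw [h.card] at h8'
        norm_num at h8'
      obtain ⟨e4⟩ := Cfsg.Agent.S0252.result (F := F) (by rw [hnq, hn']; rfl)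
      exact Or.inl ⟨eF.trans e4⟩

end Cfsg.Lib.Syl34
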