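import Cfsg.Agent.Lib.Syl34.Data
import Cfsg.Agent.Lib.Invol.SylowTools
import Mathlib.GroupTheory.PGroup

/-!
# Local facts about a group with a Sylow 2-subgroup of `PSL₃(4)` type
-/

set_option autoImplicit false
set_option linter.style.haveILetI false
set_option linter.unusedSectionVars false

namespace Cfsg.Lib.Syl34

open Subgroup Cfsg.Lib

variable {G : Type*} [Group G] {F : Type*} [Field F] [Fintype F]

section General

variable [Finite G]

theorem mem_norm_of_conj_mem {H : Subgroup G} {g : G} (h : ∀ a ∈ H, g * a * g⁻¹ ∈ H) :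
    g ∈ normalizer (H : Set G) := by
  haveI : Finite (H : Set G) := Subtype.finite
  exact mem_normalizer_fintype fun x hx => h x hx

theorem conj_mem_of_norm {H : Subgroup G} {g a : G} (hg : g ∈ normalizer (H : Set G)) (ha : a ∈ H) :
    g * a * g⁻¹ ∈ H :=
  (mem_normalizer_iff.1 hg a).1 ha

/-- An element of 2-power order normalising a Sylow 2-subgroup lies in it. -/
theorem mem_sylow_of_pow {S : Sylow 2 G} {n : G} (hn : n ∈ normalizer ((S : Subgroup G) : Set G)) {i : ℕ}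
    (hi : orderOf n ∣ 2 ^ i) : n ∈ (S : Subgroup G) := by
  haveI : Fact (Nat.Prime 2) := ⟨Nat.prime_two⟩
  have hz : IsPGroup 2 (zpowers n) := by
    obtain ⟨k, -, hk⟩ := (Nat.dvd_prime_pow Nat.prime_two).1 hi
    exact IsPGroup.of_card (n := k) (by rw [Nat.card_zpowers, hk])
  have hp := hz.to_sup_of_normal_right' S.2 (zpowers_le.2 hn)
  have := S.3 hp le_sup_right
  exact this ▸ (le_sup_left (a := zpowers n) (b := (S : Subgroup G))) (mem_zpowers n)

/-- An odd power of an element normalising a Sylow 2-subgroup lies in it. -/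
theorem exists_odd_pow_mem {S : Sylow 2 G} {n : G} (hn : n ∈ normalizer ((S : Subgroup G) : Set G)) :
    ∃ d, Odd d ∧ n ^ d ∈ (S : Subgroup G) := by
  obtain ⟨i, d, hd, hid⟩ := Nat.exists_eq_two_pow_mul_odd (n := orderOf n) (orderOf_pos n).ne'
  refine ⟨d, hd, mem_sylow_of_pow (pow_mem hn d) (i := i) (orderOf_dvd_of_pow_eq_one ?_)⟩
  rw [← pow_mul, mul_comm, ← hid, pow_orderOf_eq_one]

/-- A Sylow 2-subgroup inside a 2-subgroup is all of it. -/
theorem sylow_eq_of_le {S : Sylow 2 G} {R : Subgroup G} (hR : IsPGroup 2 R) (h : (S : Subgroup G) ≤ R)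
    {x : G} (hx : x ∈ R) : x ∈ (S : Subgroup G) :=
  S.3 hR h ▸ hx

end General

namespace Crd

variable {S : Sylow 2 G} (c : Crd (S : Subgroup G) F)

theorem A_conj {s a : G} (hs : s ∈ (S : Subgroup G)) (ha : a ∈ c.A) : s * a * s⁻¹ ∈ c.A :=
  ⟨mul_mem (mul_mem hs ha.1) (inv_mem hs), by
    rw [c.X_mul (mul_mem hs ha.1) (inv_mem hs), c.X_mul hs ha.1, c.X_inv hs, ha.2]
    linear_combination field_two c.hF (c.X s)⟩

theorem B_conj {s a : G} (hs : s ∈ (S : Subgroup G)) (ha : a ∈ c.B) : s * a * s⁻¹ ∈ c.B :=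
  ⟨mul_mem (mul_mem hs ha.1) (inv_mem hs), by
    rw [c.Y_mul (mul_mem hs ha.1) (inv_mem hs), c.Y_mul hs ha.1, c.Y_inv hs, ha.2]
    linear_combination field_two c.hF (c.Y s)⟩

theorem le_or_le {E : Subgroup G} (hE : E ≤ (S : Subgroup G)) (he : ∀ e ∈ E, e * e = 1) :
    E ≤ c.A ∨ E ≤ c.B := by
  by_contra h
  push Not at h
  obtain ⟨⟨e₁, h₁, n₁⟩, e₂, h₂, n₂⟩ := And.intro (SetLike.not_le_iff_exists.1 h.1) (SetLike.not_le_iff_exists.1 h.2)
  have b₁ := ((c.sq_eq_one_iff (hE h₁)).1 (he _ h₁)).resolve_left n₁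
  have a₂ := ((c.sq_eq_one_iff (hE h₂)).1 (he _ h₂)).resolve_right n₂
  rcases (c.sq_eq_one_iff (hE (mul_mem h₁ h₂))).1 (he _ (mul_mem h₁ h₂)) with h' | h'
  · exact n₁ ((c.A.mul_mem_cancel_right a₂).1 h')
  · exact n₂ ((c.B.mul_mem_cancel_left b₁).1 h')

theorem A_ne_B : c.A ≠ c.B := fun e => by
  have h : c.pt 0 1 0 ∈ c.B := e ▸ c.pt_mem_A 1 0
  have := h.2
  rw [c.Y_pt] at this
  exact one_ne_zero this

variable [Finite G]

theorem S_le_norm_A : (S : Subgroup G) ≤ normalizer (c.A : Set G) := fun _ hs =>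
  mem_norm_of_conj_mem fun _ ha => c.A_conj hs ha

theorem S_le_norm_B : (S : Subgroup G) ≤ normalizer (c.B : Set G) := fun _ hs =>
  mem_norm_of_conj_mem fun _ ha => c.B_conj hs ha

theorem A_isPGroup : IsPGroup 2 c.A := S.2.to_le c.A_le
theorem B_isPGroup : IsPGroup 2 c.B := S.2.to_le c.B_le

/-- A normaliser of the Sylow subgroup fixes each maximal elementary abelian subgroup or exchanges them. -/
theorem conj_le_or {g : G} (hg : ∀ a ∈ c.A, g * a * g⁻¹ ∈ (S : Subgroup G)) :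
    c.A.map (MulAut.conj g).toMonoidHom = c.A ∨ c.A.map (MulAut.conj g).toMonoidHom = c.B := by
  have hle : c.A.map (MulAut.conj g).toMonoidHom ≤ (S : Subgroup G) := by
    rintro _ ⟨a, ha, rfl⟩
    exact hg a ha
  have hcard : Nat.card (c.A.map (MulAut.conj g).toMonoidHom) = 16 :=
    (card_map_of_injective (MulAut.conj g).injective).trans c.card_A
  rcases c.le_or_le hle (by
    rintro _ ⟨a, ha, rfl⟩
    rw [← map_mul, c.sq_A ha, map_one]) with h | h
  · exact Or.inl (Subgroup.eq_of_le_of_card_ge h (by rw [hcard, c.card_A]))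
  · exact Or.inr (Subgroup.eq_of_le_of_card_ge h (by rw [hcard, c.card_B]))

/-- The two maximal elementary abelian subgroups are not conjugate. -/
theorem not_conj_A_B (g : G) : c.A.map (MulAut.conj g).toMonoidHom ≠ c.B := by
  intro hgB
  haveI : Fact (Nat.Prime 2) := ⟨Nat.prime_two⟩
  set L := (S : Subgroup G).map (MulAut.conj g).toMonoidHom with hL
  have hLn : L ≤ normalizer (c.B : Set G) := by
    rintro _ ⟨s, hs, rfl⟩
    refine mem_norm_of_conj_mem fun b hb => ?_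
    rw [← hgB] at hb ⊢
    obtain ⟨a, ha, rfl⟩ := hb
    exact ⟨s * a * s⁻¹, c.A_conj hs ha, by simp only [MulEquiv.coe_toMonoidHom, map_mul, map_inv]⟩
  obtain ⟨d, hd, R, hR, hSR, hLR⟩ := Invol.exists_common_pGroup (p := 2) (normalizer (c.B : Set G))
    c.S_le_norm_B hLn S.2 (S.2.map _)
  set n := d * g with hn
  have hnS : n ∈ normalizer ((S : Subgroup G) : Set G) := mem_norm_of_conj_mem fun s hs => by
    refine sylow_eq_of_le hR hSR ?_
    have := hLR (g * s * g⁻¹) ⟨s, hs, rfl⟩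
    rwa [hn, show d * g * s * (d * g)⁻¹ = d * (g * s * g⁻¹) * d⁻¹ by group]
  have h1 : ∀ a ∈ c.A, n * a * n⁻¹ ∈ c.B := fun a ha => by
    rw [hn, show d * g * a * (d * g)⁻¹ = d * (g * a * g⁻¹) * d⁻¹ by group]
    exact conj_mem_of_norm hd (hgB ▸ ⟨a, ha, rfl⟩)
  have h2 : ∀ b ∈ c.B, n * b * n⁻¹ ∈ c.A := by
    have hle : c.B.map (MulAut.conj n).toMonoidHom ≤ (S : Subgroup G) := by
      rintro _ ⟨b, hb, rfl⟩
      exact conj_mem_of_norm hnS hb.1
    rcases c.le_or_le hle (by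
      rintro _ ⟨b, hb, rfl⟩
      rw [← map_mul, c.sq_B hb, map_one]) with h | h
    · exact fun b hb => h ⟨b, hb, rfl⟩
    · exfalso
      have hcB : c.B.map (MulAut.conj n).toMonoidHom = c.B := Subgroup.eq_of_le_of_card_ge h
        (card_map_of_injective (MulAut.conj n).injective).ge
      have hcA : c.A.map (MulAut.conj n).toMonoidHom = c.B := Subgroup.eq_of_le_of_card_ge
        (by rintro _ ⟨a, ha, rfl⟩; exact h1 a ha)
        (by rw [card_map_of_injective (MulAut.conj n).injective, c.card_A, c.card_B])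
      exact c.A_ne_B (map_injective (MulAut.conj n).injective (hcA.trans hcB.symm))
  have hpar : ∀ k : ℕ, (∀ a ∈ c.A, n ^ (2 * k + 1) * a * (n ^ (2 * k + 1))⁻¹ ∈ c.B) := by
    intro k
    induction k with
    | zero => simpa using h1
    | succ k ih =>
      intro a ha
      have := h1 _ (h2 _ (ih a ha))
      rwa [show 2 * (k + 1) + 1 = 1 + (1 + (2 * k + 1)) by ring, pow_add, pow_add, pow_one,
        show n * (n * n ^ (2 * k + 1)) * a * (n * (n * n ^ (2 * k + 1)))⁻¹ =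
          n * (n * (n ^ (2 * k + 1) * a * (n ^ (2 * k + 1))⁻¹) * n⁻¹) * n⁻¹ by group]
  obtain ⟨e, ⟨k, rfl⟩, he⟩ := exists_odd_pow_mem hnS
  have ha := c.pt_mem_A 1 0
  have hB := (hpar k _ ha).2
  have hA := c.A_conj he ha
  have hY : c.Y (n ^ (2 * k + 1) * c.pt 0 1 0 * (n ^ (2 * k + 1))⁻¹) = 1 := by
    rw [c.Y_mul (mul_mem he (c.pt_mem ..)) (inv_mem he), c.Y_mul he (c.pt_mem ..), c.Y_inv he, c.Y_pt]
    linear_combination field_two c.hF (c.Y (n ^ (2 * k + 1)))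
  exact one_ne_zero (hY.symm.trans hB)

/-- `A` is weakly closed. -/
theorem norm_A_of_conj_le {g : G} (hg : ∀ a ∈ c.A, g * a * g⁻¹ ∈ (S : Subgroup G)) :
    g ∈ normalizer (c.A : Set G) := by
  rcases c.conj_le_or hg with h | h
  · exact mem_normalizer_iff_map_conj_eq.2 h
  · exact absurd h (c.not_conj_A_B g)

theorem norm_B_of_conj_le {g : G} (hg : ∀ a ∈ c.B, g * a * g⁻¹ ∈ (S : Subgroup G)) :
    g ∈ normalizer (c.B : Set G) := by
  have := c.swap.norm_A_of_conj_le (g := g) (by rw [c.swap_A]; exact hg)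
  rwa [c.swap_A] at this

theorem normS_le_norm_A : normalizer ((S : Subgroup G) : Set G) ≤ normalizer (c.A : Set G) :=
  fun _ hn => c.norm_A_of_conj_le fun _ ha => conj_mem_of_norm hn ha.1

theorem normS_le_norm_B : normalizer ((S : Subgroup G) : Set G) ≤ normalizer (c.B : Set G) :=
  fun _ hn => c.norm_B_of_conj_le fun _ ha => conj_mem_of_norm hn ha.1

theorem normS_le_norm_Z : normalizer ((S : Subgroup G) : Set G) ≤ normalizer (c.Z : Set G) :=
  fun _ hn => mem_norm_of_conj_mem fun _ hz =>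
    ⟨conj_mem_of_norm (c.normS_le_norm_A hn) hz.1, conj_mem_of_norm (c.normS_le_norm_B hn) hz.2⟩

/-- A 2-subgroup containing `A` is carried into `S` by an element of the normaliser of `A`. -/
theorem exists_norm_conj_le {R : Subgroup G} (hR : IsPGroup 2 R) (hA : c.A ≤ R) :
    ∃ k ∈ normalizer (c.A : Set G), ∀ x ∈ R, k * x * k⁻¹ ∈ (S : Subgroup G) := by
  haveI : Fact (Nat.Prime 2) := ⟨Nat.prime_two⟩
  obtain ⟨k, hk⟩ := Invol.exists_conj_mem_sylow S hR
  exact ⟨k, c.norm_A_of_conj_le fun a ha => hk a (hA ha), hk⟩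

/-- Fusion in `A` happens in the normaliser of `A`. -/
theorem exists_norm_conj {a g : G} (ha : a ∈ c.A) (hga : g * a * g⁻¹ ∈ c.A) :
    ∃ n ∈ normalizer (c.A : Set G), n * a * n⁻¹ = g * a * g⁻¹ := by
  haveI : Fact (Nat.Prime 2) := ⟨Nat.prime_two⟩
  set C := centralizer ({g * a * g⁻¹} : Set G)
  have hAC : c.A ≤ C := fun x hx => mem_centralizer_singleton_iff.2 (c.commute_A hx hga).eq
  have hLC : c.A.map (MulAut.conj g).toMonoidHom ≤ C := by
    rintro _ ⟨x, hx, rfl⟩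
    refine mem_centralizer_singleton_iff.2 ?_
    simp only [MulEquiv.coe_toMonoidHom, MulAut.conj_apply]
    exact ((Commute.conj_iff g).2 (c.commute_A hx ha)).eq
  obtain ⟨d, hd, R, hR, hAR, hLR⟩ := Invol.exists_common_pGroup (p := 2) C hAC hLC c.A_isPGroup
    (c.A_isPGroup.map _)
  obtain ⟨k, hk, hkS⟩ := c.exists_norm_conj_le hR hAR
  have hn : k * (d * g) ∈ normalizer (c.A : Set G) := c.norm_A_of_conj_le fun x hx => by
    have := hkS _ (hLR (g * x * g⁻¹) ⟨x, hx, rfl⟩)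
    rwa [show k * (d * g) * x * (k * (d * g))⁻¹ = k * (d * (g * x * g⁻¹) * d⁻¹) * k⁻¹ by group]
  refine ⟨d * g, ?_, ?_⟩
  · have := mul_mem (inv_mem hk) hn
    rwa [inv_mul_cancel_left] at this
  · rw [show d * g * a * (d * g)⁻¹ = d * (g * a * g⁻¹) * d⁻¹ by group,
      mem_centralizer_singleton_iff.1 hd, mul_inv_cancel_right]

/-- An element of `A` outside `Z`, and not conjugate into `Z` in the normaliser, has `A` as a Sylow
2-subgroup of its centraliser. -/
theorem le_A_of_centralizes {a : G} (ha : a ∈ c.A)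
    (haZ : ∀ n ∈ normalizer (c.A : Set G), n * a * n⁻¹ ∉ c.Z) {R : Subgroup G} (hR : IsPGroup 2 R)
    (hAR : c.A ≤ R) (hRC : R ≤ centralizer ({a} : Set G)) : R ≤ c.A := by
  obtain ⟨k, hk, hkS⟩ := c.exists_norm_conj_le hR hAR
  intro x hx
  have hka := conj_mem_of_norm hk ha
  have h := c.mem_A_of_commute hka (haZ k hk) (hkS x hx)
    ((Commute.conj_iff k).2 (mem_centralizer_singleton_iff.1 (hRC hx)))
  exact (mem_normalizer_iff.1 hk x).2 h

/-- Every involution is conjugate into `A` or `B`. -/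
theorem exists_conj_invol {t : G} (ht : orderOf t = 2) : ∃ g, g * t * g⁻¹ ∈ c.A ∨ g * t * g⁻¹ ∈ c.B := by
  haveI : Fact (Nat.Prime 2) := ⟨Nat.prime_two⟩
  obtain ⟨g, hg⟩ := Invol.exists_conj_mem_sylow S (K := zpowers t)
    (IsPGroup.of_card (n := 1) (by rw [Nat.card_zpowers, ht, pow_one]))
  refine ⟨g, (c.sq_eq_one_iff (hg t (mem_zpowers t))).1 ?_⟩
  rw [show g * t * g⁻¹ * (g * t * g⁻¹) = g * (t * t) * g⁻¹ by group]
  have : t * t = 1 := by rw [← pow_two, ← ht, pow_orderOf_eq_one]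
  rw [this, mul_one, mul_inv_cancel]

/-! ## The scalars of the normaliser of the Sylow subgroup -/

/-- The map induced by `n` on the first coordinate. -/
noncomputable def fX (n : G) (x : F) : F := c.X (n * c.pt x 0 0 * n⁻¹)

/-- The map induced by `n` on the second coordinate. -/
noncomputable def fY (n : G) (y : F) : F := c.Y (n * c.pt 0 y 0 * n⁻¹)

/-- The map induced by `n` on the centre. -/
noncomputable def fW (n : G) (z : F) : F := c.W (n * c.pt 0 0 z * n⁻¹)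

theorem X_conj {n s : G} (hn : n ∈ normalizer ((S : Subgroup G) : Set G)) (hs : s ∈ (S : Subgroup G)) :
    c.X (n * s * n⁻¹) = c.fX n (c.X s) := by
  have e : s = c.pt 0 (c.Y s) (c.W s) * c.pt (c.X s) 0 0 := c.ext hs (mul_mem (c.pt_mem ..) (c.pt_mem ..))
    (by simp [c.X_mul (c.pt_mem ..) (c.pt_mem ..)]) (by simp [c.Y_mul (c.pt_mem ..) (c.pt_mem ..)])
    (by simp [c.W_mul (c.pt_mem ..) (c.pt_mem ..)])
  have ha := conj_mem_of_norm (c.normS_le_norm_A hn) (c.pt_mem_A (c.Y s) (c.W s))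
  conv_lhs => rw [e, show n * (c.pt 0 (c.Y s) (c.W s) * c.pt (c.X s) 0 0) * n⁻¹ =
    n * c.pt 0 (c.Y s) (c.W s) * n⁻¹ * (n * c.pt (c.X s) 0 0 * n⁻¹) by group]
  rw [c.X_mul ha.1 (conj_mem_of_norm hn (c.pt_mem ..)), ha.2, zero_add, fX]

theorem Y_conj {n s : G} (hn : n ∈ normalizer ((S : Subgroup G) : Set G)) (hs : s ∈ (S : Subgroup G)) :
    c.Y (n * s * n⁻¹) = c.fY n (c.Y s) := by
  have e : s = c.pt 0 (c.Y s) 0 * c.pt (c.X s) 0 (c.W s) := c.ext hs (mul_mem (c.pt_mem ..) (c.pt_mem ..))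
    (by simp [c.X_mul (c.pt_mem ..) (c.pt_mem ..)]) (by simp [c.Y_mul (c.pt_mem ..) (c.pt_mem ..)])
    (by simp [c.W_mul (c.pt_mem ..) (c.pt_mem ..)])
  have hb := conj_mem_of_norm (c.normS_le_norm_B hn) (c.pt_mem_B (c.X s) (c.W s))
  conv_lhs => rw [e, show n * (c.pt 0 (c.Y s) 0 * c.pt (c.X s) 0 (c.W s)) * n⁻¹ =
    n * c.pt 0 (c.Y s) 0 * n⁻¹ * (n * c.pt (c.X s) 0 (c.W s) * n⁻¹) by group]
  rw [c.Y_mul (conj_mem_of_norm hn (c.pt_mem ..)) hb.1, hb.2, add_zero, fY]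

theorem W_conj {n z : G} (hz : z ∈ c.Z) : c.W (n * z * n⁻¹) = c.fW n (c.W z) := by
  have e : z = c.pt 0 0 (c.W z) := c.ext (c.Z_le hz) (c.pt_mem ..)
    (by rw [c.X_pt]; exact hz.1.2) (by rw [c.Y_pt]; exact hz.2.2) (c.W_pt ..).symm
  conv_lhs => rw [e]
  rfl

variable {n : G} (hn : n ∈ normalizer ((S : Subgroup G) : Set G))
include hn

theorem fX_add (x y : F) : c.fX n (x + y) = c.fX n x + c.fX n y := by
  have h := c.X_conj hn (mul_mem (c.pt_mem x 0 0) (c.pt_mem y 0 0))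
  rw [c.X_mul (c.pt_mem ..) (c.pt_mem ..), c.X_pt, c.X_pt,
    show n * (c.pt x 0 0 * c.pt y 0 0) * n⁻¹ = n * c.pt x 0 0 * n⁻¹ * (n * c.pt y 0 0 * n⁻¹) by group,
    c.X_mul (conj_mem_of_norm hn (c.pt_mem ..)) (conj_mem_of_norm hn (c.pt_mem ..))] at h
  exact h.symm

theorem fW_mul (x y : F) : c.fW n (x * y) = c.fX n x * c.fY n y := by
  have hb := conj_mem_of_norm (c.normS_le_norm_B hn) (c.pt_mem_B x 0)
  have ha := conj_mem_of_norm (c.normS_le_norm_A hn) (c.pt_mem_A y 0)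
  obtain ⟨h1, h2, h3⟩ := c.comm_coords (c.pt_mem x 0 0) (c.pt_mem 0 y 0)
  simp only [X_pt, Y_pt, mul_zero, add_zero] at h3
  have hm : c.pt x 0 0 * c.pt 0 y 0 * (c.pt x 0 0)⁻¹ * (c.pt 0 y 0)⁻¹ ∈ c.Z :=
    c.mem_Z.2 ⟨mul_mem (mul_mem (mul_mem (c.pt_mem ..) (c.pt_mem ..)) (inv_mem (c.pt_mem ..)))
      (inv_mem (c.pt_mem ..)), h1, h2⟩
  have h := c.W_conj (n := n) hm
  rw [h3, show n * (c.pt x 0 0 * c.pt 0 y 0 * (c.pt x 0 0)⁻¹ * (c.pt 0 y 0)⁻¹) * n⁻¹ =
    n * c.pt x 0 0 * n⁻¹ * (n * c.pt 0 y 0 * n⁻¹) * (n * c.pt x 0 0 * n⁻¹)⁻¹ *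
      (n * c.pt 0 y 0 * n⁻¹)⁻¹ by group,
    (c.comm_coords hb.1 ha.1).2.2, hb.2, ha.2, mul_zero, add_zero] at h
  exact h.symm

theorem fX_eq_zero {x : F} (h : c.fX n x = 0) : x = 0 := by
  have hb := conj_mem_of_norm (c.normS_le_norm_B hn) (c.pt_mem_B x 0)
  have hA : n * c.pt x 0 0 * n⁻¹ ∈ c.A := ⟨hb.1, h⟩
  have := ((mem_normalizer_iff.1 (c.normS_le_norm_A hn) (c.pt x 0 0)).2 hA).2
  rwa [c.X_pt] at this

theorem fY_eq_zero {y : F} (h : c.fY n y = 0) : y = 0 := by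
  have ha := conj_mem_of_norm (c.normS_le_norm_A hn) (c.pt_mem_A y 0)
  have hB : n * c.pt 0 y 0 * n⁻¹ ∈ c.B := ⟨ha.1, h⟩
  have := ((mem_normalizer_iff.1 (c.normS_le_norm_B hn) (c.pt 0 y 0)).2 hB).2
  rwa [c.Y_pt] at this

omit hn

/-- The map on the first coordinate is scalar or semilinear. -/
theorem fX_cases (hn : n ∈ normalizer ((S : Subgroup G) : Set G)) :
    (∀ x, c.fX n x = c.fX n 1 * x) ∨ ∀ x, c.fX n x = c.fX n 1 * (x * x) := by
  have f1 : c.fX n 1 ≠ 0 := fun e => one_ne_zero (c.fX_eq_zero hn e)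
  have g1 : c.fY n 1 ≠ 0 := fun e => one_ne_zero (c.fY_eq_zero hn e)
  have key : ∀ x y, c.fX n (x * y) * c.fX n 1 = c.fX n x * c.fX n y := fun x y => by
    refine mul_right_cancel₀ g1 ?_
    have hy : c.fX n 1 * c.fY n y = c.fX n y * c.fY n 1 := by
      rw [← c.fW_mul hn 1 y, ← c.fW_mul hn y 1, one_mul, mul_one]
    have hxy := c.fW_mul hn x y
    rw [← mul_one (x * y), c.fW_mul hn (x * y) 1] at hxy
    linear_combination c.fX n 1 * hxy + c.fX n x * hy
  rcases field_endo c.hF (fun x => c.fX n x / c.fX n 1)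
    (fun a b => by rw [c.fX_add hn, add_div])
    (fun a b => by field_simp; linear_combination key a b) (div_self f1) with h | h
  · left; intro x; have := h x; field_simp at this; linear_combination this
  · right; intro x; have := h x; field_simp at this; linear_combination this

theorem fX_comp (hn : n ∈ normalizer ((S : Subgroup G) : Set G)) {m : G}
    (hm : m ∈ normalizer ((S : Subgroup G) : Set G)) (x : F) : c.fX (n * m) x = c.fX n (c.fX m x) := by
  rw [fX, fX.eq_def c m, show n * m * c.pt x 0 0 * (n * m)⁻¹ = n * (m * c.pt x 0 0 * m⁻¹) * n⁻¹ by group,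
    c.X_conj hn (conj_mem_of_norm hm (c.pt_mem ..))]

theorem fX_linear (hn : n ∈ normalizer ((S : Subgroup G) : Set G)) (x : F) :
    c.fX n x = c.fX n 1 * x := by
  rcases c.fX_cases hn with h | h
  · exact h x
  exfalso
  have hpow : ∀ j : ℕ, ∃ u : F, u ≠ 0 ∧ ∀ x, c.fX (n ^ (2 * j + 1)) x = u * (x * x) := by
    intro j
    induction j with
    | zero => exact ⟨c.fX n 1, fun e => one_ne_zero (c.fX_eq_zero hn e), by simpa using h⟩
    | succ j ih =>
      obtain ⟨u, u0, hu⟩ := ih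
      have hv : c.fX n 1 ≠ 0 := fun e => one_ne_zero (c.fX_eq_zero hn e)
      refine ⟨c.fX n 1 * (c.fX n 1 * (u * u)) * (c.fX n 1 * (u * u)), by simp [hv, u0], fun x => ?_⟩
      rw [show 2 * (j + 1) + 1 = 1 + (1 + (2 * j + 1)) by ring, pow_add, pow_add, pow_one,
        c.fX_comp hn (mul_mem hn (pow_mem hn _)), c.fX_comp hn (pow_mem hn _), hu, h (c.fX n (u * (x * x))), h (u * (x * x))]
      rcases eq_or_ne x 0 with rfl | hx
      · ring
      · linear_combination c.fX n 1 * c.fX n 1 * c.fX n 1 * u * u * u * u *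
          (x * x * x * x * x + x * x) * field_cube c.hF hx
  obtain ⟨e, ⟨k, rfl⟩, he⟩ := exists_odd_pow_mem hn
  obtain ⟨u, -, hu⟩ := hpow k
  have hid : ∀ x, c.fX (n ^ (2 * k + 1)) x = x := fun x => by
    rw [fX, c.X_mul (mul_mem he (c.pt_mem ..)) (inv_mem he), c.X_mul he (c.pt_mem ..), c.X_inv he, c.X_pt]
    linear_combination field_two c.hF (c.X (n ^ (2 * k + 1)))
  obtain ⟨w, w0, w1⟩ := exists_omega c.hF
  have e1 := (hu 1).symm.trans (hid 1)
  have ew := (hu w).symm.trans (hid w)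
  rw [show u = 1 by linear_combination e1, one_mul] at ew
  exact w1 (mul_right_cancel₀ w0 (by rw [ew, one_mul]))

/-- An element of the normaliser of `S` acts by scalars `α`, `β`, `α * β`. -/
theorem exists_scal (hn : n ∈ normalizer ((S : Subgroup G) : Set G)) :
    ∃ α β : F, α ≠ 0 ∧ β ≠ 0 ∧ (∀ s ∈ (S : Subgroup G), c.X (n * s * n⁻¹) = α * c.X s ∧
      c.Y (n * s * n⁻¹) = β * c.Y s) ∧ ∀ z ∈ c.Z, c.W (n * z * n⁻¹) = α * β * c.W z := by
  have f1 : c.fX n 1 ≠ 0 := fun e => one_ne_zero (c.fX_eq_zero hn e)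
  refine ⟨c.fX n 1, c.fY n 1, f1, fun e => one_ne_zero (c.fY_eq_zero hn e), fun s hs => ⟨?_, ?_⟩,
    fun z hz => ?_⟩
  · rw [c.X_conj hn hs, c.fX_linear hn]
  · rw [c.Y_conj hn hs]
    refine mul_left_cancel₀ f1 ?_
    have h1 := c.fW_mul hn 1 (c.Y s)
    have h2 := c.fW_mul hn (c.Y s) 1
    rw [one_mul] at h1
    rw [mul_one, c.fX_linear hn (c.Y s)] at h2
    linear_combination h2 - h1
  · rw [c.W_conj hz]
    have := c.fW_mul hn (c.W z) 1
    rw [mul_one, c.fX_linear hn] at this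
    rw [this]; ring

end Crd

end Cfsg.Lib.Syl34
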