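import Cfsg.Agent.Lib.Syl34.Mixed
import Cfsg.Agent.Lib.Syl34.BothCent
import Cfsg.Agent.Lib.CompositeOrder.LThreeFourTop

/-!
# One spread and one unspread normaliser: the orders
-/

set_option autoImplicit false
set_option linter.style.haveILetI false
set_option linter.unusedSectionVars false

namespace Cfsg.Lib.Syl34

open Subgroup Cfsg Cfsg.Lib

universe u

section A5

set_option maxRecDepth 10000 in
theorem a5_orders : ∀ d : alternatingGroup (Fin 5), d * d = 1 ∨ d ^ 15 = 1 := by decide +kernel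

set_option maxRecDepth 10000 in
theorem a5_pairs : (((Finset.univ.filter fun x : alternatingGroup (Fin 5) => x * x = 1 ∧ x ≠ 1) ×ˢ
    (Finset.univ.filter fun x : alternatingGroup (Fin 5) => x * x = 1 ∧ x ≠ 1)).filter
      fun p => p.1 * p.2 = 1 ∨ p.1 * p.2 * (p.1 * p.2) ≠ 1).card = 195 := by decide +kernel

theorem oddPairs_a5 {L : Type u} [Group L] [Finite L] (e : L ≃* alternatingGroup (Fin 5)) :
    (oddPairs L).ncard = 195 := by
  classical
  rw [← a5_pairs, ← Set.ncard_coe_finset,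
    ← Set.ncard_image_of_injective (oddPairs L) (f := fun p : L × L => (e p.1, e p.2))
      fun p q h => Prod.ext (e.injective (congrArg Prod.fst h :)) (e.injective (congrArg Prod.snd h :))]
  congr 1
  have ho : ∀ x : L, orderOf x = 2 ↔ e x * e x = 1 ∧ e x ≠ 1 := fun x => by
    rw [← MulEquiv.orderOf_eq e x]
    exact ⟨fun h => ⟨Invol.inv_mul_self h, Invol.ne_one h⟩, fun h => Invol.orderOf_eq_two_of h.2 h.1⟩
  have hodd : ∀ x : L, Odd (orderOf x) ↔ e x = 1 ∨ e x * e x ≠ 1 := fun x => by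
    rw [← MulEquiv.orderOf_eq e x]
    refine ⟨fun h => ?_, fun h => ?_⟩
    · by_cases h2 : e x * e x = 1
      · exact Or.inl (eq_one_of_odd_of_sq h h2)
      · exact Or.inr h2
    · rcases h with h | h
      · rw [h, orderOf_one]; exact odd_one
      · exact Odd.of_dvd_nat (by decide) (orderOf_dvd_of_pow_eq_one ((a5_orders (e x)).resolve_left h))
  ext ⟨u, v⟩
  simp only [Set.mem_image, Finset.coe_filter, Finset.mem_product, Finset.mem_filter, Finset.mem_univ,
    true_and, Set.mem_setOf_eq, oddPairs]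
  constructor
  · rintro ⟨⟨x, y⟩, ⟨hx, hy, hxy⟩, h⟩
    obtain ⟨rfl, rfl⟩ := Prod.ext_iff.1 h
    refine ⟨⟨(ho x).1 hx, (ho y).1 hy⟩, ?_⟩
    have := (hodd (x * y)).1 hxy
    rwa [map_mul] at this
  · rintro ⟨⟨hu, hv⟩, huv⟩
    refine ⟨(e.symm u, e.symm v), ⟨(ho _).2 (by rwa [e.apply_symm_apply]), (ho _).2 (by rwa [e.apply_symm_apply]),
      (hodd _).2 (by rwa [map_mul, e.apply_symm_apply, e.apply_symm_apply])⟩,
      Prod.ext (e.apply_symm_apply u) (e.apply_symm_apply v)⟩

end A5

variable {G : Type u} [Group G] [Finite G] {F : Type*} [Field F] [Fintype F]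

/-- A group in which a four-group is normal and self-centralising has order `4` or `12` (or the group is odd over it). -/
theorem FourData.card_of_normal {L : Type u} [Group L] [Finite L] {V : Sylow 2 L} (h : FourData V)
    (hth : ∀ v ∈ (V : Subgroup L), v ≠ 1 → th v = ⊥) (hn : (V : Subgroup L).Normal) :
    Nat.card L = 4 ∨ Nat.card L = 12 := by
  classical
  haveI : Fact (Nat.Prime 2) := ⟨Nat.prime_two⟩
  haveI := hn
  let φ : L →* MulAut (V : Subgroup L) := MulAut.conjNormal
  have hker : φ.ker ≤ (V : Subgroup L) := by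
    intro g hg
    obtain ⟨v, hv, hv1⟩ := (V : Subgroup L).bot_or_exists_ne_one.resolve_left
      (fun e => by have := h.card; rw [e, card_bot] at this; omega)
    have hc : g * v * g⁻¹ = v := by
      have := congrArg (fun f : MulAut (V : Subgroup L) => ((f ⟨v, hv⟩ : (V : Subgroup L)) : L))
        (MonoidHom.mem_ker.1 hg)
      simpa [φ] using this
    obtain ⟨o, ho, x, hx, rfl⟩ := h.cent v hv hv1 g (mul_inv_eq_iff_eq_mul.1 hc)
    rw [hth v hv hv1, mem_bot] at ho
    rwa [ho, one_mul]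
  -- the action is a permutation action on three points
  let P := {v : L // v ∈ (V : Subgroup L) ∧ v ≠ 1}
  have hP : Nat.card P = 3 := by
    show Nat.card (((V : Subgroup L) : Set L) \ {1} : Set L) = 3
    rw [Nat.card_coe_set_eq, Set.ncard_sdiff_singleton_of_mem (one_mem (V : Subgroup L)),
      ← Nat.card_coe_set_eq, SetLike.coe_sort_coe, h.card]
  let ψ : MulAut (V : Subgroup L) → Equiv.Perm P := fun f =>
    { toFun := fun v => ⟨f ⟨v.1, v.2.1⟩, (f ⟨v.1, v.2.1⟩).2, fun e => v.2.2 (congrArg Subtype.val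
        (f.map_eq_one_iff.1 (Subtype.ext e : f ⟨v.1, v.2.1⟩ = 1)) :)⟩
      invFun := fun v => ⟨f.symm ⟨v.1, v.2.1⟩, (f.symm ⟨v.1, v.2.1⟩).2, fun e => v.2.2 (congrArg Subtype.val
        (f.symm.map_eq_one_iff.1 (Subtype.ext e : f.symm ⟨v.1, v.2.1⟩ = 1)) :)⟩
      left_inv := fun v => Subtype.ext (by simp)
      right_inv := fun v => Subtype.ext (by simp) }
  have hψ : Function.Injective ψ := by
    intro f g e
    ext v
    by_cases hv : v = 1
    · rw [hv, map_one, map_one]
    · exact congrArg (fun q : Equiv.Perm P => ((q ⟨v, v.2, fun e' => hv (Subtype.ext e')⟩ : P) : L)) e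
  have hle : Nat.card φ.range ≤ 6 := by
    refine (Nat.card_le_card_of_injective (fun f : φ.range => ψ f.1)
      fun f g e => Subtype.ext (hψ e)).trans (le_of_eq ?_)
    rw [Nat.card_perm, hP]; rfl
  have hVker : (V : Subgroup L) ≤ φ.ker := fun v hv => MonoidHom.mem_ker.2 (MulEquiv.ext fun x =>
    Subtype.ext (by
      show v * (x : L) * v⁻¹ = x
      rw [(h.comm hv x.2).eq, mul_inv_cancel_right]))
  have hkeq : φ.ker = (V : Subgroup L) := le_antisymm hker hVker
  have hcard : Nat.card L = 4 * Nat.card φ.range := by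
    rw [← φ.ker.card_mul_index, index_ker, hkeq, h.card]
  have hodd : Odd (Nat.card φ.range) := by
    rw [← index_ker, hkeq]
    exact Nat.not_even_iff_odd.1 fun he => V.not_dvd_index (even_iff_two_dvd.1 he)
  have h5 : Nat.card φ.range ≠ 5 := by
    intro h5
    haveI : Fact (Nat.Prime 5) := ⟨by norm_num⟩
    obtain ⟨⟨f, hf⟩, hf5⟩ := exists_prime_orderOf_dvd_card' (G := φ.range) 5 (dvd_of_eq h5.symm)
    rw [Subgroup.orderOf_mk] at hf5
    let Ψ : MulAut (V : Subgroup L) →* Equiv.Perm P := MonoidHom.mk' ψ fun f g => by ext v; rfl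
    have := (orderOf_injective Ψ hψ f).symm.trans (rfl : orderOf (Ψ f) = _)
    have h6 := orderOf_dvd_natCard (Ψ f)
    rw [orderOf_injective Ψ hψ f, hf5, Nat.card_perm, hP] at h6
    norm_num [Nat.factorial] at h6
  obtain ⟨j, hj⟩ := hodd
  rw [hcard]
  omega

namespace Crd

variable {S : Sylow 2 G} {c : Crd (S : Subgroup G) F} (hsp : ¬ c.Norml) (hB : c.swap.Norml)
include hsp hB

variable {b : G} (hb : b ∈ c.swap.A) (hbZ : b ∉ c.swap.Z) {B₁ : Subgroup G} (hF : c.swap.IsFix b B₁)
include hb hbZ hF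

/-- With trivial `wZ`, conjugates of `z` commuting with `b` are conjugate in `C(b)` into `Z`. -/
theorem exists_of_zInv_B {z x : G} (hz : z ∈ c.Z) (h1 : z ≠ 1) (hx : x ∈ zInv z b) :
    ∃ g, Commute g b ∧ g * x * g⁻¹ ∈ c.Z ∧ g * x * g⁻¹ ≠ 1 := by
  obtain ⟨hcj, hcom⟩ := hx
  have hx2 : orderOf x = 2 := orderOf_of_isConj (c.orderOf_A hz.1 h1) hcj
  obtain ⟨g, hga, hg⟩ := exists_conj_into_A hB hb hbZ (zpowers x)
    (zpowers_le.2 (mem_centralizer_singleton_iff.2 hcom.eq))
    (IsPGroup.of_card (n := 1) (by rw [Nat.card_zpowers, hx2, pow_one]))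
  have hgx := hg x (mem_zpowers x)
  rw [swap_A] at hgx
  obtain ⟨h, rfl⟩ := isConj_iff.1 hcj
  have := mem_A_of_conj_Z hsp hB (g := g * h) hz h1 (by rw [conj_conj]; exact hgx.1)
  rw [conj_conj] at this
  exact ⟨g, hga, c.mem_Z.2 ⟨this.1, this.2, hgx.2⟩, fun e => Invol.ne_one hx2 (conj_eq_one_iff.1 e)⟩

/-- The pairs counted at `b` are those of the quotient. -/
theorem ncard_zPairs_B (hO : oddCore G = ⊥) {z : G} (hz : z ∈ c.Z) (h1 : z ≠ 1) :
    (zPairs z b).ncard = (letI := kerL_normal hB hb hbZ hF;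
      (oddPairs (centralizer ({b} : Set G) ⧸ kerL b B₁)).ncard) ∧
    Nat.card (centralizer ({b} : Set G)) = 4 * (letI := kerL_normal hB hb hbZ hF;
      Nat.card (centralizer ({b} : Set G) ⧸ kerL b B₁)) := by
  classical
  letI := kerL_normal hB hb hbZ hF
  have hW := wZ_eq_bot hsp hB hO
  have hthb : th b = ⊥ := le_bot_iff.1 (by
    have := c.swap.th_le_wZ hb
    rwa [swap_wZ, hW] at this)
  set π := QuotientGroup.mk' (kerL b B₁)
  have hker : ∀ w ∈ kerL b B₁, (w : G) ∈ B₁ := fun w hw => by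
    obtain ⟨o, ho, u, hu, e⟩ := exists_of_mem_kerL hB hb hbZ hF hw
    rw [hthb, mem_bot] at ho
    rw [← e, ho, one_mul]; exact hu
  have hcentral : ∀ g, Commute g b → ∀ u ∈ B₁, Commute g u := fun g hg u hu => by
    obtain ⟨o, ho, hog⟩ := exists_th_mul_cent hB hb hbZ hF (mem_centralizer_singleton_iff.2 hg.eq)
    rw [hthb, mem_bot] at ho
    have := hog u hu
    rw [ho, one_mul] at this
    exact mul_inv_eq_iff_eq_mul.1 this
  -- a conjugate of `z` times a nontrivial element of `B₁` is no conjugate of `z`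
  have hne : ∀ x ∈ zInv z b, ∀ u ∈ B₁, u ≠ 1 → ¬ IsConj z (x * u) := by
    intro x hx u hu hu1 hcj
    obtain ⟨g, hga, hgZ, -⟩ := exists_of_zInv_B hsp hB hb hbZ hF hz h1 hx
    have e : g * (x * u) * g⁻¹ = g * x * g⁻¹ * u := by
      rw [show g * (x * u) * g⁻¹ = g * x * g⁻¹ * (g * u * g⁻¹) by group, (hcentral g hga u hu).eq,
        mul_inv_cancel_right]
    have huB : u ∈ c.B := by have := hF.le hu; rwa [swap_A] at this
    have huZ : u ∉ c.swap.Z := fun h => hu1 (hF.disj u hu h)
    rw [swap_Z] at huZ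
    obtain ⟨h, hh⟩ := isConj_iff.1 hcj
    have := mem_A_of_conj_Z hsp hB (g := g * h) hz h1
      (by rw [conj_conj, hh, e]; exact (mul_mem hgZ.2 huB).1)
    rw [conj_conj, hh, e] at this
    exact huZ ((c.Z.mul_mem_cancel_left hgZ).1 (c.mem_Z.2 ⟨this.1, this.2, (mul_mem hgZ.2 huB).2⟩))
  let f : G → centralizer ({b} : Set G) ⧸ kerL b B₁ := fun x =>
    if h : Commute x b then π ⟨x, mem_centralizer_singleton_iff.2 h.eq⟩ else 1
  have hfx : ∀ {x : G} (h : Commute x b), f x = π ⟨x, mem_centralizer_singleton_iff.2 h.eq⟩ :=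
    fun h => dif_pos h
  have hinj : Set.InjOn f (zInv z b) := by
    intro x hx y hy e
    rw [hfx hx.2, hfx hy.2] at e
    have hu := hker ((⟨x, mem_centralizer_singleton_iff.2 hx.2.eq⟩ : centralizer ({b} : Set G))⁻¹ *
      ⟨y, mem_centralizer_singleton_iff.2 hy.2.eq⟩) (by
      rw [← QuotientGroup.eq_one_iff, ← QuotientGroup.mk'_apply, map_mul, map_inv, e, inv_mul_cancel])
    by_contra hxy
    refine hne x hx _ hu (fun h => hxy ?_) ?_
    · exact inv_mul_eq_one.1 h
    · simpa using hy.1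
  have himg : ∀ x ∈ zInv z b, orderOf (f x) = 2 := fun x hx => by
    obtain ⟨g, hga, hgZ, hg1⟩ := exists_of_zInv_B hsp hB hb hbZ hF hz h1 hx
    rw [hfx hx.2]
    refine Invol.orderOf_eq_two_of (fun e => hg1 ?_) ?_
    · exact eq_one_of_Z hB hb hbZ hF (by rw [swap_Z]; exact hgZ) ((kerL_normal hB hb hbZ hF).conj_mem _
        ((QuotientGroup.eq_one_iff _).1 e) ⟨g, mem_centralizer_singleton_iff.2 hga.eq⟩) rfl
    · rw [← map_mul, show (⟨x, mem_centralizer_singleton_iff.2 hx.2.eq⟩ : centralizer ({b} : Set G)) * ⟨x, _⟩ = 1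
        from Subtype.ext (Invol.inv_mul_self (orderOf_of_isConj (c.orderOf_A hz.1 h1) hx.1)), map_one]
  obtain ⟨V, hV, hVe, -⟩ := fourData hB hb hbZ hF
  have hsurj : ∀ l ∈ invols (centralizer ({b} : Set G) ⧸ kerL b B₁), ∃ x ∈ zInv z b, f x = l := by
    intro l hl
    obtain ⟨p, hp⟩ := hV.exists_conj hl
    rw [hVe] at hp
    obtain ⟨w, hw, e⟩ := hp
    obtain ⟨p', rfl⟩ := QuotientGroup.mk'_surjective _ p
    have hw1 : (w : G) ≠ 1 := fun e' => Invol.ne_one hl (conj_eq_one_iff.1 (by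
      rw [← e, show w = 1 from Subtype.ext e', map_one]))
    have hwZ : (w : G) ∈ c.Z := by
      have : (w : G) ∈ c.swap.Z := hw
      rwa [swap_Z] at this
    set x : centralizer ({b} : Set G) := p'⁻¹ * w * p' with hx
    have hxb : Commute (x : G) b := mem_centralizer_singleton_iff.1 x.2
    refine ⟨x, ⟨(c.isConj_A hsp hz h1 hwZ.1 hw1).trans (isConj_iff.2 ⟨(p' : G)⁻¹, by simp [hx]⟩), hxb⟩, ?_⟩
    rw [hfx hxb]
    show π x = l
    rw [hx, map_mul, map_mul, map_inv, e]
    simp only [π]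
    group
  have hodd : ∀ x ∈ zInv z b, ∀ y ∈ zInv z b, (Odd (orderOf (x * y)) ↔ Odd (orderOf (f x * f y))) := by
    intro x hx y hy
    rw [hfx hx.2, hfx hy.2, ← map_mul]
    constructor
    · intro h
      refine h.of_dvd_nat ((orderOf_map_dvd π _).trans (dvd_of_eq ?_))
      exact (Subgroup.orderOf_coe (H := centralizer ({b} : Set G)) _).symm
    · intro h
      set k := orderOf (π (⟨x, mem_centralizer_singleton_iff.2 hx.2.eq⟩ *
        ⟨y, mem_centralizer_singleton_iff.2 hy.2.eq⟩ : centralizer ({b} : Set G))) with hk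
      obtain ⟨i, hi⟩ := h
      set d := x * y with hd
      have hu : d ^ k ∈ B₁ := by
        have := hker ((⟨x, mem_centralizer_singleton_iff.2 hx.2.eq⟩ *
          ⟨y, mem_centralizer_singleton_iff.2 hy.2.eq⟩ : centralizer ({b} : Set G)) ^ k) (by
          rw [← QuotientGroup.eq_one_iff, ← QuotientGroup.mk'_apply, map_pow, hk, pow_orderOf_eq_one])
        simpa [hd] using this
      by_cases hu1 : d ^ k = 1
      · exact Odd.of_dvd_nat ⟨i, hi⟩ (orderOf_dvd_of_pow_eq_one hu1)
      exfalso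
      refine hne x hx _ hu hu1 (hy.1.trans (IsConj.symm (isConj_iff.2 ⟨d ^ (i : ℤ), ?_⟩)))
      have h2 := orderOf_of_isConj (c.orderOf_A hz.1 h1) hx.1
      have h2' := orderOf_of_isConj (c.orderOf_A hz.1 h1) hy.1
      have hxd := Invol.zpow_mul_of_inverts (Invol.inv_mul_self h2) (Invol.conj_mul_left h2 h2') (i : ℤ)
      rw [hd, hi, show (x * y) ^ (i : ℤ) * (x * (x * y) ^ (2 * i + 1)) * ((x * y) ^ (i : ℤ))⁻¹ =
        (x * y) ^ (i : ℤ) * x * ((x * y) ^ (2 * i + 1) * ((x * y) ^ (i : ℤ))⁻¹) by group, hxd, mul_assoc,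
        ← zpow_natCast (x * y) (2 * i + 1), ← zpow_neg, ← zpow_add, ← zpow_add]
      push_cast
      ring_nf
      rw [zpow_one, ← mul_assoc, Invol.inv_mul_self h2, one_mul]
  refine ⟨?_, ?_⟩
  · refine Set.ncard_congr (fun p _ => (f p.1, f p.2)) ?_ ?_ ?_
    · rintro p ⟨hx, hy, h⟩
      exact ⟨himg _ hx, himg _ hy, (hodd _ hx _ hy).1 h⟩
    · rintro p q ⟨hx, hy, -⟩ ⟨hx', hy', -⟩ e
      exact Prod.ext (hinj hx hx' (congrArg Prod.fst e)) (hinj hy hy' (congrArg Prod.snd e))
    · rintro ⟨l, l'⟩ ⟨hl, hl', h⟩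
      obtain ⟨x, hx, rfl⟩ := hsurj l hl
      obtain ⟨y, hy, rfl⟩ := hsurj l' hl'
      exact ⟨(x, y), ⟨hx, hy, (hodd x hx y hy).2 h⟩, rfl⟩
  · rw [← (kerL b B₁).card_mul_index, Subgroup.index_eq_card]
    congr 1
    have hB₁ : Nat.card B₁ = 4 := by
      have hbij : Function.Bijective (fun p : B₁ × c.swap.Z =>
          (⟨(p.1 : G) * p.2, mul_mem (hF.le p.1.2) (c.swap.Z_le_A p.2.2)⟩ : c.swap.A)) := by
        constructor
        · intro p q e
          have e' : (p.1 : G) * p.2 = q.1 * q.2 := congrArg Subtype.val e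
          have hm : (q.1 : G)⁻¹ * p.1 = q.2 * (p.2 : G)⁻¹ := by
            rw [inv_mul_eq_iff_eq_mul, ← mul_assoc, ← e', mul_inv_cancel_right]
          have h := hF.disj _ (mul_mem (inv_mem q.1.2) p.1.2) (by rw [hm]; exact mul_mem q.2.2 (inv_mem p.2.2))
          rw [inv_mul_eq_one] at h
          exact Prod.ext (Subtype.ext h.symm) (Subtype.ext (mul_left_cancel (a := (p.1 : G)) (by
            rw [e', h])))
        · intro x
          obtain ⟨u, hu, w, hw, e⟩ := hF.cover x x.2
          exact ⟨(⟨u, hu⟩, ⟨w, hw⟩), Subtype.ext e⟩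
      have := Nat.card_eq_of_bijective _ hbij
      rw [Nat.card_prod, c.swap.card_A, c.swap.card_Z] at this
      omega
    rw [← hB₁]
    refine Nat.card_congr
      { toFun := fun w => ⟨(w : centralizer ({b} : Set G)), hker w w.2⟩
        invFun := fun u => ⟨⟨u, mem_centralizer_singleton_iff.2 (c.swap.commute_A (hF.le u.2) hb).eq⟩,
          mem_sup_right u.2⟩
        left_inv := fun w => rfl
        right_inv := fun u => rfl }

end Crd

namespace Crd

variable {S : Sylow 2 G} {c : Crd (S : Subgroup G) F}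

/-- A simple group has no `A` spread and `B` unspread. -/
theorem false_of_mixed [IsSimpleGroup G] (hG : ¬ IsMulCommutative G) (hsp : ¬ c.Norml) (hB : c.swap.Norml) :
    False := by
  classical
  haveI : Fact (Nat.Prime 2) := ⟨Nat.prime_two⟩
  have hO := oddCore_bot_of_simple c.even_card
  have hW := wZ_eq_bot hsp hB hO
  set z := c.pt 0 0 1 with hzdef
  set b := c.pt 1 0 0 with hbdef
  have hz : z ∈ c.Z := c.pt_mem_Z 1
  have h1 : z ≠ 1 := fun e => one_ne_zero (α := F) (by rw [← W_pt c (0 : F) 0 1, ← hzdef, e, c.W_one])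
  have hbB : b ∈ c.B := c.pt_mem_B ..
  have hb : b ∈ c.swap.A := by rw [swap_A]; exact hbB
  have hbZB : b ∉ c.Z := fun h => by simpa [hbdef] using h.1.2
  have hbZ : b ∉ c.swap.Z := by rw [swap_Z]; exact hbZB
  have hz2 := c.orderOf_A hz.1 h1
  have hb2 := c.swap.orderOf_A hb fun e => hbZB (e ▸ one_mem _)
  have hzb := not_isConj_B hsp hB hz h1 hbB hbZB
  have hth : th z = ⊥ := le_bot_iff.1 (hW ▸ c.le_wZ hz h1)
  have hCS := c.cent_le_normS hz h1 hth
  obtain ⟨n, hn, α, β, hα, hns⟩ := c.exists_move_X hsp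
  have hclassB : ∀ x ∈ c.B, x ∉ c.Z → IsConj b x := fun x hx hxZ => by
    obtain ⟨g, -, hg⟩ := exists_conj_AZ (c := c.swap) hB hn hα
      (fun s hs => by rw [swap_Y, swap_Y]; exact (hns s hs).1) (K := ⊤) le_top (mem_top _) hb hbZ
      (by rw [swap_A]; exact hx) (by rw [swap_Z]; exact hxZ)
    exact isConj_iff.2 ⟨g, hg⟩
  have hall : ∀ t : G, orderOf t = 2 → IsConj z t ∨ IsConj b t := by
    intro t ht
    obtain ⟨g, hg⟩ := c.exists_conj_invol ht
    have hc : IsConj t (g * t * g⁻¹) := isConj_iff.2 ⟨g, rfl⟩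
    have hne : g * t * g⁻¹ ≠ 1 := fun e => Invol.ne_one ht (conj_eq_one_iff.1 e)
    by_cases hA : g * t * g⁻¹ ∈ c.A
    · exact Or.inl ((c.isConj_A hsp hz h1 hA hne).trans hc.symm)
    · exact Or.inr ((hclassB _ (hg.resolve_left hA) fun h => hA (c.Z_le_A h)).trans hc.symm)
  set Cz := Nat.card (centralizer ({z} : Set G)) with hCz
  set Cb := Nat.card (centralizer ({b} : Set G)) with hCb
  have N1 : Nat.card {p : G × G // IsConj z p.1 ∧ IsConj b p.2 ∧ z ∈ zpowers (p.1 * p.2)} = 48 := by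
    rw [← c.card_commPairs hz h1]
    show Nat.card ({p : G × G | IsConj z p.1 ∧ IsConj b p.2 ∧ z ∈ zpowers (p.1 * p.2)} : Set (G × G)) = _
    rw [Nat.card_coe_set_eq]
    congr 1
    ext ⟨x, y⟩
    constructor
    · rintro ⟨hx, hy, hzp⟩
      have hx2 := orderOf_of_isConj hz2 hx
      have hy2 := orderOf_of_isConj hb2 hy
      obtain ⟨hxz, hyz⟩ := commute_of_mem_zpowers hx2 hy2 (c.sq_Z hz) hzp
      have hxS := mem_sylow_of_pow (hCS (mem_centralizer_singleton_iff.2 hxz.eq)) (i := 1) (by rw [hx2, pow_one])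
      have hyS := mem_sylow_of_pow (hCS (mem_centralizer_singleton_iff.2 hyz.eq)) (i := 1) (by rw [hy2, pow_one])
      have hxA : x ∈ c.A := by
        obtain ⟨g, rfl⟩ := isConj_iff.1 hx
        exact mem_A_of_conj_Z hsp hB hz h1 hxS
      have hyA : y ∉ c.A := fun hyA =>
        hzb ((c.isConj_A hsp hz h1 hyA (Invol.ne_one hy2)).trans hy.symm)
      have hyB : y ∈ c.B := ((c.sq_eq_one_iff hyS).1 (Invol.inv_mul_self hy2)).resolve_left hyA
      have hxZ : x ∉ c.Z := by
        intro hxZ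
        have hxy : (x * y) * (x * y) = 1 := c.sq_B (mul_mem hxZ.2 hyB)
        obtain ⟨k, hk⟩ := (Submonoid.mem_powers_iff _ _).1 (mem_powers_iff_mem_zpowers.2 hzp)
        rcases Nat.even_or_odd' k with ⟨j, rfl | rfl⟩
        · rw [pow_mul, pow_two, hxy, one_pow] at hk; exact h1 hk.symm
        · rw [pow_succ, pow_mul, pow_two, hxy, one_pow, one_mul] at hk
          exact hyA (c.Z_le_A ((c.Z.mul_mem_cancel_left hxZ).1 (hk.symm ▸ hz)))
      have hyZ : y ∉ c.Z := fun h => hyA (c.Z_le_A h)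
      exact ⟨⟨hxA, hxZ⟩, ⟨hyB, hyZ⟩,
        (mem_zpowers_iff_comm hz h1 hxz hyz hxA hxZ hyB hyZ (thRel.refl z x) (thRel.refl z y)).1 hzp⟩
    · rintro ⟨⟨hxA, hxZ⟩, ⟨hyB, hyZ⟩, he⟩
      refine ⟨c.isConj_A hsp hz h1 hxA fun e => hxZ (e ▸ one_mem _), hclassB y hyB hyZ, ?_⟩
      exact (mem_zpowers_iff_comm hz h1 (c.commute_A hxA hz.1) (c.commute_B hyB hz.2) hxA hxZ hyB hyZ
        (thRel.refl z x) (thRel.refl z y)).2 he
  obtain ⟨B₁, hF⟩ := c.swap.exists_fix hB hb hbZ
  have hBal := bal_swap hsp hB hO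
  have N2 : Nat.card {p : G × G // IsConj z p.1 ∧ IsConj b p.2 ∧ b ∈ zpowers (p.1 * p.2)} = (zPairs z b).ncard := by
    have hb1 := Invol.ne_one hb2
    show Nat.card ({q : G × G | IsConj z q.1 ∧ IsConj b q.2 ∧ b ∈ zpowers (q.1 * q.2)} : Set (G × G)) = _
    rw [Nat.card_coe_set_eq, ← Set.ncard_image_of_injective (f := fun q : G × G => (q.1, q.2 * b)) (zPairs z b)
      fun p q e => Prod.ext (congrArg Prod.fst e :) (mul_right_cancel (congrArg Prod.snd e :))]
    congr 1
    ext ⟨x, y⟩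
    constructor
    · rintro ⟨hx, hy, hmem⟩
      have hx2 := orderOf_of_isConj hz2 hx
      have hy2 := orderOf_of_isConj hb2 hy
      obtain ⟨hxb, hyb⟩ := commute_of_mem_zpowers hx2 hy2 (Invol.inv_mul_self hb2) hmem
      set d := x * y with hd
      have heven : Even (orderOf d) := by
        rw [← Nat.not_odd_iff_even]
        intro h
        exact hzb (hx.trans ((Invol.isConj_of_odd hx2 hy2 h).trans hy.symm))
      obtain ⟨k, hk⟩ := heven
      have hbk : b = d ^ k := by
        obtain ⟨i, hi⟩ := (Submonoid.mem_powers_iff _ _).1 (mem_powers_iff_mem_zpowers.2 hmem)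
        have hdvd : orderOf d ∣ i * 2 := by
          rw [orderOf_dvd_iff_pow_eq_one, pow_mul, hi, pow_two, Invol.inv_mul_self hb2]
        rw [hk, ← two_mul, mul_comm i 2] at hdvd
        obtain ⟨r, hr⟩ := Nat.dvd_of_mul_dvd_mul_left (by norm_num) hdvd
        have hsq : d ^ k * d ^ k = 1 := by rw [← pow_add, ← hk, pow_orderOf_eq_one]
        rcases Nat.even_or_odd' r with ⟨j, rfl | rfl⟩
        · exfalso
          rw [hr, pow_mul, pow_mul, pow_two, hsq, one_pow] at hi
          exact hb1 hi.symm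
        · rw [← hi, hr, pow_mul, pow_succ, pow_mul, pow_two, hsq, one_pow, one_mul]
      have hkodd : Odd k := by
        rw [← Nat.not_even_iff_odd]
        intro ⟨j, hj⟩
        refine hb1 ?_
        rw [hbk, hj, pow_add]
        exact sq_eq_one_of_pow_two hB hb hbZ (x := d ^ j) ((hxb.mul_left hyb).pow_left j)
          (by rw [← pow_mul, show j * 4 = orderOf d by omega, pow_orderOf_eq_one])
      obtain ⟨i, hi⟩ := hkodd
      have e1 : y = x * d := by rw [hd, ← mul_assoc, Invol.inv_mul_self hx2, one_mul]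
      have e2 : y * b = x * d ^ (2 * (i + 1)) := by
        rw [hbk, hi, e1, mul_assoc, ← pow_succ', show 2 * i + 1 + 1 = 2 * (i + 1) by ring]
      refine ⟨(x, y * b), ⟨⟨hx, hxb⟩, ⟨hx.trans ?_, hyb.mul_left (Commute.refl b)⟩, ?_⟩,
        Prod.ext rfl (show y * b * b = y by rw [mul_assoc, Invol.inv_mul_self hb2, mul_one])⟩
      · rw [e2, hd]; exact (isConj_mul_of_commute hx2 hy2 (i + 1)).symm
      · rw [e2, ← mul_assoc, Invol.inv_mul_self hx2, one_mul]
        refine Odd.of_dvd_nat (show Odd k from ⟨i, hi⟩) (orderOf_dvd_of_pow_eq_one ?_)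
        rw [← pow_mul, show 2 * (i + 1) * k = orderOf d * (i + 1) by rw [hk]; ring, pow_mul,
          pow_orderOf_eq_one, one_pow]
    · rintro ⟨⟨x', x''⟩, ⟨hx, hx'', hodd⟩, e⟩
      obtain ⟨rfl, rfl⟩ := Prod.ext_iff.1 e
      refine ⟨hx.1, ?_, ?_⟩
      · obtain ⟨g, hga, hgZ, -⟩ := exists_of_zInv_B hsp hB hb hbZ hF hz h1 hx''
        have e' : g * (x'' * b) * g⁻¹ = g * x'' * g⁻¹ * b := by
          rw [show g * (x'' * b) * g⁻¹ = g * x'' * g⁻¹ * (g * b * g⁻¹) by group, hga.eq, mul_inv_cancel_right]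
        exact (hclassB _ (mul_mem hgZ.2 hbB) fun h => hbZB ((c.Z.mul_mem_cancel_left hgZ).1 h)).trans
          ((isConj_iff.2 ⟨g, e'⟩).symm)
      · show b ∈ zpowers (x' * (x'' * b))
        rw [← mul_assoc]
        obtain ⟨j, hj⟩ := hodd
        refine mem_zpowers_iff.2 ⟨(orderOf (x' * x'') : ℤ), ?_⟩
        have hc : Commute (x' * x'') b := hx.2.mul_left hx''.2
        rw [zpow_natCast, hc.mul_pow, pow_orderOf_eq_one, one_mul, hj, pow_succ, pow_mul, pow_two,
          Invol.inv_mul_self hb2, one_pow, one_mul]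
  have hG' := Cfsg.Agent.S0213.result z b hz2 hb2 hzb hall
  rw [N1, N2, ← hCz, ← hCb] at hG'
  obtain ⟨hP, hCb4⟩ := ncard_zPairs_B hsp hB hb hbZ hF hO hz h1
  letI := kerL_normal hB hb hbZ hF
  -- the normaliser of `A`
  have hNA := c.card_normA hsp hz h1 (hCS.trans c.normS_le_norm_A)
  rw [← hCz] at hNA
  have hdvd := (normalizer (c.A : Set G)).card_subgroup_dvd_card
  have hne : Nat.card (normalizer (c.A : Set G)) ≠ Nat.card G := by
    intro e
    have hn' : c.A.Normal := normalizer_eq_top_iff.1 (Subgroup.eq_top_of_card_eq _ e)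
    have := noTwoCore_of_simple hG c.A hn' c.A_isPGroup
    have h16 := c.card_A
    rw [this, card_bot] at h16
    omega
  obtain ⟨hz64, hz192⟩ := c.card_cent_Z hz h1 hth
  rw [← hCz] at hz64 hz192
  obtain ⟨V, hV, hVe, -⟩ := fourData hB hb hbZ hF
  have hthV : ∀ v ∈ (V : Subgroup (centralizer ({b} : Set G) ⧸ kerL b B₁)), v ≠ 1 → th v = ⊥ := fun v hv hv1 => by
    rw [hVe] at hv
    obtain ⟨w, hw, rfl⟩ := hv
    exact th_bot_B hsp hB hb hbZ hF hO hw fun e => hv1 (by rw [show w = 1 from Subtype.ext e, map_one])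
  rw [hP] at hG'
  rw [← hCb] at hCb4
  rcases hV.normal_or_a5 (oddCore_quotient hB hb hbZ hF) hthV with hn' | ⟨⟨e5⟩⟩
  · have h3 : (oddPairs (centralizer ({b} : Set G) ⧸ kerL b B₁)).ncard = 3 := by
      have hI : (invols (centralizer ({b} : Set G) ⧸ kerL b B₁)).ncard = 3 := by
        have : invols (centralizer ({b} : Set G) ⧸ kerL b B₁) =
            ((V : Subgroup (centralizer ({b} : Set G) ⧸ kerL b B₁)) : Set (centralizer ({b} : Set G) ⧸ kerL b B₁)) \ {1} := by
          ext x
          refine ⟨fun hx => ⟨?_, Invol.ne_one hx⟩, fun hx => hV.orderOf_two hx.1 hx.2⟩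
          obtain ⟨g, hg⟩ := hV.exists_conj hx
          show x ∈ (V : Subgroup (centralizer ({b} : Set G) ⧸ kerL b B₁))
          simpa [mul_assoc] using hn'.conj_mem _ hg g⁻¹
        rw [this, Set.ncard_sdiff_singleton_of_mem (one_mem (V : Subgroup (centralizer ({b} : Set G) ⧸ kerL b B₁))), ← Nat.card_coe_set_eq,
          SetLike.coe_sort_coe, hV.card]
      have := hV.sq_eq_oddPairs hn'
      rw [hI] at this
      omega
    rw [h3] at hG'
    have hL := hV.card_of_normal hthV hn'
    rw [hG', hNA] at hdvd hne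
    rcases hz64 with h | h <;> rcases hL with hl | hl <;> rw [hl] at hCb4 <;> rw [hCb4, h] at hdvd hne <;>
      first
      | exact absurd rfl hne
      | exact absurd hdvd (by decide)
  · -- the quotient is `A₅`, so some element of `C(z)` moves `X`
    have h60 := a5_card e5
    rw [oddPairs_a5 e5] at hG'
    rw [h60] at hCb4
    have hmove : ∃ g ∈ normalizer (c.swap.A : Set G), Commute g b ∧
        ∃ w ∈ c.swap.Z, g * w * g⁻¹ ≠ w := by
      by_contra hall'
      push Not at hall'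
      haveI : IsMulCommutative (V : Subgroup (centralizer ({b} : Set G) ⧸ kerL b B₁)) :=
        ⟨⟨fun p q => Subtype.ext (hV.comm p.2 q.2).eq⟩⟩
      set π := QuotientGroup.mk' (kerL b B₁) with hπ
      have hburn : normalizer ((V : Subgroup (centralizer ({b} : Set G) ⧸ kerL b B₁)) :
            Set (centralizer ({b} : Set G) ⧸ kerL b B₁)) ≤
          centralizer ((V : Subgroup (centralizer ({b} : Set G) ⧸ kerL b B₁)) :
            Set (centralizer ({b} : Set G) ⧸ kerL b B₁)) := by
        intro l hl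
        obtain ⟨g, rfl⟩ := QuotientGroup.mk'_surjective _ l
        obtain ⟨m, hm, hmg⟩ := exists_norm_of_quotient hB hb hbZ hF (g := g) fun w hw => by
          have h2 := conj_mem_of_norm hl
            (show π w ∈ (V : Subgroup (centralizer ({b} : Set G) ⧸ kerL b B₁)) by rw [hVe]; exact ⟨w, hw, rfl⟩)
          rw [hVe] at h2
          obtain ⟨w', hw', e⟩ := h2
          refine ⟨w', hw', ?_⟩
          rw [← QuotientGroup.eq_one_iff, ← QuotientGroup.mk'_apply, ← hπ, map_mul, map_inv, map_mul, map_mul,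
            map_inv, e, inv_mul_cancel]
        refine mem_centralizer_iff.2 fun v hv => ?_
        replace hv : v ∈ (V : Subgroup (centralizer ({b} : Set G) ⧸ kerL b B₁)) := hv
        rw [hVe] at hv
        obtain ⟨w, hw, rfl⟩ := hv
        have h2 := hall' _ hmg (mem_centralizer_singleton_iff.1 (m * g).2) w hw
        have h3 : Commute (m * g) w := Subtype.ext (mul_inv_eq_iff_eq_mul.1 h2)
        have h4 := h3.map π
        rw [map_mul, show π m = 1 from (QuotientGroup.eq_one_iff _).2 hm, one_mul] at h4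
        exact h4.eq.symm
      obtain ⟨P, N, hNn, hc⟩ := Fusion.hasNormalPComplement_of_normalizer_le_centralizer V hburn
      have hN1 : N = ⊥ := le_bot_iff.1 (oddCore_quotient hB hb hbZ hF ▸ ZStar.le_oddCore hNn
        (Nat.coprime_two_right.1 (Fusion.coprime_card_of_complement hc)))
      have h4 := hc.card_mul
      rw [hN1, card_bot, one_mul, Nat.card_congr (Sylow.equiv P V).toEquiv, hV.card, h60] at h4
      omega
    obtain ⟨g, hg, hgb, w, hw, hgw⟩ := hmove
    obtain ⟨u, v, hu, hv, hYg, hWg, p, hp, hps⟩ := c.swap.exists_scal_of_norm hg (hB hg)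
    have hb0 : c.swap.Y b ≠ 0 := fun e => hbZ ⟨hb, hb.1, e⟩
    have hv1 : v = 1 := by
      have := hYg b hb
      rw [hgb.eq, mul_inv_cancel_right] at this
      exact (mul_eq_right₀ hb0).1 this.symm
    have hu1 : u ≠ 1 := fun e => hgw (by
      have hw' := conj_mem_of_norm (hB hg) hw
      exact c.swap.ext (c.swap.Z_le hw') (c.swap.Z_le hw) (by rw [hw'.1.2, hw.1.2]) (by rw [hw'.2.2, hw.2.2])
        (by rw [hWg w hw, e, hv1, one_mul, one_mul]))
    have hsw : ∀ s ∈ (S : Subgroup G), c.Y (p * s * p⁻¹) = u * c.Y s ∧ c.X (p * s * p⁻¹) = c.X s :=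
      fun s hs => by
        have := hps s hs
        rw [swap_X, swap_X, swap_Y, swap_Y, hv1, one_mul] at this
        exact this
    have hpk : ∀ k : ℕ, ∀ s ∈ (S : Subgroup G), c.Y (p ^ k * s * (p ^ k)⁻¹) = u ^ k * c.Y s ∧
        c.X (p ^ k * s * (p ^ k)⁻¹) = c.X s := fun k => by
      induction k with
      | zero => intro s _; simp
      | succ k ih =>
        intro s hs
        rw [pow_succ, conj_conj, (ih _ (conj_mem_of_norm hp hs)).1, (ih _ (conj_mem_of_norm hp hs)).2,
          (hsw s hs).1, (hsw s hs).2, pow_succ, mul_assoc]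
        exact ⟨rfl, rfl⟩
    obtain ⟨α', β', hα0, hβ0, hsc, -⟩ := c.exists_scal hn
    have hα' : α' ≠ 1 := fun e => hα (by
      have h' := (hsc _ (c.pt_mem 1 0 0)).1
      rw [(hns _ (c.pt_mem 1 0 0)).1, e, X_pt, mul_one, mul_one] at h'
      exact h')
    obtain ⟨k, hk⟩ : ∃ k : ℕ, u ^ k = (α' * β')⁻¹ := by
      rcases field_cases c.hF hu hu1 (α' * β')⁻¹ with h | h | h | h
      · exact absurd h (inv_ne_zero (mul_ne_zero hα0 hβ0))
      · exact ⟨0, by rw [h, pow_zero]⟩
      · exact ⟨1, by rw [h, pow_one]⟩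
      · exact ⟨2, by rw [h]; linear_combination field_quad c.hF hu hu1 + (-1 : F) * field_two c.hF (u + 1)⟩
    set q := p ^ k * n with hq
    have hqS : q ∈ normalizer ((S : Subgroup G) : Set G) := mul_mem (pow_mem hp k) hn
    have hqs : ∀ s ∈ (S : Subgroup G), c.X (q * s * q⁻¹) = α' * c.X s ∧
        c.Y (q * s * q⁻¹) = u ^ k * β' * c.Y s := fun s hs => by
      rw [hq, conj_conj, (hpk k _ (conj_mem_of_norm hn hs)).1, (hpk k _ (conj_mem_of_norm hn hs)).2,
        (hsc s hs).1, (hsc s hs).2, mul_assoc]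
      exact ⟨rfl, rfl⟩
    have hqz : Commute q z := by
      obtain ⟨a', b', -, -, hs', hW'⟩ := c.exists_scal hqS
      have ea : a' = α' := by
        have h' := (hs' _ (c.pt_mem 1 0 0)).1
        rw [(hqs _ (c.pt_mem 1 0 0)).1, X_pt, mul_one, mul_one] at h'
        exact h'.symm
      have eb : b' = u ^ k * β' := by
        have h' := (hs' _ (c.pt_mem 0 1 0)).2
        rw [(hqs _ (c.pt_mem 0 1 0)).2, Y_pt, mul_one, mul_one] at h'
        exact h'.symm
      have hz' := conj_mem_of_norm (c.normS_le_norm_Z hqS) hz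
      refine mul_inv_eq_iff_eq_mul.1 (c.ext (c.Z_le hz') (c.Z_le hz) (by rw [hz'.1.2, hz.1.2])
        (by rw [hz'.2.2, hz.2.2]) ?_)
      rw [hW' z hz, ea, eb, hk]
      field_simp
    have h192 : Cz = 192 := hz192 ⟨q, hqz, _, c.pt_mem 1 0 0, by
      rw [(hqs _ (c.pt_mem 1 0 0)).1, X_pt, mul_one]; exact hα'⟩
    have h48960 : Nat.card G = 48960 := by rw [hG', h192, hCb4]
    -- no group of this order
    haveI : Fact (Nat.Prime 17) := ⟨by norm_num⟩
    obtain ⟨P⟩ := (inferInstance : Nonempty (Sylow 17 G))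
    have hPc : Nat.card (P : Subgroup G) = 17 := by
      rw [P.card_eq_multiplicity, h48960,
        show (48960 : ℕ).factorization 17 = 1 from ?_, pow_one]
      rw [show (48960 : ℕ) = 17 * 2880 by norm_num, Nat.factorization_mul (by norm_num) (by norm_num),
        Finsupp.add_apply, Nat.Prime.factorization_self (by norm_num),
        Nat.factorization_eq_zero_of_not_dvd (by norm_num)]
    set N := normalizer ((P : Subgroup G) : Set G)
    have hmod := card_sylow_modEq_one 17 G
    rw [P.card_eq_index_normalizer] at hmod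
    have hNmul := N.card_mul_index
    rw [h48960] at hNmul
    have h17 : 17 ∣ Nat.card N := hPc ▸ card_dvd_of_le le_normalizer
    -- the 2-part of the normaliser divides four
    have h8 : ¬ 8 ∣ Nat.card N := by
      intro h8
      obtain ⟨T, hT⟩ := Sylow.exists_subgroup_card_pow_prime 2 (n := 3) (G := N) (by norm_num; exact h8)
      obtain ⟨hcard, hcyc⟩ := CompOrd.mulAut_prime (Q := (P : Subgroup G)) hPc
      haveI := hcyc
      let φ : T →* MulAut (P : Subgroup G) := (P : Subgroup G).normalizerMonoidHom.comp T.subtype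
      have hφ : Function.Injective φ := by
        rw [← MonoidHom.ker_eq_bot_iff, Subgroup.eq_bot_iff_forall]
        intro t ht
        by_contra ht1
        obtain ⟨i, hi⟩ := IsPGroup.of_card hT t
        have hne2 : orderOf t ≠ 1 := fun e => ht1 (orderOf_eq_one_iff.1 e)
        obtain ⟨j, hj, hje⟩ := (Nat.dvd_prime_pow Nat.prime_two).1 (orderOf_dvd_of_pow_eq_one hi)
        have hj0 : j ≠ 0 := fun e => hne2 (by rw [hje, e, pow_zero])
        set r : T := t ^ 2 ^ (j - 1)
        have hr : orderOf r = 2 := by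
          rw [orderOf_pow_of_dvd (pow_ne_zero _ (by norm_num)) (hje ▸ pow_dvd_pow 2 (Nat.sub_le j 1)), hje,
            Nat.pow_div (Nat.sub_le j 1) (by norm_num), show j - (j - 1) = 1 by omega, pow_one]
        set rG : G := ((r : N) : G)
        have hrG : orderOf rG = 2 := by rw [Subgroup.orderOf_coe, Subgroup.orderOf_coe, hr]
        have hrker : φ r = 1 := by rw [map_pow, MonoidHom.mem_ker.1 ht, one_pow]
        have hPle : (P : Subgroup G) ≤ centralizer ({rG} : Set G) := fun x hx => by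
          refine mem_centralizer_singleton_iff.2 ?_
          have h' : rG * x * rG⁻¹ = x :=
            congrArg (fun f : MulAut (P : Subgroup G) => ((f ⟨x, hx⟩ : (P : Subgroup G)) : G)) hrker
          exact (mul_inv_eq_iff_eq_mul.1 h').symm
        have hd := card_dvd_of_le hPle
        rw [hPc] at hd
        have hcases : Nat.card (centralizer ({rG} : Set G)) = Cz ∨ Nat.card (centralizer ({rG} : Set G)) = Cb := by
          have hcj : ∀ v : G, IsConj v rG →
              Nat.card (centralizer ({rG} : Set G)) = Nat.card (centralizer ({v} : Set G)) := fun v hv => by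
            have h1' := Invol.card_conj_mul_centralizer (G := G) v
            have h2' := Invol.card_conj_mul_centralizer (G := G) rG
            have he : Nat.card {y : G // IsConj v y} = Nat.card {y : G // IsConj rG y} :=
              Nat.card_congr (Equiv.subtypeEquivRight fun y => ⟨fun h => hv.symm.trans h, fun h => hv.trans h⟩)
            rw [he, ← h2'] at h1'
            haveI : Nonempty {y : G // IsConj rG y} := ⟨⟨rG, IsConj.refl _⟩⟩
            exact (Nat.eq_of_mul_eq_mul_left Nat.card_pos h1').symm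
          rcases hall rG hrG with h | h
          · exact Or.inl (hcj z h)
          · exact Or.inr (hcj b h)
        rcases hcases with h | h <;> rw [h] at hd
        · rw [h192] at hd; norm_num at hd
        · rw [hCb4] at hd; norm_num at hd
      haveI : IsCyclic T := isCyclic_of_injective φ hφ
      obtain ⟨t, ht⟩ := IsCyclic.exists_generator (α := T)
      have ht8 := orderOf_eq_card_of_forall_mem_zpowers ht
      rw [hT] at ht8
      set tG : G := ((t : N) : G)
      have htG : orderOf tG = 8 := by rw [Subgroup.orderOf_coe, Subgroup.orderOf_coe, ht8]; rfl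
      obtain ⟨g, hg⟩ := Invol.exists_conj_mem_sylow S (K := zpowers tG)
        (IsPGroup.of_card (n := 3) (by rw [Nat.card_zpowers, htG]; rfl))
      have hgt : g * tG * g⁻¹ ∈ (S : Subgroup G) := hg tG (mem_zpowers tG)
      have hsq4 : ∀ s ∈ (S : Subgroup G), s ^ 4 = 1 := fun s hs => by
        have hs2 : s * s ∈ c.Z := c.mem_Z.2 ⟨mul_mem hs hs, by rw [c.X_mul hs hs]; exact field_two c.hF _,
          by rw [c.Y_mul hs hs]; exact field_two c.hF _⟩
        rw [show 4 = 2 * 2 from rfl, pow_mul, pow_two, pow_two, c.sq_Z hs2]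
      have hdvd8 := orderOf_dvd_of_pow_eq_one (hsq4 _ hgt)
      rw [Invol.orderOf_conj_eq, htG] at hdvd8
      norm_num at hdvd8
    set i := N.index with hidx
    set m := Nat.card N with hm
    obtain ⟨m', hm17⟩ : 17 ∣ m := h17
    have hm' : m' * i = 2880 := by rw [hm17, mul_assoc] at hNmul; omega
    have hi : i ∣ 2880 := ⟨m', by rw [← hm', mul_comm]⟩
    have h8' : ¬ 8 ∣ m' := fun h => h8 (hm17 ▸ dvd_mul_of_dvd_right h 17)
    have hdivs : ∀ i ∈ Nat.divisors 2880, i % 17 = 1 → 8 ∣ 2880 / i := by decide +kernel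
    have hmod' : i % 17 = 1 := hmod
    have hipos : 0 < i := Nat.pos_of_dvd_of_pos hi (by norm_num)
    refine h8' ?_
    have := hdivs i (Nat.mem_divisors.2 ⟨hi, by norm_num⟩) hmod'
    rwa [← hm', Nat.mul_div_cancel _ hipos] at this

end Crd

end Cfsg.Lib.Syl34
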