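import Cfsg.Agent.Lib.Syl34.StepSix
import Cfsg.Agent.Lib.Syl34.Affine
import Cfsg.Agent.Lib.Syl34.BothCount
import Cfsg.Agent.Lib.Syl34.MixedCount
import Cfsg.Agent.Lib.Linear.Mitchell.Sub3.Transvection

/-!
# A group of type `L₃(4)` with trivial odd core lies in `PGL₃(4)`
-/

set_option autoImplicit false
set_option linter.style.haveILetI false
set_option linter.unusedSectionVars false

namespace Cfsg.Lib.Syl34

open Subgroup Cfsg Cfsg.Lib

universe u

variable {G : Type u} [Group G] [Finite G] {F : Type*} [Field F] [Fintype F]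

namespace Crd

variable {S : Sylow 2 G} (c : Crd (S : Subgroup G) F)

/-- With one side spread a normal 2-subgroup makes `A` normal. -/
theorem normal_A_of_spread (hsp : ¬ c.Norml) (hO : oddCore G = ⊥) {R : Subgroup G} [R.Normal]
    (hR : IsPGroup 2 R) (hne : R ≠ ⊥) : c.A.Normal := by
  obtain ⟨z, hz, h1, hzR⟩ := c.exists_Z_of_normal hO R hne
  have hAR := c.A_le_of_normal hsp R hz h1 hzR
  have hRS := le_sylow_of_normal R hR S
  rcases c.inf_cases hsp R hAR with h | h
  · rwa [le_antisymm hAR fun r hr => h r (hRS hr) hr]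
  · refine normalizer_eq_top_iff.1 (eq_top_iff.2 fun g _ => c.normS_le_norm_A ?_)
    rw [← le_antisymm hRS h, normalizer_eq_top_iff.2 (inferInstance : R.Normal)]
    exact mem_top g

/-- With neither side spread a normal 2-subgroup makes `S` normal. -/
theorem normal_A_of_norml (hA : c.Norml) (hB : c.swap.Norml) (hO : oddCore G = ⊥) {R : Subgroup G} [R.Normal]
    (hR : IsPGroup 2 R) (hne : R ≠ ⊥) : c.A.Normal := by
  haveI : Fact (Nat.Prime 2) := ⟨Nat.prime_two⟩
  obtain ⟨z, hz, h1, hzR⟩ := c.exists_Z_of_normal hO R hne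
  have hRS := le_sylow_of_normal R hR S
  haveI hNn : (R ⊓ c.Z).Normal := ⟨fun x hx g => by
    obtain ⟨hxR, hxZ⟩ := Subgroup.mem_inf.1 hx
    have hgR : g * x * g⁻¹ ∈ R := Subgroup.Normal.conj_mem inferInstance x hxR g
    exact Subgroup.mem_inf.2 ⟨hgR, mem_Z_of_conj hA hB hxZ (hRS hgR)⟩⟩
  set C := centralizer ((R ⊓ c.Z : Subgroup G) : Set G)
  have hSC : (S : Subgroup G) ≤ C := fun s hs => mem_centralizer_iff.2 fun w hw =>
    (c.commute_Z (Subgroup.mem_inf.1 hw).2 hs).eq
  set z' : C := ⟨z, hSC (c.Z_le hz)⟩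
  have hzc : z' ∈ center C := mem_center_iff.2 fun x => Subtype.ext
    ((mem_centralizer_iff.1 x.2 z (Subgroup.mem_inf.2 ⟨hzR, hz⟩)).symm)
  have hOC : oddCore C = ⊥ := by
    rw [← map_eq_bot_iff_of_injective _ C.subtype_injective, ← le_bot_iff, ← hO]
    refine ZStar.le_oddCore ?_ ?_
    · haveI : (oddCore C).Characteristic := inferInstance
      exact ConjAct.normal_of_characteristic_of_normal
    · rw [card_map_of_injective C.subtype_injective]
      exact ZStar.odd_card_oddCore
  have hn : ((S.subtype hSC : Sylow 2 C) : Subgroup C).Normal :=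
    sylow_normal_of_central (c.sub C hSC) ((c.mem_sub_Z (x := z')).2 hz)
      (fun e => h1 (congrArg Subtype.val e)) hzc hOC
  haveI := (S.subtype hSC : Sylow 2 C).characteristic_of_normal hn
  have hSn : (S : Subgroup G).Normal := by
    have h : (((S.subtype hSC : Sylow 2 C) : Subgroup C).map C.subtype).Normal :=
      ConjAct.normal_of_characteristic_of_normal
    rwa [Sylow.coe_subtype, map_subgroupOf_eq_of_le hSC] at h
  refine normalizer_eq_top_iff.1 (eq_top_iff.2 fun g _ => c.normS_le_norm_A ?_)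
  rw [normalizer_eq_top_iff.2 hSn]
  exact mem_top g

/-- Without 2-core and with one side spread. -/
theorem embed_of_simple (hA : ¬ c.Norml) (hO : oddCore G = ⊥) (hT : NoTwoCore G) :
    ∃ f : G →* GL (Fin 3) F ⧸ Subgroup.center (GL (Fin 3) F), Function.Injective f := by
  classical
  haveI : Fact (Nat.Prime 2) := ⟨Nat.prime_two⟩
  obtain ⟨T, hTn, hST, hTs, hTc, hTC⟩ := c.exists_simple hA hO hT
  haveI := hTn
  haveI := hTs
  have hA' := c.sub_spread hST hA
  by_cases hB : (c.sub T hST).swap.Norml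
  · exact ((c.sub T hST).false_of_mixed hTc hA' hB).elim
  obtain ⟨K, iK, jK, hK, ⟨e⟩⟩ := psl34_of_spread (Nat.card T) rfl hTs hTc (c.sub T hST) hA' hB
  letI := iK
  letI := jK
  refine embed_of_psl34 c.hF T hTC
    (e.trans (Linear.Mitchell.Sub3.pslCongr 3 (FiniteField.ringEquivOfCardEq (hK.trans c.hF.symm))))
    (Nat.not_even_iff_odd.1 fun he => S.not_dvd_index ((even_iff_two_dvd.1 he).trans (index_dvd_of_le hST)))

include c in
/-- A group with trivial odd core and a Sylow 2-subgroup of type `L₃(4)` lies in `PGL₃(4)`. -/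
theorem embed (hO : oddCore G = ⊥) :
    ∃ f : G →* GL (Fin 3) F ⧸ Subgroup.center (GL (Fin 3) F), Function.Injective f := by
  by_cases hT : NoTwoCore G
  · by_cases hA : c.Norml
    · by_cases hB : c.swap.Norml
      · exact (c.false_of_norml hA hB hO hT).elim
      · exact c.swap.embed_of_simple hB hO hT
    · exact c.embed_of_simple hA hO hT
  simp only [NoTwoCore, not_forall] at hT
  obtain ⟨R, hR, hR2, hne⟩ := hT
  haveI := hR
  by_cases hA : c.Norml
  · by_cases hB : c.swap.Norml
    · exact c.embed_of_normal_A hO (c.normal_A_of_norml hA hB hO hR2 hne)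
    · exact c.swap.embed_of_normal_A hO (c.swap.normal_A_of_spread hB hO hR2 hne)
  · exact c.embed_of_normal_A hO (c.normal_A_of_spread hA hO hR2 hne)

end Crd

end Cfsg.Lib.Syl34
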