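import Cfsg.Agent.Lib.Syl34.Loc
import Cfsg.Agent.Lib.Fusion.Abelian
import Cfsg.Agent.Lib.Core.Cores
import Cfsg.Agent.Lib.ZStar.Basic

/-!
# Carrying coordinates to quotients and subgroups
-/

set_option autoImplicit false
set_option linter.style.haveILetI false
set_option linter.unusedSectionVars false

namespace Cfsg.Lib.Syl34

open Subgroup Cfsg Cfsg.Lib

variable {G : Type*} [Group G] {F : Type*} [Field F] [Fintype F]

namespace Crd

variable {H : Type*} [Group H] {S : Subgroup G} (c : Crd S F)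

/-- Coordinates on the image under a homomorphism injective on `S`. -/
noncomputable def push (f : G →* H) (T : Subgroup H) (hT : S.map f = T)
    (hinj : ∀ s ∈ S, f s = 1 → s = 1) : Crd T F :=
  c.ofEquiv ((MulEquiv.ofBijective (f.subgroupMap S) ⟨fun x y e => by
      refine Subtype.ext (inv_mul_eq_one.1 (hinj _ (mul_mem (inv_mem x.2) y.2) ?_))
      have e' : f x = f y := congrArg Subtype.val e
      rw [map_mul, map_inv, e', inv_mul_cancel],
    f.subgroupMap_surjective S⟩).trans (MulEquiv.subgroupCongr hT)).symm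

variable (f : G →* H) (T : Subgroup H) (hT : S.map f = T) (hinj : ∀ s ∈ S, f s = 1 → s = 1)

theorem push_apply {s : G} (hs : s ∈ S) :
    (c.push f T hT hinj).e ⟨f s, hT ▸ ⟨s, hs, rfl⟩⟩ = c.e ⟨s, hs⟩ := by
  simp only [push, ofEquiv, Equiv.trans_apply, MulEquiv.toEquiv_eq_coe, EquivLike.coe_coe]
  congr 1
  rw [MulEquiv.symm_apply_eq]
  exact Subtype.ext rfl

theorem push_X {s : G} (hs : s ∈ S) : (c.push f T hT hinj).X (f s) = c.X s := by
  rw [X_eq _ (hT ▸ ⟨s, hs, rfl⟩ : f s ∈ T), c.push_apply f T hT hinj hs, c.X_eq hs]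

theorem push_Y {s : G} (hs : s ∈ S) : (c.push f T hT hinj).Y (f s) = c.Y s := by
  rw [Y_eq _ (hT ▸ ⟨s, hs, rfl⟩ : f s ∈ T), c.push_apply f T hT hinj hs, c.Y_eq hs]

@[simp] theorem push_A : (c.push f T hT hinj).A = c.A.map f := by
  ext x
  constructor
  · rintro ⟨hx, h0⟩
    obtain ⟨s, hs, rfl⟩ := hT.symm ▸ hx
    exact ⟨s, ⟨hs, by rwa [c.push_X f T hT hinj hs] at h0⟩, rfl⟩
  · rintro ⟨s, hs, rfl⟩
    exact ⟨hT ▸ ⟨s, hs.1, rfl⟩, by rw [c.push_X f T hT hinj hs.1]; exact hs.2⟩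

@[simp] theorem push_B : (c.push f T hT hinj).B = c.B.map f := by
  ext x
  constructor
  · rintro ⟨hx, h0⟩
    obtain ⟨s, hs, rfl⟩ := hT.symm ▸ hx
    exact ⟨s, ⟨hs, by rwa [c.push_Y f T hT hinj hs] at h0⟩, rfl⟩
  · rintro ⟨s, hs, rfl⟩
    exact ⟨hT ▸ ⟨s, hs.1, rfl⟩, by rw [c.push_Y f T hT hinj hs.1]; exact hs.2⟩

@[simp] theorem push_Z : (c.push f T hT hinj).Z = c.Z.map f := by
  ext x
  constructor
  · rintro ⟨ha, hb⟩
    rw [push_A] at ha
    obtain ⟨s, hs, rfl⟩ := ha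
    refine ⟨s, ⟨hs, hs.1, ?_⟩, rfl⟩
    have := hb.2
    rwa [c.push_Y f T hT hinj hs.1] at this
  · rintro ⟨s, hs, rfl⟩
    exact ⟨(c.push_A f T hT hinj).symm ▸ ⟨s, hs.1, rfl⟩, (c.push_B f T hT hinj).symm ▸ ⟨s, hs.2, rfl⟩⟩

/-- Coordinates on the preimage under an injective homomorphism. -/
noncomputable def pull (g : H →* G) (hg : Function.Injective g) (U : Subgroup H) (hU : U.map g = S) :
    Crd U F :=
  c.ofEquiv ((U.equivMapOfInjective g hg).trans (MulEquiv.subgroupCongr hU))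

variable (g : H →* G) (hg : Function.Injective g) (U : Subgroup H) (hU : U.map g = S)

theorem pull_X {x : H} (hx : x ∈ U) : (c.pull g hg U hU).X x = c.X (g x) := by
  rw [X_eq _ hx, c.X_eq (hU ▸ ⟨x, hx, rfl⟩ : g x ∈ S)]
  rfl

theorem pull_Y {x : H} (hx : x ∈ U) : (c.pull g hg U hU).Y x = c.Y (g x) := by
  rw [Y_eq _ hx, c.Y_eq (hU ▸ ⟨x, hx, rfl⟩ : g x ∈ S)]
  rfl

theorem mem_pull_A {x : H} : x ∈ (c.pull g hg U hU).A ↔ g x ∈ c.A := by
  constructor
  · rintro ⟨hx, h0⟩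
    exact ⟨hU ▸ ⟨x, hx, rfl⟩, (c.pull_X g hg U hU hx).symm.trans h0⟩
  · rintro ⟨hgx, h0⟩
    obtain ⟨y, hy, e⟩ := hU.symm ▸ hgx
    obtain rfl := hg e
    exact ⟨hy, (c.pull_X g hg U hU hy).trans h0⟩

theorem mem_pull_B {x : H} : x ∈ (c.pull g hg U hU).B ↔ g x ∈ c.B := by
  constructor
  · rintro ⟨hx, h0⟩
    exact ⟨hU ▸ ⟨x, hx, rfl⟩, (c.pull_Y g hg U hU hx).symm.trans h0⟩
  · rintro ⟨hgx, h0⟩
    obtain ⟨y, hy, e⟩ := hU.symm ▸ hgx
    obtain rfl := hg e
    exact ⟨hy, (c.pull_Y g hg U hU hy).trans h0⟩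

theorem mem_pull_Z {x : H} : x ∈ (c.pull g hg U hU).Z ↔ g x ∈ c.Z :=
  (and_congr (c.mem_pull_A g hg U hU) (c.mem_pull_B g hg U hU))

end Crd

/-- A normal subgroup whose Sylow 2-subgroup is central in its normaliser is a 2-group when `O(G) = 1`. -/
theorem normal_twoGroup [Finite G] (hO : oddCore G = ⊥) (N : Subgroup G) [N.Normal] (P : Sylow 2 N)
    (h : normalizer ((P : Subgroup N) : Set N) ≤ centralizer ((P : Subgroup N) : Set N)) :
    IsPGroup 2 N := by
  haveI : Fact (Nat.Prime 2) := ⟨Nat.prime_two⟩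
  obtain ⟨Q, K, hK, hc⟩ := Fusion.hasNormalPComplement_of_normalizer_le_centralizer P h
  haveI := hK
  have hodd : Odd (Nat.card K) := by
    rw [← hc.index_eq_card, ← Nat.not_even_iff_odd, even_iff_two_dvd]
    exact Q.not_dvd_index
  have hOK : oddCore N = ⊥ := by
    have h1 : ((oddCore N).map N.subtype).Normal := ConjAct.normal_of_characteristic_of_normal
    have h2 : (oddCore N).map N.subtype ≤ oddCore G :=
      ZStar.le_oddCore h1 (by rw [card_map_of_injective N.subtype_injective]; exact ZStar.odd_card_oddCore)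
    rwa [hO, le_bot_iff, map_eq_bot_iff_of_injective _ N.subtype_injective] at h2
  have hbot : K = ⊥ := le_bot_iff.1 (hOK ▸ ZStar.le_oddCore hK hodd)
  have htop : (Q : Subgroup N) = ⊤ := by rwa [hbot, isComplement'_bot_left] at hc
  exact (htop ▸ Q.2).of_equiv Subgroup.topEquiv

/-- A normal 2-subgroup lies in every Sylow 2-subgroup. -/
theorem le_sylow_of_normal [Finite G] (N : Subgroup G) [N.Normal] (hN : IsPGroup 2 N) (S : Sylow 2 G) :
    N ≤ (S : Subgroup G) :=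
  (S.3 (hN.to_sup_of_normal_left S.2) le_sup_right) ▸ le_sup_left

end Cfsg.Lib.Syl34
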