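import Cfsg.Agent.Lib.StrongEmb.LThreeFour

/-!
A strongly embedded subgroup is not an extension of an odd group by a group with a normal `PSL₃(4)` of
index three (the shape of `PGL₃(4)`).
-/

set_option autoImplicit false
set_option linter.style.haveILetI false
set_option linter.unusedSectionVars false

namespace Cfsg.Lib.Syl34

open Subgroup Cfsg Cfsg.Lib.Invol MulAction
open Cfsg.Lib Cfsg.Lib.StrongEmb

universe u

section Target

variable {Q : Type u} [Group Q] [Finite Q] (hc : Nat.card Q = 20160) (hE : CIT.IsEppo Q)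
include hc hE

omit hc in
/-- A group of prime order and an element of another prime order normalising it do not commute. -/
theorem false_of_normal_sylow {q r : ℕ} [Fact q.Prime] [Fact r.Prime] (hqr : q ≠ r) (hr : ¬ r ∣ q - 1)
    (D : Subgroup Q) (P : Subgroup D) [P.Normal] (hP : Nat.card P = q) (hrD : r ∣ Nat.card D) : False := by
  obtain ⟨y, hy⟩ := exists_prime_orderOf_dvd_card' r hrD
  obtain ⟨z, hz⟩ := exists_prime_orderOf_dvd_card' (G := P) q (dvd_of_eq hP.symm)
  have hy1 : MulAut.conjNormal (H := P) y = 1 := by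
    rw [← orderOf_eq_one_iff]
    refine Nat.Coprime.eq_one_of_dvd (m := r) ?_ ((orderOf_map_dvd _ _).trans (dvd_of_eq hy))
    exact Nat.Coprime.coprime_dvd_left (orderOf_dvd_natCard (G := MulAut ↥P) _)
      (by rw [(CompOrd.mulAut_prime hP).1]
          exact (((Fact.out : r.Prime).coprime_iff_not_dvd).2 hr).symm)
  have hcom : Commute ((y : D) : Q) ((z : D) : Q) := by
    have h1 : y * (z : D) * y⁻¹ = z := by
      rw [← MulAut.conjNormal_apply, DFunLike.congr_fun hy1 z, MulAut.one_apply]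
    exact congrArg Subtype.val (mul_inv_eq_iff_eq_mul.1 h1)
  exact LThreeFour.orderOf_ne hE hcom Fact.out Fact.out hqr.symm
    (by rw [orderOf_coe, hy]) (by rw [orderOf_coe, orderOf_coe, hz])

omit hc in
/-- There is no subgroup of order 105. -/
theorem not_card_105 (D : Subgroup Q) : Nat.card D ≠ 105 := by
  intro hD
  haveI h3 : Fact (Nat.Prime 3) := ⟨Nat.prime_three⟩
  haveI h5 : Fact (Nat.Prime 5) := ⟨by norm_num⟩
  haveI h7 : Fact (Nat.Prime 7) := ⟨by norm_num⟩
  obtain ⟨P⟩ : Nonempty (Sylow 7 D) := inferInstance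
  have hPc : Nat.card (P : Subgroup D) = 7 := by
    rw [P.card_eq_multiplicity, hD, Nat.factorization_def _ h7.out, show (105 : ℕ) = 7 * 15 by norm_num,
      padicValNat.mul (by norm_num) (by norm_num), padicValNat.self (by norm_num),
      padicValNat.eq_zero_of_not_dvd (by norm_num)]
    norm_num
  set N := normalizer ((P : Subgroup D) : Set D) with hN
  by_cases htop : N = ⊤
  · haveI : (P : Subgroup D).Normal := normalizer_eq_top_iff.1 htop
    exact false_of_normal_sylow hE (q := 7) (r := 5) (by norm_num) (by norm_num) D _ hPc (by rw [hD]; norm_num)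
  -- otherwise it is self-normalising
  have hidx := N.card_mul_index
  rw [hD] at hidx
  have hmod : Nat.card (Sylow 7 D) ≡ 1 [MOD 7] := card_sylow_modEq_one 7 D
  rw [P.card_eq_index_normalizer] at hmod
  have h7N : 7 ∣ Nat.card N := hPc ▸ card_dvd_of_le le_normalizer
  have hne : Nat.card N ≠ 105 := fun e => htop (eq_top_of_card_eq _ (e.trans hD.symm))
  have hN7 : Nat.card N = 7 := by
    generalize hn : Nat.card N = n at *
    change n * N.index = 105 at hidx
    generalize N.index = i at *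
    rw [Nat.ModEq] at hmod
    obtain ⟨m, rfl⟩ := h7N
    have hm : m * i = 15 := by linarith
    have : m ∣ 15 := Dvd.intro i hm
    have hm' := Nat.le_of_dvd (by norm_num) this
    interval_cases m <;> omega
  have hNP : N = (P : Subgroup D) :=
    (eq_of_le_of_card_ge le_normalizer (by rw [hN7, hPc])).symm
  haveI : IsCyclic (P : Subgroup D) := isCyclic_of_prime_card hPc
  have hcen : N ≤ centralizer ((P : Subgroup D) : Set D) := by
    rw [hNP]
    exact fun x hx => mem_centralizer_iff.2 fun y hy =>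
      congrArg Subtype.val ((IsCyclic.commGroup (α := (P : Subgroup D))).mul_comm ⟨y, hy⟩ ⟨x, hx⟩)
  have hcompl := MonoidHom.ker_transferSylow_isComplement' P hcen
  set K := (MonoidHom.transferSylow P hcen).ker
  have hKc : Nat.card K = 15 := by
    have := hcompl.card_mul_card
    rw [hPc, hD] at this
    omega
  obtain ⟨R⟩ : Nonempty (Sylow 5 K) := inferInstance
  have hRc : Nat.card (R : Subgroup K) = 5 := by
    rw [R.card_eq_multiplicity, hKc, Nat.factorization_def _ h5.out, show (15 : ℕ) = 5 * 3 by norm_num,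
      padicValNat.mul (by norm_num) (by norm_num), padicValNat.self (by norm_num),
      padicValNat.eq_zero_of_not_dvd (by norm_num)]
    norm_num
  have hRi : Nat.card (Sylow 5 K) ∣ 3 := by
    have h1 := (R : Subgroup K).card_mul_index
    rw [hRc, hKc] at h1
    exact (show (R : Subgroup K).index = 3 by omega) ▸ R.card_dvd_index
  have hR1 : Nat.card (Sylow 5 K) = 1 := by
    have h1 : Nat.card (Sylow 5 K) ≡ 1 [MOD 5] := card_sylow_modEq_one 5 K
    have h2 := Nat.le_of_dvd (by norm_num) hRi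
    rw [Nat.ModEq] at h1
    omega
  haveI : Subsingleton (Sylow 5 K) := (Nat.card_eq_one_iff_unique.1 hR1).1
  haveI : (R : Subgroup K).Normal := R.normal_of_subsingleton
  let K' := K.map D.subtype
  let ι : K ≃* K' := K.equivMapOfInjective D.subtype D.subtype_injective
  haveI : ((R : Subgroup K).map ι.toMonoidHom).Normal := Subgroup.Normal.map inferInstance _ ι.surjective
  exact false_of_normal_sylow hE (q := 5) (r := 3) (by norm_num) (by norm_num) K'
    ((R : Subgroup K).map ι.toMonoidHom)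
    (by rw [Subgroup.card_map_of_injective (f := ι.toMonoidHom) ι.injective, hRc])
    (by rw [Core.card_map_subtype, hKc]; norm_num)

end Target

variable {G : Type u} [Group G] [Finite G] {H X : Subgroup G}

/-- `H` modulo the odd normal `X` has no normal `PSL₃(4)` of index three. -/
theorem false_of_pgl34 (hse : IsStronglyEmbedded H) (hfaith : ∀ g : G, (∀ x : G ⧸ H, g • x = x) → g = 1)
    (hle : X ≤ H) (hnorm : H ≤ normalizer (X : Set G)) (hodd : Odd (Nat.card X))
    {Q : Type u} [Group Q] (π : ↥H →* Q) (T : Subgroup Q) [T.Normal] (hT : T.index = 3)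
    {F : Type} [Field F] [Fintype F] (hF : Fintype.card F = 4)
    (e : T ≃* Matrix.ProjectiveSpecialLinearGroup (Fin 3) F)
    (hπ : Function.Surjective π) (hker : π.ker = X.subgroupOf H) : False := by
  classical
  haveI : Fact (Nat.Prime 2) := ⟨Nat.prime_two⟩
  haveI : Finite Q := Finite.of_surjective π hπ
  have hE : CIT.IsEppo T := CompOrd.isEppo_psl34 hF e
  have hTc : Nat.card T = 20160 := (Nat.card_congr e.toEquiv).trans (CIT.card_psl_three_four hF)
  have hQ : Nat.card Q = 60480 := by rw [← T.card_mul_index, hTc, hT]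
  have hH : Nat.card H = Nat.card X * 60480 := by
    rw [← π.ker.card_mul_index, Subgroup.index_ker, π.range_eq_top_of_surjective hπ, Subgroup.card_top, hQ, hker,
      Nat.card_congr (subgroupOfEquivOfLe hle).toEquiv]
  have hsemi : ∀ w, ∀ hw : w ∈ H, orderOf w = 2 → π ⟨w, hw⟩ ≠ 1 := by
    intro w hw hw2 e
    rw [← MonoidHom.mem_ker, hker, mem_subgroupOf] at e
    exact Nat.not_even_iff_odd.mpr hodd (even_iff_two_dvd.mpr (hw2 ▸ Subgroup.orderOf_dvd_natCard X e))
  have hqo : ∀ w, ∀ hw : w ∈ H, orderOf w = 2 → orderOf (π ⟨w, hw⟩) = 2 ∧ π ⟨w, hw⟩ ∈ T := by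
    intro w hw hw2
    have h1 : π ⟨w, hw⟩ * π ⟨w, hw⟩ = 1 := by
      rw [← map_mul, ← map_one π]; exact congrArg π (Subtype.ext (Invol.inv_mul_self hw2))
    refine ⟨orderOf_eq_two_of (hsemi w hw hw2) h1, ?_⟩
    have h2 := Subgroup.pow_index_mem T (π ⟨w, hw⟩)
    rwa [hT, pow_succ, pow_two, h1, one_mul] at h2
  have hinvT : ∀ w, ∀ hw : w ∈ H, orderOf w = 2 → ∀ j, ∀ hj : j ∈ H, Odd (orderOf j) →
      w * j * w⁻¹ = j⁻¹ → π ⟨j, hj⟩ ∈ T := by
    intro w hw hw2 j hj hjo hi
    set y := π ⟨j, hj⟩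
    set q := π ⟨w, hw⟩
    have hiq : q * y * q⁻¹ = y⁻¹ := by
      rw [← map_inv, ← map_mul, ← map_mul, ← map_inv]; exact congrArg π (Subtype.ext hi)
    have h2 : y * q * y⁻¹ * q⁻¹ = y * y := by
      calc y * q * y⁻¹ * q⁻¹ = y * (q * y * q⁻¹)⁻¹ := by group
        _ = y * y := by rw [hiq, inv_inv]
    have h3 : y * y ∈ T := h2 ▸ T.mul_mem ((inferInstance : T.Normal).conj_mem q (hqo w hw hw2).2 y)
      (T.inv_mem (hqo w hw hw2).2)
    obtain ⟨i, hi'⟩ : Odd (orderOf y) :=
      hjo.of_dvd_nat ((orderOf_map_dvd π _).trans (dvd_of_eq (Subgroup.orderOf_mk j hj)))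
    have h4 := T.pow_mem h3 (i + 1)
    rwa [← pow_two, ← pow_mul, show 2 * (i + 1) = orderOf y + 1 by omega, pow_succ, pow_orderOf_eq_one,
      one_mul] at h4
  -- the number of involutions
  have hk : ∀ t : G, t ∈ H → orderOf t = 2 → ∀ p : ℕ, p.Prime → p ≠ 2 →
      ((invSet t X).ncard).factorization p + (20160 : ℕ).factorization p ≤ (kInv H).factorization p := by
    intro t ht ht2 p hp hp2
    set C := (centralizer ({t} : Set G)).subgroupOf H with hC
    set CX := C ⊓ π.ker
    obtain ⟨hq2, hqT⟩ := hqo t ht ht2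
    have hCT : IsPGroup 2 ↥(T ⊓ C.map π) := by
      refine IsPGroup.iff_card.2 ⟨(Nat.card ↥(T ⊓ C.map π)).primeFactorsList.length, Nat.eq_prime_pow_of_unique_prime_dvd Nat.card_pos.ne' fun {r} hr hd => ?_⟩
      haveI := Fact.mk hr
      by_contra hr2
      obtain ⟨⟨q, hq⟩, hqr⟩ := exists_prime_orderOf_dvd_card' r hd
      rw [Subgroup.orderOf_mk] at hqr
      obtain ⟨hqT', hqC⟩ := Subgroup.mem_inf.1 hq
      obtain ⟨c, hc, rfl⟩ := hqC
      have hcom : Commute (⟨π c, hqT'⟩ : T) ⟨π ⟨t, ht⟩, hqT⟩ := Subtype.ext (by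
        show π c * π ⟨t, ht⟩ = π ⟨t, ht⟩ * π c
        rw [← map_mul, ← map_mul]
        exact congrArg π (Subtype.ext (mem_centralizer_singleton_iff.1 hc)))
      exact LThreeFour.orderOf_ne hE hcom hr Nat.prime_two hr2
        (by rw [Subgroup.orderOf_mk, hqr]) (by rw [Subgroup.orderOf_mk, hq2])
    obtain ⟨j, hj⟩ := IsPGroup.iff_card.1 hCT
    set ε := T.relIndex (C.map π) with hεdef
    have hε : ε ∣ 3 := hT ▸ Subgroup.relIndex_dvd_index_of_normal T (C.map π)
    have hCm : Nat.card (C.map π) = 2 ^ j * ε := by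
      rw [hεdef, ← hj, ← inf_relIndex_right T, ← relIndex_bot_left, ← relIndex_bot_left,
        relIndex_mul_relIndex _ _ _ bot_le inf_le_right]
    have hCc : Nat.card C = Nat.card CX * (2 ^ j * ε) := by
      rw [← hCm, ← (π.comp C.subtype).ker.card_mul_index, Subgroup.index_ker, MonoidHom.range_comp, range_subtype]
      congr 1
      refine Nat.card_congr ?_
      exact {
        toFun := fun x => ⟨(x : C), Subgroup.mem_inf.2 ⟨(x : C).2, x.2⟩⟩
        invFun := fun x => ⟨⟨x, (Subgroup.mem_inf.1 x.2).1⟩, (Subgroup.mem_inf.1 x.2).2⟩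
        left_inv := fun x => rfl
        right_inv := fun x => rfl }
    have hX : (invSet t X).ncard * Nat.card CX = Nat.card X := by
      rw [ncard_invSet ht2 (hnorm ht) hodd, mul_comm, ← ((centralizer ({t} : Set G)).subgroupOf X).card_mul_index]
      congr 1
      refine Nat.card_congr ?_
      exact {
        toFun := fun x => ⟨⟨((x : H) : G), by simpa [hker, CX, mem_subgroupOf] using (Subgroup.mem_inf.1 x.2).2⟩,
          by simpa [C, mem_subgroupOf] using (Subgroup.mem_inf.1 x.2).1⟩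
        invFun := fun x => ⟨⟨((x : X) : G), hle (x : X).2⟩, Subgroup.mem_inf.2
          ⟨show ((x : X) : G) ∈ centralizer ({t} : Set G) from x.2, by simp [hker, mem_subgroupOf]⟩⟩
        left_inv := fun x => rfl
        right_inv := fun x => rfl }
    have h0 : kInv H * Nat.card C = Nat.card H := by
      rw [kInv_eq_index hse ht ht2, mul_comm]; exact C.card_mul_index
    have hk0 : kInv H ≠ 0 := (kInv_pos hse).ne'
    have ha0 : (invSet t X).ncard ≠ 0 := fun e => Nat.card_pos.ne' (hX.symm.trans (by rw [e, zero_mul]))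
    rw [hCc, hH, ← hX] at h0
    have h1 : kInv H * (2 ^ j * ε) = (invSet t X).ncard * (20160 * 3) := by
      refine Nat.eq_of_mul_eq_mul_left (Nat.card_pos (α := CX)) ?_
      linarith
    have hε0 : ε ≠ 0 := fun e => by rw [e] at hε; norm_num at hε
    have hεp : ε.factorization p ≤ (3 : ℕ).factorization p :=
      (Nat.factorization_le_iff_dvd hε0 (by norm_num)).2 hε p
    have h2 := congrArg (fun n => n.factorization p) h1
    simp only [Nat.factorization_mul hk0 (mul_ne_zero (pow_ne_zero j two_ne_zero) hε0),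
      Nat.factorization_mul (pow_ne_zero j two_ne_zero) hε0,
      Nat.factorization_mul ha0 (by norm_num : (20160 * 3 : ℕ) ≠ 0),
      Nat.factorization_mul (by norm_num : (20160 : ℕ) ≠ 0) (by norm_num : (3 : ℕ) ≠ 0),
      Nat.factorization_pow, Finsupp.add_apply, Finsupp.smul_apply, Nat.Prime.factorization Nat.prime_two,
      Finsupp.single_eq_of_ne hp2, smul_zero, zero_add] at h2
    omega
  have hinvX : ∀ (p : ℕ) [Fact p.Prime], ∀ w : G, w ∈ H → orderOf w = 2 → ∀ P : Subgroup G, IsPGroup p P →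
      w ∈ normalizer (P : Set G) → (invSet w (P ⊓ X)).ncard ≤ p ^ ((invSet w X).ncard).factorization p := by
    intro p _ w hw hw2 P hPp hn
    obtain ⟨R, hR, hPR, hRn⟩ := exists_invariant_isSyl hw2 (hnorm hw) hodd (P ⊓ X)
      (hPp.to_le inf_le_left) inf_le_right (inf_normalizer_le_normalizer_inf ⟨hn, hnorm hw⟩)
    rw [← ncard_invSet_syl hw2 (hnorm hw) hodd hR hRn]
    exact Set.ncard_le_ncard (invSet_mono hPR) (Set.toFinite _)
  have hboundT : ∀ p : ℕ, [Fact p.Prime] → Odd p → ∀ w : G, w ∈ H → orderOf w = 2 → ∀ P : Subgroup G, P ≤ H →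
      IsPGroup p P → w ∈ normalizer (P : Set G) → (P.subgroupOf H).map π ≤ T →
      (invSet w P).ncard ≤ kPart H p := by
    intro p hp hpodd w hw hw2 P hP hPp hn hPT
    have hPodd : Odd (Nat.card P) := by
      obtain ⟨n, hn'⟩ := IsPGroup.iff_card.1 hPp
      rw [hn']; exact hpodd.pow
    have hXn : w ∈ normalizer ((P ⊓ X : Subgroup G) : Set G) := inf_normalizer_le_normalizer_inf ⟨hn, hnorm hw⟩
    have hdvd : (invSet w P).ncard ∣ X.relIndex P * (invSet w (P ⊓ X)).ncard := by
      rw [ncard_invSet hw2 hn hPodd, ncard_invSet hw2 hXn (hPodd.of_dvd_nat (card_dvd_of_le inf_le_left))]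
      show (centralizer ({w} : Set G)).relIndex P ∣ _ * (centralizer ({w} : Set G)).relIndex (P ⊓ X)
      rw [← inf_relIndex_right X P, inf_comm X P, mul_comm,
        ← inf_relIndex_right (centralizer ({w} : Set G)) (P ⊓ X),
        relIndex_mul_relIndex _ _ _ inf_le_right inf_le_left, ← inf_relIndex_right (centralizer ({w} : Set G)) P]
      exact relIndex_dvd_of_le_left P (by rw [← inf_assoc]; exact inf_le_left)
    have hrel : X.relIndex P ∣ p ^ (20160 : ℕ).factorization p := by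
      have h1 : X.relIndex P = Nat.card ((P.subgroupOf H).map π) := by
        rw [← relIndex_ker, hker, relIndex_subgroupOf hP]
      rw [h1]
      obtain ⟨i, hi⟩ := IsPGroup.iff_card.1 ((hPp.comap_subtype (K := H)).map π)
      rw [show Nat.card ((P.subgroupOf H).map π) = p ^ i from hi]
      refine pow_dvd_pow p ((Nat.Prime.pow_dvd_iff_le_factorization hp.out (by norm_num)).1 ?_)
      exact hTc ▸ hi ▸ card_dvd_of_le hPT
    refine (Nat.le_of_dvd ?_ hdvd).trans ?_
    · refine Nat.mul_pos (Nat.pos_of_ne_zero fun e => ?_) ?_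
      · exact (pow_pos hp.out.pos ((20160 : ℕ).factorization p)).ne' (Nat.eq_zero_of_zero_dvd (e ▸ hrel))
      exact (Set.ncard_pos (Set.toFinite _)).2 ⟨1, one_mem _, by simp⟩
    rw [kPart]
    refine le_trans ?_ (Nat.pow_le_pow_right hp.out.pos
      (hk w hw hw2 p hp.out (by rintro rfl; exact absurd hpodd (by decide))))
    rw [pow_add, mul_comm]
    exact Nat.mul_le_mul (hinvX p w hw hw2 P hPp hn) (Nat.le_of_dvd (pow_pos hp.out.pos _) hrel)
  set TH := (T.comap π).map H.subtype with hTH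
  have hTHn : H ≤ normalizer (TH : Set G) := by
    intro g hg
    refine le_normalizer_map H.subtype ⟨⟨g, hg⟩, ?_, rfl⟩
    rw [normalizer_eq_top_iff.2 (inferInstance : (T.comap π).Normal)]; trivial
  have hbound : ∀ p : ℕ, [Fact p.Prime] → Odd p → ∀ w : G, w ∈ H → orderOf w = 2 → ∀ P : Subgroup G, P ≤ H →
      IsPGroup p P → w ∈ normalizer (P : Set G) → (invSet w P).ncard ≤ kPart H p := by
    intro p hp hpodd w hw hw2 P hP hPp hn
    have hPodd : Odd (Nat.card P) := by
      obtain ⟨n, hn'⟩ := IsPGroup.iff_card.1 hPp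
      rw [hn']; exact hpodd.pow
    refine le_trans (Set.ncard_le_ncard ?_ (Set.toFinite _)) (hboundT p hpodd w hw hw2 (P ⊓ TH)
      (inf_le_left.trans hP) (hPp.to_le inf_le_left) (inf_normalizer_le_normalizer_inf ⟨hn, hTHn hw⟩) ?_)
    · rintro j ⟨hj, hi⟩
      exact ⟨Subgroup.mem_inf.2 ⟨hj, ⟨j, hP hj⟩,
        hinvT w hw hw2 j (hP hj) (hPodd.of_dvd_nat (Subgroup.orderOf_dvd_natCard P hj)) hi, rfl⟩, hi⟩
    · rintro _ ⟨x, hx, rfl⟩
      obtain ⟨-, x', hx', e'⟩ := Subgroup.mem_inf.1 hx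
      exact (Subtype.ext e' : x' = x) ▸ hx'
  have hgood : ∃ p : ℕ, p.Prime ∧ GoodPrime H p := by
    haveI h7 : Fact (Nat.Prime 7) := ⟨by norm_num⟩
    refine ⟨7, h7.out, fun x w P hw2 hwx hPp hPx hn => ?_⟩
    obtain ⟨g, rfl⟩ := QuotientGroup.mk_surjective x
    have hwg : g⁻¹ * w * g ∈ H := smul_coset_eq_iff.mp hwx
    set c := (MulAut.conj g⁻¹).toMonoidHom
    have hc : Function.Injective c := (MulAut.conj g⁻¹).injective
    have hcap : ∀ y, c y = g⁻¹ * y * g := fun y => by
      show g⁻¹ * y * g⁻¹⁻¹ = _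
      rw [inv_inv]
    set P' := P.map c
    have hP' : P' ≤ H := by
      rintro _ ⟨y, hy, rfl⟩
      rw [hcap]; exact smul_coset_eq_iff.mp (hPx hy)
    have hw' : orderOf (c w) = 2 := (orderOf_injective c hc w).trans hw2
    have hwH : c w ∈ H := (hcap w).symm ▸ hwg
    have himg : invSet (c w) P' = c '' invSet w P := by
      ext j
      constructor
      · rintro ⟨⟨y, hy, rfl⟩, hi⟩
        refine ⟨y, ⟨hy, hc ?_⟩, rfl⟩
        simp only [map_mul, map_inv]; exact hi
      · rintro ⟨y, ⟨hy, hi⟩, rfl⟩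
        exact ⟨⟨y, hy, rfl⟩, by rw [← map_inv, ← map_mul, ← map_mul, hi, map_inv]⟩
    rw [← Set.ncard_image_of_injective _ hc, ← himg]
    have hsub : invSet (c w) P' ⊆ invSet (c w) (P' ⊓ X) := by
      rintro j ⟨hj, hi⟩
      refine ⟨Subgroup.mem_inf.2 ⟨hj, ?_⟩, hi⟩
      by_contra hjX
      have hq1 : π ⟨j, hP' hj⟩ ≠ 1 := fun e => hjX (by
        rw [← MonoidHom.mem_ker, hker, mem_subgroupOf] at e; exact e)
      obtain ⟨i, hi7⟩ := IsPGroup.iff_orderOf.1 (hPp.map c) ⟨j, hj⟩
      rw [Subgroup.orderOf_mk] at hi7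
      have hdv : orderOf (π ⟨j, hP' hj⟩) ∣ 7 ^ i := by
        rw [← hi7, ← Subgroup.orderOf_mk j (hP' hj)]; exact orderOf_map_dvd π _
      obtain ⟨r, -, hr⟩ := (Nat.dvd_prime_pow h7.out).1 hdv
      have hr1 : r = 1 := by
        have h1 : r ≤ 1 := by
          have hd := hr ▸ orderOf_dvd_natCard (π ⟨j, hP' hj⟩)
          rw [hQ] at hd
          by_contra h2
          exact absurd ((pow_dvd_pow 7 (not_le.1 h2)).trans hd) (by norm_num)
        rcases Nat.eq_zero_or_pos r with h0 | h0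
        · exact absurd (orderOf_eq_one_iff.1 (by rw [hr, h0, pow_zero])) hq1
        · omega
      have hjo : Odd (orderOf j) := by
        rw [show orderOf j = 7 ^ i from hi7]
        exact Odd.pow (by decide)
      refine LThreeFour.not_inverted_seven hTc hE
        (g := (⟨π ⟨j, hP' hj⟩, hinvT _ hwH hw' j (hP' hj) hjo hi⟩ : T))
        (s := (⟨π ⟨c w, hwH⟩, (hqo _ hwH hw').2⟩ : T))
        (by rw [Subgroup.orderOf_mk, hr, hr1, pow_one]) (by rw [Subgroup.orderOf_mk, (hqo _ hwH hw').1])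
        (Subtype.ext ?_)
      show π ⟨c w, hwH⟩ * π ⟨j, hP' hj⟩ * (π ⟨c w, hwH⟩)⁻¹ = (π ⟨j, hP' hj⟩)⁻¹
      rw [← map_inv, ← map_mul, ← map_mul, ← map_inv]; exact congrArg π (Subtype.ext hi)
    refine ((Set.ncard_le_ncard hsub (Set.toFinite _)).trans
      (hinvX 7 (c w) hwH hw' P' (hPp.map c) (le_normalizer_map c ⟨w, hn, rfl⟩))).trans_lt ?_
    rw [kPart]
    refine lt_of_lt_of_le (Nat.pow_lt_pow_right (by norm_num)
      (Nat.lt_add_of_pos_right (h7.out.factorization_pos_of_dvd (by norm_num) (by norm_num : 7 ∣ 20160))))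
      (Nat.pow_le_pow_right (by norm_num) (hk (c w) hwH hw' 7 h7.out (by norm_num)))
  have hB : BoundData H X := ⟨hse, hfaith, hle, hnorm, hodd, hbound, hgood⟩
  -- the two-point stabiliser injects its inverted elements into the quotient
  obtain ⟨t, ht, ht2⟩ := exists_involution_of_even hse.2.1
  set α : G ⧸ H := QuotientGroup.mk 1
  obtain ⟨β, hβ⟩ := exists_ne hse α
  obtain ⟨w, hw2, hw⟩ := exists_swapper hse hβ.symm
  have hwH : w ∉ H := fun e => hβ (by rw [← hw]; exact smul_coset_one_eq.mpr e)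
  set D := stabilizer G α ⊓ stabilizer G β
  have hDH : D ≤ H := fun y hy => smul_coset_one_eq.mp (Subgroup.mem_inf.1 hy).1
  have hDn : w ∈ normalizer (D : Set G) := swapper_norm hw2 hw
  have hDodd : Odd (Nat.card D) := odd_two hse hβ.symm
  set Dq := (D.subgroupOf H).map π with hDq
  have hkle : kInv H ≤ Nat.card Dq := by
    rw [← ncard_invSet_two hse hβ.symm hw2 hw, ← Nat.card_coe_set_eq]
    refine Nat.card_le_card_of_injective
      (fun j : invSet w D => (⟨π ⟨j, hDH j.2.1⟩, ⟨_, j.2.1, rfl⟩⟩ : Dq)) fun j j' hjj => ?_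
    have h1 : π ⟨j, hDH j.2.1⟩ = π ⟨j', hDH j'.2.1⟩ := congrArg Subtype.val hjj
    have hX1 : ∀ a b : G, ∀ ha : a ∈ H, ∀ hb : b ∈ H, π ⟨a, ha⟩ = π ⟨b, hb⟩ → a⁻¹ * b ∈ X := by
      intro a b ha hb hab
      have : (⟨a, ha⟩⁻¹ * ⟨b, hb⟩ : H) ∈ π.ker := by
        rw [MonoidHom.mem_ker, map_mul, map_inv, hab, inv_mul_cancel]
      rw [hker, mem_subgroupOf] at this
      exact this
    set x := (j : G)⁻¹ * j' with hxdef
    have hx : x ∈ X := hX1 _ _ _ _ h1
    have hxw : w * x * w⁻¹ = (j : G) * (j' : G)⁻¹ := by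
      calc w * x * w⁻¹ = (w * (j : G) * w⁻¹)⁻¹ * (w * j' * w⁻¹) := by rw [hxdef]; group
        _ = _ := by rw [j.2.2, j'.2.2, inv_inv]
    have hx' : w * x * w⁻¹ ∈ X := by
      rw [hxw]
      have h2 : π ⟨(j : G)⁻¹, inv_mem (hDH j.2.1)⟩ = π ⟨(j' : G)⁻¹, inv_mem (hDH j'.2.1)⟩ := by
        show π (⟨(j : G), hDH j.2.1⟩⁻¹) = π (⟨(j' : G), hDH j'.2.1⟩⁻¹)
        rw [map_inv, map_inv, h1]
      simpa using hX1 _ _ _ _ h2
    have hxD : x ∈ D := mul_mem (inv_mem j.2.1) j'.2.1
    have hfix : w * x * w⁻¹ = x := by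
      have htw := twist_mem hw2 hDn hxD
      have hjX : x * w * x⁻¹ * w⁻¹ ∈ X := by
        rw [show x * w * x⁻¹ * w⁻¹ = x * (w * x * w⁻¹)⁻¹ by group]
        exact mul_mem hx (inv_mem hx')
      have h3 := LThreeFour.eq_one_of_inverted hse (hodd.of_dvd_nat (Subgroup.orderOf_dvd_natCard X hjX)) ht ht2 hwH hw2
        (hB.commute_core ht ht2 hjX) htw.2
      rw [show x * w * x⁻¹ * w⁻¹ = x * (w * x * w⁻¹)⁻¹ by group, mul_inv_eq_one] at h3
      exact h3.symm
    rw [hxw] at hfix
    -- `j'` squares to the square of `j`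
    have h4 : (j : G) * j = j' * j' := by
      rw [hxdef, mul_inv_eq_iff_eq_mul] at hfix
      calc (j : G) * j = (j : G) * ((j : G)⁻¹ * j' * j') := by rw [← hfix]
        _ = j' * j' := by group
    obtain ⟨i, hi⟩ := hDodd
    have h5 : ∀ y ∈ D, y = (y * y) ^ (i + 1) := fun y hy => by
      rw [← pow_two, ← pow_mul, show 2 * (i + 1) = Nat.card D + 1 by omega, pow_succ,
        show y ^ Nat.card D = 1 by
          exact orderOf_dvd_iff_pow_eq_one.1 (Subgroup.orderOf_dvd_natCard D hy), one_mul]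
    exact Subtype.ext (by rw [h5 _ j.2.1, h5 _ j'.2.1, h4])
  have hDqo : Odd (Nat.card Dq) := hDodd.of_dvd_nat ((card_map_dvd _ π).trans
    (dvd_of_eq (Nat.card_congr (subgroupOfEquivOfLe hDH).toEquiv)))
  have hDq_dvd : Nat.card Dq ∣ 945 := by
    have h1 : Nat.card Dq ∣ 64 * 945 := (card_subgroup_dvd_card _).trans (dvd_of_eq hQ)
    refine Nat.Coprime.dvd_of_dvd_mul_left ?_ h1
    rw [show (64 : ℕ) = 2 ^ 6 by norm_num]
    exact Nat.Coprime.pow_right 6 (Nat.coprime_two_right.2 hDqo)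
  have hk315 : 315 ∣ kInv H := by
    have hv : ∀ p : ℕ, p.Prime → p ≠ 2 → ∀ e, p ^ e ∣ 20160 → p ^ e ∣ kInv H := fun p hp hp2 e he => by
      rw [hp.pow_dvd_iff_le_factorization (kInv_pos hse).ne']
      exact le_trans (((hp.pow_dvd_iff_le_factorization (by norm_num)).1 he).trans (Nat.le_add_left _ _))
        (hk t ht ht2 p hp hp2)
    have h9 := hv 3 Nat.prime_three (by norm_num) 2 (by norm_num)
    have h5 := hv 5 (by norm_num) (by norm_num) 1 (by norm_num)
    have h7 := hv 7 (by norm_num) (by norm_num) 1 (by norm_num)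
    exact Nat.Coprime.mul_dvd_of_dvd_of_dvd (m := 45) (n := 7) (by norm_num)
      (Nat.Coprime.mul_dvd_of_dvd_of_dvd (m := 9) (n := 5) (by norm_num) h9 h5) h7
  -- the part in the index three subgroup
  set c := Nat.card ↥(T ⊓ Dq) with hcdef
  have hcq : c * T.relIndex Dq = Nat.card Dq := by
    rw [hcdef, ← inf_relIndex_right T, ← relIndex_bot_left, ← relIndex_bot_left,
      relIndex_mul_relIndex _ _ _ bot_le inf_le_right]
  have hcdvd : c ∣ 315 := by
    refine Nat.Coprime.dvd_of_dvd_mul_left ?_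
      (show c ∣ 64 * 315 from (card_dvd_of_le (inf_le_left : T ⊓ Dq ≤ T)).trans (dvd_of_eq hTc))
    rw [show (64 : ℕ) = 2 ^ 6 by norm_num]
    exact Nat.Coprime.pow_right 6 (Nat.coprime_two_right.2 (hDqo.of_dvd_nat (card_dvd_of_le inf_le_right)))
  have hrel : T.relIndex Dq ∣ 3 := hT ▸ Subgroup.relIndex_dvd_index_of_normal T Dq
  have h315 : 315 ≤ Nat.card Dq := (Nat.le_of_dvd (kInv_pos hse) hk315).trans hkle
  have hc2 : c = 315 ∨ c = 105 := by
    have h1 := Nat.le_of_dvd (by norm_num) hcdvd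
    rcases (Nat.dvd_prime Nat.prime_three).1 hrel with hr | hr <;> rw [hr] at hcq
    · exact Or.inl (by omega)
    · obtain ⟨m, hm⟩ := hcdvd
      have hm0 : 0 < m := Nat.pos_of_ne_zero fun e => by rw [e, mul_zero] at hm; omega
      have : m ≤ 3 := by nlinarith
      interval_cases m <;> omega
  have hcT : Nat.card ↥((T ⊓ Dq).subgroupOf T) = c := Nat.card_congr (subgroupOfEquivOfLe inf_le_left).toEquiv
  rcases hc2 with h | h
  · exact LThreeFour.not_card_315 hTc hE _ (hcT.trans h)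
  · exact not_card_105 hE _ (hcT.trans h)

end Cfsg.Lib.Syl34
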