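import Cfsg.Agent.Lib.Syl34.Top
import Cfsg.Agent.Lib.Syl34.Functor
import Cfsg.Agent.Lib.Invol.BrauerFowler

/-!
# Facts on the spread case
-/

set_option autoImplicit false
set_option linter.style.haveILetI false
set_option linter.unusedSectionVars false

namespace Cfsg.Lib.Syl34

open Subgroup Cfsg Cfsg.Lib

universe u

variable {G : Type u} [Group G] [Finite G] {F : Type*} [Field F] [Fintype F]

theorem oddCore_bot_of_simple [IsSimpleGroup G] (heven : Even (Nat.card G)) : oddCore G = ⊥ := by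
  rcases IsSimpleGroup.eq_bot_or_eq_top_of_normal (oddCore G) (pPrimeCore_normal 2 G) with h | h
  · exact h
  · exfalso
    have ho : Odd (Nat.card (oddCore G)) := ZStar.odd_card_oddCore
    rw [h, card_top] at ho
    exact Nat.not_even_iff_odd.2 ho heven

theorem noTwoCore_of_simple [IsSimpleGroup G] (hG : ¬ IsMulCommutative G) : NoTwoCore G := by
  haveI : Fact (Nat.Prime 2) := ⟨Nat.prime_two⟩
  intro R hR hR2
  rcases IsSimpleGroup.eq_bot_or_eq_top_of_normal R hR with h | h
  · exact h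
  exfalso
  subst h
  have hp : IsPGroup 2 G := hR2.of_equiv Subgroup.topEquiv
  haveI : Nontrivial G := inferInstance
  haveI := hp.center_nontrivial
  rcases IsSimpleGroup.eq_bot_or_eq_top_of_normal (center G) inferInstance with h' | h'
  · exact absurd h' ((nontrivial_iff_ne_bot _).1 inferInstance)
  · exact hG ⟨⟨fun a b => (mem_center_iff.1 (show b ∈ center G from h' ▸ mem_top b) a)⟩⟩

namespace Crd

variable {S : Sylow 2 G} (c : Crd (S : Subgroup G) F)

include c in
theorem even_card : Even (Nat.card G) := by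
  refine even_iff_two_dvd.2 (dvd_trans ?_ (S : Subgroup G).card_subgroup_dvd_card)
  rw [c.card_S]; norm_num

theorem cent_le_conj {g x : G} {H : Subgroup G} (hg : g ∈ H) (h : centralizer ({g * x * g⁻¹} : Set G) ≤ H) :
    centralizer ({x} : Set G) ≤ H := fun y hy => by
  have := h (mem_centralizer_singleton_iff.2 ((Commute.conj_iff g).2
    (show Commute y x from mem_centralizer_singleton_iff.1 hy)).eq)
  simpa [mul_assoc] using mul_mem (mul_mem (inv_mem hg) this) hg

variable (hsp : ¬ c.Norml)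
include hsp

theorem isConj_A {z a : G} (hz : z ∈ c.Z) (h1 : z ≠ 1) (ha : a ∈ c.A) (ha1 : a ≠ 1) : IsConj z a := by
  obtain ⟨n, -, e⟩ := c.transitive_A hsp hz h1 ha ha1
  exact isConj_iff.2 ⟨n, e⟩

/-- In the spread case the signalizers are balanced on `A`. -/
theorem bal_of_spread : c.Bal := by
  intro x hx hx1 R hodd hR hAR
  obtain ⟨z, hz, hz1⟩ := (c.Z).bot_or_exists_ne_one.resolve_left fun e => by
    have := c.card_Z; rw [e, card_bot] at this; omega
  obtain ⟨n, hn, rfl⟩ := c.transitive_A hsp hz hz1 hx hx1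
  set R' := R.map (MulAut.conj n⁻¹).toMonoidHom with hR'
  have h1 : R' ≤ th z := by
    refine c.le_th_of_norm_A hz hz1 ?_ ?_ fun a ha => mem_norm_of_conj_mem ?_
    · rw [hR', card_map_of_injective (MulAut.conj n⁻¹).injective]; exact hodd
    · rintro _ ⟨r, hr, rfl⟩
      refine mem_centralizer_singleton_iff.2 ((Commute.conj_iff n).1 ?_).eq
      rw [show n * ((MulAut.conj n⁻¹).toMonoidHom r) * n⁻¹ = r by simp [mul_assoc]]
      exact mem_centralizer_singleton_iff.1 (hR hr)
    · rintro _ ⟨r, hr, rfl⟩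
      exact ⟨n * a * n⁻¹ * r * (n * a * n⁻¹)⁻¹, conj_mem_of_norm (hAR (conj_mem_of_norm hn ha)) hr, by
        simp [mul_assoc]⟩
  intro r hr
  have h2 : (MulAut.conj n⁻¹).toMonoidHom r ∈ th z := h1 ⟨r, hr, rfl⟩
  have := th_conj n z h2
  simpa [mul_assoc] using this

/-- The centralisers of the involutions of `A` normalise `wZ`. -/
theorem centA_le_norm_wZ {x : G} (hx : x ∈ c.A) (hx1 : x ≠ 1) :
    centralizer ({x} : Set G) ≤ normalizer (c.wZ : Set G) := by
  obtain ⟨z, hz, hz1⟩ := (c.Z).bot_or_exists_ne_one.resolve_left fun e => by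
    have := c.card_Z; rw [e, card_bot] at this; omega
  obtain ⟨n, hn, rfl⟩ := c.transitive_A hsp hz hz1 hx hx1
  refine cent_le_conj (g := n⁻¹) (inv_mem (c.normA_le_norm_wZ hn)) ?_
  rw [show n⁻¹ * (n * z * n⁻¹) * n⁻¹⁻¹ = z by group]
  exact c.cent_le_norm_wZ hz hz1

/-- The normaliser of `A` acts transitively with point stabiliser in `C(z)`. -/
theorem card_normA {z : G} (hz : z ∈ c.Z) (h1 : z ≠ 1)
    (hC : centralizer ({z} : Set G) ≤ normalizer (c.A : Set G)) :
    Nat.card (normalizer (c.A : Set G)) = 15 * Nat.card (centralizer ({z} : Set G)) := by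
  set N := normalizer (c.A : Set G)
  set zN : N := ⟨z, le_normalizer hz.1⟩
  have h := Invol.card_conj_mul_centralizer (G := N) zN
  have hcls : Nat.card {y : N // IsConj zN y} = 15 := by
    have e : {y : N // IsConj zN y} ≃ ((c.A : Set G) \ {1} : Set G) := by
      refine Equiv.ofBijective (fun y => ⟨((y : N) : G), ?_⟩)
        ⟨fun p q e => Subtype.ext (Subtype.ext (congrArg Subtype.val e :)), fun a => ?_⟩
      · obtain ⟨⟨g, hg⟩, e⟩ := isConj_iff.1 y.2
        rw [← e]
        exact ⟨conj_mem_of_norm hg hz.1, fun e' => h1 (conj_eq_one_iff.1 e')⟩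
      · obtain ⟨n, hn, e⟩ := c.transitive_A hsp hz h1 a.2.1 a.2.2
        exact ⟨⟨⟨n, hn⟩ * zN * ⟨n, hn⟩⁻¹, isConj_iff.2 ⟨_, rfl⟩⟩, Subtype.ext e⟩
    rw [Nat.card_congr e, Nat.card_coe_set_eq, Set.ncard_sdiff_singleton_of_mem (one_mem c.A),
      ← Nat.card_coe_set_eq, SetLike.coe_sort_coe, c.card_A]
  have hcent : Nat.card (centralizer ({zN} : Set N)) = Nat.card (centralizer ({z} : Set G)) := by
    refine Nat.card_congr
      { toFun := fun g => ⟨((g : N) : G), mem_centralizer_singleton_iff.2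
          (congrArg Subtype.val (mem_centralizer_singleton_iff.1 g.2) :)⟩
        invFun := fun g => ⟨⟨(g : G), hC g.2⟩, mem_centralizer_singleton_iff.2
          (Subtype.ext (mem_centralizer_singleton_iff.1 g.2))⟩
        left_inv := fun g => rfl
        right_inv := fun g => rfl }
  rw [← h, hcls, hcent]

end Crd

namespace Crd

variable {S : Sylow 2 G} (c : Crd (S : Subgroup G) F)

/-- With trivial signalizer the centraliser of an involution of `Z` normalises `S`. -/
theorem cent_le_normS {z : G} (hz : z ∈ c.Z) (h1 : z ≠ 1) (hth : th z = ⊥) :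
    centralizer ({z} : Set G) ≤ normalizer ((S : Subgroup G) : Set G) := fun g hg => by
  obtain ⟨o, ho, n, hn, -, rfl⟩ := c.exists_core_mul_normS hz h1 (mem_centralizer_singleton_iff.1 hg)
  have ho' : o ∈ th z := ho
  rw [hth, mem_bot] at ho'
  rwa [ho', one_mul]

/-- A power of 2 carries an element of the normaliser of `S` in `C(z)` fixing `X` into the signalizer. -/
theorem pow_mem_th_of_fix_X {z : G} (hz : z ∈ c.Z) (h1 : z ≠ 1) {g : G} (hgz : Commute g z)
    (hgS : g ∈ normalizer ((S : Subgroup G) : Set G))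
    (hX : ∀ s ∈ (S : Subgroup G), c.X (g * s * g⁻¹) = c.X s) : ∃ i : ℕ, g ^ 2 ^ i ∈ th z := by
  haveI : Fact (Nat.Prime 2) := ⟨Nat.prime_two⟩
  obtain ⟨α, β, -, -, hs, hW⟩ := c.exists_scal hgS
  have hα : α = 1 := by
    have := (hs _ (c.pt_mem 1 0 0)).1
    rw [hX _ (c.pt_mem 1 0 0), X_pt, mul_one] at this
    exact this.symm
  have hw : c.W z ≠ 0 := fun e => h1 (c.ext (c.Z_le hz) (S : Subgroup G).one_mem (by rw [hz.1.2, c.X_one])
    (by rw [hz.2.2, c.Y_one]) (by rw [e, c.W_one]))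
  have hβ : β = 1 := by
    have := hW z hz
    rw [hgz.eq, mul_inv_cancel_right, hα, one_mul] at this
    exact (mul_eq_right₀ hw).1 this.symm
  have hfixZ : ∀ w ∈ c.Z, g * w * g⁻¹ = w := fun w hwZ => by
    have h' := conj_mem_of_norm (c.normS_le_norm_Z hgS) hwZ
    exact c.ext (c.Z_le h') (c.Z_le hwZ) (by rw [h'.1.2, hwZ.1.2]) (by rw [h'.2.2, hwZ.2.2])
      (by rw [hW w hwZ, hα, hβ, one_mul, one_mul])
  -- the square centralises `S`
  have hsq : ∀ s ∈ (S : Subgroup G), g * g * s * (g * g)⁻¹ = s := by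
    intro s hsS
    have hs' := conj_mem_of_norm hgS hsS
    set t := g * s * g⁻¹ * s⁻¹ with ht
    have htS : t ∈ (S : Subgroup G) := mul_mem hs' (inv_mem hsS)
    have htZ : t ∈ c.Z := c.mem_Z.2 ⟨htS,
      by rw [c.X_mul hs' (inv_mem hsS), c.X_inv hsS, (hs s hsS).1, hα, one_mul]; exact field_two c.hF _,
      by rw [c.Y_mul hs' (inv_mem hsS), c.Y_inv hsS, (hs s hsS).2, hβ, one_mul]; exact field_two c.hF _⟩
    have e : g * s * g⁻¹ = t * s := by rw [ht]; group
    rw [conj_conj, e, show g * (t * s) * g⁻¹ = g * t * g⁻¹ * (g * s * g⁻¹) by group, hfixZ t htZ, e,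
      ← mul_assoc, c.sq_Z htZ, one_mul]
  obtain ⟨i, d, ⟨j, rfl⟩, hid⟩ := Nat.exists_eq_two_pow_mul_odd (n := orderOf g) (orderOf_pos g).ne'
  -- the odd part of the square is trivial
  set y := g ^ 2 ^ (i + 1) with hy
  have hyC : y ∈ centralizer ((S : Subgroup G) : Set G) := by
    rw [hy, pow_succ', pow_mul, pow_two]
    refine pow_mem (mem_centralizer_iff.2 fun s hsS => ?_) _
    exact (mul_inv_eq_iff_eq_mul.1 (hsq s hsS)).symm
  have hyodd : Odd (orderOf y) := by
    refine Odd.of_dvd_nat ⟨j, rfl⟩ (orderOf_dvd_of_pow_eq_one ?_)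
    rw [hy, ← pow_mul, pow_succ, mul_assoc, mul_comm 2 (2 * j + 1), ← mul_assoc, ← hid, pow_mul,
      pow_orderOf_eq_one, one_pow]
  exact ⟨i + 1, hy ▸ c.mem_th_of_cent_S hz h1 hyC hyodd⟩

/-- An element of the normaliser of `S` in `C(z)` fixing `X` lies in `S` when the signalizer is trivial. -/
theorem mem_S_of_fix_X {z : G} (hz : z ∈ c.Z) (h1 : z ≠ 1) (hth : th z = ⊥) {g : G} (hgz : Commute g z)
    (hgS : g ∈ normalizer ((S : Subgroup G) : Set G))
    (hX : ∀ s ∈ (S : Subgroup G), c.X (g * s * g⁻¹) = c.X s) : g ∈ (S : Subgroup G) := by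
  obtain ⟨i, hi⟩ := c.pow_mem_th_of_fix_X hz h1 hgz hgS hX
  rw [hth, mem_bot] at hi
  exact mem_sylow_of_pow hgS (i := i) (orderOf_dvd_of_pow_eq_one hi)

/-- The centraliser of an involution of `Z` has order `64` or `192`, the latter when some element moves `X`. -/
theorem card_cent_Z {z : G} (hz : z ∈ c.Z) (h1 : z ≠ 1) (hth : th z = ⊥) :
    (Nat.card (centralizer ({z} : Set G)) = 64 ∨ Nat.card (centralizer ({z} : Set G)) = 192) ∧
      ((∃ g, Commute g z ∧ ∃ s ∈ (S : Subgroup G), c.X (g * s * g⁻¹) ≠ c.X s) →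
        Nat.card (centralizer ({z} : Set G)) = 192) := by
  classical
  set C := centralizer ({z} : Set G)
  have hCS := c.cent_le_normS hz h1 hth
  have hSC : (S : Subgroup G) ≤ C := fun s hs => mem_centralizer_singleton_iff.2 (c.commute_Z hz hs).eq.symm
  have hlin : ∀ g : C, ∀ s ∈ (S : Subgroup G),
      c.X ((g : G) * s * (g : G)⁻¹) = c.X ((g : G) * c.pt 1 0 0 * (g : G)⁻¹) * c.X s := by
    intro g s hs
    obtain ⟨α, β, -, -, h, -⟩ := c.exists_scal (hCS g.2)
    rw [(h s hs).1, (h _ (c.pt_mem ..)).1, X_pt, mul_one]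
  have hne : ∀ g : C, c.X ((g : G) * c.pt 1 0 0 * (g : G)⁻¹) ≠ 0 := fun g e => by
    obtain ⟨α, β, hα, -, h, -⟩ := c.exists_scal (hCS g.2)
    rw [(h _ (c.pt_mem ..)).1, X_pt, mul_one] at e
    exact hα e
  let φ : C →* Fˣ := MonoidHom.mk' (fun g => Units.mk0 _ (hne g)) fun g h => Units.ext (by
    simp only [Units.val_mk0, Units.val_mul, Subgroup.coe_mul]
    rw [conj_conj, hlin g _ (conj_mem_of_norm (hCS h.2) (c.pt_mem ..))])
  have hker : φ.ker = (S : Subgroup G).subgroupOf C := by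
    ext g
    rw [MonoidHom.mem_ker, mem_subgroupOf, Units.ext_iff]
    show c.X ((g : G) * c.pt 1 0 0 * (g : G)⁻¹) = 1 ↔ (g : G) ∈ (S : Subgroup G)
    refine ⟨fun h => c.mem_S_of_fix_X hz h1 hth (mem_centralizer_singleton_iff.1 g.2) (hCS g.2) fun s hs => ?_,
      fun h => ?_⟩
    · rw [hlin g s hs, h, one_mul]
    · rw [c.X_mul (mul_mem h (c.pt_mem ..)) (inv_mem h), c.X_mul h (c.pt_mem ..), c.X_inv h, X_pt]
      linear_combination field_two c.hF (c.X (g : G))
  have hcard : Nat.card C = 64 * Nat.card φ.range := by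
    rw [← φ.ker.card_mul_index, index_ker, hker, Nat.card_congr (subgroupOfEquivOfLe hSC).toEquiv, c.card_S]
  have hdvd : Nat.card φ.range ∣ 3 := by
    have := φ.range.card_subgroup_dvd_card
    rwa [Nat.card_eq_fintype_card (α := Fˣ), Fintype.card_units, c.hF] at this
  refine ⟨?_, ?_⟩
  · rcases (Nat.dvd_prime Nat.prime_three).1 hdvd with h | h <;> rw [hcard, h]
    · exact Or.inl rfl
    · exact Or.inr rfl
  · rintro ⟨g, hg, s, hs, hX⟩
    rcases (Nat.dvd_prime Nat.prime_three).1 hdvd with h | h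
    · exfalso
      set gC : C := ⟨g, mem_centralizer_singleton_iff.2 hg.eq⟩
      have h' : φ gC ∈ (⊥ : Subgroup Fˣ) := (eq_bot_of_card_eq φ.range h) ▸ ⟨gC, rfl⟩
      have h'' : c.X (g * c.pt 1 0 0 * g⁻¹) = 1 := congrArg Units.val (mem_bot.1 h')
      exact hX (by rw [hlin gC s hs, h'', one_mul])
    · rw [hcard, h]

end Crd

end Cfsg.Lib.Syl34
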