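import Cfsg.Agent.Lib.Syl34.SpreadFacts
import Cfsg.Agent.Lib.Syl34.BothTransfer
import Cfsg.Agent.S3214
import Cfsg.Agent.S0330
import Cfsg.Agent.Lib.GW.AlmostSimple
import Cfsg.Agent.Lib.SelfNormNA.Converse
import Cfsg.Agent.Lib.Linear.Suzuki.LieForm
import Cfsg.Agent.Lib.Fusion.Basic

/-!
# The simple spread case without an element of order three in the centraliser of an involution
-/

set_option autoImplicit false
set_option linter.style.haveILetI false
set_option linter.unusedSectionVars false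

namespace Cfsg.Lib.Syl34

open Subgroup Cfsg Cfsg.Lib

universe u

variable {G : Type u} [Group G] [Finite G] {F : Type*} [Field F] [Fintype F]

namespace Crd

variable {S : Sylow 2 G} (c : Crd (S : Subgroup G) F)

/-- All normalisers of `S` fixing an involution of `Z` fix the first coordinate. -/
def NoTau : Prop := ∀ z ∈ c.Z, z ≠ 1 → ∀ n ∈ normalizer ((S : Subgroup G) : Set G), Commute n z →
  ∀ s ∈ (S : Subgroup G), c.X (n * s * n⁻¹) = c.X s

theorem isConj_invol (hA : ¬ c.Norml) (hB : ¬ c.swap.Norml) {z t : G} (hz : z ∈ c.Z) (h1 : z ≠ 1)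
    (ht : orderOf t = 2) : IsConj z t := by
  obtain ⟨g, hg⟩ := c.exists_conj_invol ht
  have hne : g * t * g⁻¹ ≠ 1 := fun e => Invol.ne_one ht (conj_eq_one_iff.1 e)
  have h : IsConj z (g * t * g⁻¹) := by
    rcases hg with hg | hg
    · exact c.isConj_A hA hz h1 hg hne
    · exact c.swap.isConj_A hB (by rw [swap_Z]; exact hz) h1 (by rw [swap_A]; exact hg) hne
  exact h.trans (isConj_iff.2 ⟨g⁻¹, by group⟩)

theorem hasNormalPComplement_cent_Z (hn : c.NoTau) {z : G} (hz : z ∈ c.Z) (h1 : z ≠ 1) :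
    HasNormalPComplement 2 ↥(centralizer ({z} : Set G)) := by
  haveI : Fact (Nat.Prime 2) := ⟨Nat.prime_two⟩
  haveI hN : (pPrimeCore 2 ↥(centralizer ({z} : Set G))).Normal := pPrimeCore_normal 2 _
  refine Fusion.hasNormalPComplement_of_normal (pPrimeCore 2 ↥(centralizer ({z} : Set G))) ?_ fun q => ?_
  · have h : Odd (Nat.card ↥(pPrimeCore 2 ↥(centralizer ({z} : Set G)))) := by
      have := odd_th z
      rw [show th z = (pPrimeCore 2 ↥(centralizer ({z} : Set G))).map (centralizer ({z} : Set G)).subtype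
        from rfl, card_map_of_injective (subtype_injective _)] at this
      exact this
    exact Nat.coprime_two_right.2 h
  obtain ⟨x, rfl⟩ := QuotientGroup.mk'_surjective _ q
  obtain ⟨o, ho, n, hnS, hnz, e⟩ := c.exists_core_mul_normS hz h1 (mem_centralizer_singleton_iff.1 x.2)
  obtain ⟨i, hi⟩ := c.pow_mem_th_of_fix_X hz h1 hnz hnS (hn z hz h1 n hnS hnz)
  set nC : ↥(centralizer ({z} : Set G)) := ⟨n, mem_centralizer_singleton_iff.2 hnz.eq⟩
  have hox : x * nC⁻¹ ∈ pPrimeCore 2 ↥(centralizer ({z} : Set G)) := by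
    have : (x : G) * n⁻¹ ∈ th z := by rw [show (x : G) = o * n from e, mul_inv_cancel_right]; exact ho
    obtain ⟨y, hy, e'⟩ := this
    rwa [show x * nC⁻¹ = y from Subtype.ext (by simpa [nC] using e'.symm)]
  refine ⟨i, ?_⟩
  have hxn : QuotientGroup.mk' (pPrimeCore 2 ↥(centralizer ({z} : Set G))) x =
      QuotientGroup.mk' _ nC := by
    rw [← mul_inv_eq_one, ← map_inv, ← map_mul]
    exact (QuotientGroup.eq_one_iff _).2 hox
  rw [hxn, ← map_pow]
  refine (QuotientGroup.eq_one_iff _).2 ?_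
  obtain ⟨y, hy, e'⟩ := hi
  rwa [show nC ^ 2 ^ i = y from Subtype.ext (by simpa [nC] using e'.symm)]

include c in
theorem card_center : Nat.card (center (S : Subgroup G)) = 4 := by
  rw [← c.card_Z]
  refine Nat.card_congr
    { toFun := fun x => ⟨((x : (S : Subgroup G)) : G), c.mem_Z_of_central x.1.2 fun t ht =>
        (congrArg Subtype.val (mem_center_iff.1 x.2 ⟨t, ht⟩) :).symm⟩
      invFun := fun x => ⟨⟨(x : G), c.Z_le x.2⟩, mem_center_iff.2 fun t =>
        Subtype.ext (c.commute_Z x.2 t.2).eq.symm⟩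
      left_inv := fun x => rfl
      right_inv := fun x => rfl }

/-- Without an element moving `X` in the centraliser of an involution the group is `PSL₃(4)`. -/
theorem psl34_of_noTau [IsSimpleGroup G] (hG : ¬ IsMulCommutative G) (hA : ¬ c.Norml)
    (hB : ¬ c.swap.Norml) (hn : c.NoTau) :
    ∃ (K : Type) (_ : Field K) (_ : Fintype K), Fintype.card K = 4 ∧
      Nonempty (G ≃* Matrix.ProjectiveSpecialLinearGroup (Fin 3) K) := by
  haveI : Fact (Nat.Prime 2) := ⟨Nat.prime_two⟩
  obtain ⟨z, hz, h1⟩ := (c.Z).bot_or_exists_ne_one.resolve_left fun e => by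
    have := c.card_Z; rw [e, card_bot] at this; omega
  have hI : ∀ t : G, orderOf t = 2 → HasNormalPComplement 2 ↥(centralizer ({t} : Set G)) := by
    intro t ht
    obtain ⟨g, rfl⟩ := isConj_iff.1 (c.isConj_invol hA hB hz h1 ht)
    refine Fusion.hasNormalPComplement_of_injective
      (((MulAut.conj g⁻¹).toMonoidHom.comp (centralizer ({g * z * g⁻¹} : Set G)).subtype).codRestrict
        (centralizer ({z} : Set G)) fun x => mem_centralizer_singleton_iff.2 ?_) (fun a b e => ?_)
      (c.hasNormalPComplement_cent_Z hn hz h1)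
    · have := (Commute.conj_iff g⁻¹).2
        (show Commute (x : G) (g * z * g⁻¹) from mem_centralizer_singleton_iff.1 x.2)
      simpa [mul_assoc] using this.eq
    · exact Subtype.ext ((MulAut.conj g⁻¹).injective (congrArg Subtype.val e :))
  rcases Cfsg.Agent.S3214.result hG hI with ⟨K, i, j, -, ⟨e⟩⟩ | ⟨K, i, j, m, hm, hK, ⟨e⟩⟩ | ⟨⟨e⟩⟩ | h
  · exfalso
    obtain ⟨w, w0, w1⟩ := exists_omega c.hF
    rcases Nat.mod_two_eq_zero_or_one (Fintype.card K) with hev | hodd
    · haveI : CharP K 2 := by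
        obtain ⟨p, hp⟩ := CharP.exists K
        haveI : Fact p.Prime := ⟨CharP.char_is_prime K p⟩
        obtain ⟨n, hp', hn'⟩ := FiniteField.card K p
        have : 2 ∣ p ^ (n : ℕ) := hn' ▸ Nat.dvd_of_mod_eq_zero hev
        rwa [(Nat.prime_dvd_prime_iff_eq Nat.prime_two hp').1 (Nat.prime_two.dvd_of_dvd_pow this)]
      obtain ⟨P, hP⟩ := (S.2.map e.toMonoidHom).exists_le_sylow
      have h := SelfNormNA.comm_sylow P _ (hP ⟨_, c.pt_mem 1 0 0, rfl⟩) _ (hP ⟨_, c.pt_mem 0 1 0, rfl⟩)
      rw [← map_mul, ← map_mul] at h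
      have hcm := (c.commute_iff (c.pt_mem 1 0 0) (c.pt_mem 0 1 0)).1 (e.injective h)
      simp at hcm
    · set y := c.pt 1 1 0
      have hy : y ∈ (S : Subgroup G) := c.pt_mem ..
      have hyy : e y * e y ≠ 1 := fun h => by
        rw [← map_mul, e.map_eq_one_iff] at h
        rcases (c.sq_eq_one_iff hy).1 h with h' | h' <;> exact one_ne_zero (α := F) (by simpa [y] using h'.2)
      have hz' : ∀ x : F, x ≠ 0 → orderOf (e (c.pt 0 0 x)) = 2 := fun x hx => by
        rw [MulEquiv.orderOf_eq]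
        exact c.orderOf_A (c.pt_mem_A 0 x) fun h => hx (by
          have := congrArg c.W h; rwa [W_pt, c.W_one] at this)
      have := GW.psl_involution_unique hodd hyy (hz' 1 one_ne_zero) (hz' w w0)
        ((c.commute_Z (c.pt_mem_Z 1) hy).map e) ((c.commute_Z (c.pt_mem_Z w) hy).map e)
      have := congrArg c.W (e.injective this)
      rw [W_pt, W_pt] at this
      exact w1 this.symm
  · exfalso
    obtain ⟨e', -⟩ := Linear.Suz.exists_lie_equiv (F := K) (m := m) ⟨hm, hK⟩
    let f : G ≃* ↥(Cfsg.Sz K m) := e.trans e'.symm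
    haveI : Finite ↥(Cfsg.Sz K m) := Finite.of_equiv G f.toEquiv
    let P : Sylow 2 ↥(Cfsg.Sz K m) := S.mapSurjective (f := f.toMonoidHom) f.surjective
    let φ : ↥(S : Subgroup G) ≃* ↥(P : Subgroup ↥(Cfsg.Sz K m)) :=
      ((S : Subgroup G).equivMapOfInjective f.toMonoidHom f.injective).trans
        (MulEquiv.subgroupCongr rfl)
    obtain ⟨hc, -, -, hcen⟩ := Cfsg.Agent.S0330.result hm hK P
    rw [← Nat.card_congr φ.toEquiv, c.card_S] at hc
    rw [← Nat.card_congr (Subgroup.centerCongr φ).toEquiv, c.card_center] at hcen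
    rw [← hcen] at hc
    norm_num at hc
  · exfalso
    have h64 : 64 ∣ Nat.card G := c.card_S ▸ (S : Subgroup G).card_subgroup_dvd_card
    rw [Nat.card_congr e.toEquiv, nat_card_alternatingGroup, Nat.card_eq_fintype_card, Fintype.card_fin] at h64
    norm_num [Nat.factorial] at h64
  · exact h

end Crd

end Cfsg.Lib.Syl34
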