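import Cfsg.Agent.Lib.Syl34.EndGame
import Cfsg.Agent.Lib.Syl34.Simple
import Cfsg.Agent.Lib.Syl34.SEPgl
import Cfsg.Agent.Lib.CompositeOrder.LThreeFourTop
import Cfsg.Agent.Lib.Core.Basic

/-!
# The simple groups of type `L₃(4)` with both normalisers spread
-/

set_option autoImplicit false
set_option linter.style.haveILetI false
set_option linter.unusedSectionVars false

namespace Cfsg.Lib.Syl34

open Subgroup Cfsg Cfsg.Lib

universe u v

variable {F : Type v} [Field F] [Fintype F]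

namespace Crd

variable {G : Type u} [Group G] [Finite G] {S : Sylow 2 G} (c : Crd (S : Subgroup G) F)

theorem norml_congr {c' : Crd (S : Subgroup G) F} (hA : c'.A = c.A) (hZ : c'.Z = c.Z) :
    c'.Norml ↔ c.Norml := by
  unfold Norml
  rw [hA, hZ]

/-- The restriction to a normal subgroup containing `S` is spread in both senses. -/
theorem sub_spread_both {T : Subgroup G} [T.Normal] (hST : (S : Subgroup G) ≤ T) (hA : ¬ c.Norml)
    (hB : ¬ c.swap.Norml) : ¬ (c.sub T hST).Norml ∧ ¬ (c.sub T hST).swap.Norml := by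
  refine ⟨c.sub_spread hST hA, fun h => c.swap.sub_spread hST hB ?_⟩
  refine (norml_congr (c.sub T hST).swap ?_ ?_).2 h
  · rw [sub_swap_A, swap_A]
  · rw [sub_swap_Z, swap_Z]

/-- Both normalisers spread forbid a normal 2-subgroup. -/
theorem noTwoCore_of_spread (hO : oddCore G = ⊥) (hA : ¬ c.Norml) (hB : ¬ c.swap.Norml) : NoTwoCore G := by
  intro R hR hR2
  by_contra hne
  haveI := hR
  obtain ⟨z, hz, h1, hzR⟩ := c.exists_Z_of_normal hO R hne
  have hRS := le_sylow_of_normal R hR2 S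
  have hAR := c.A_le_of_normal hA R hz h1 hzR
  have hBR : c.B ≤ R := by
    have := c.swap.A_le_of_normal hB R (by rw [swap_Z]; exact hz) h1 hzR
    rwa [swap_A] at this
  have hSR : R = (S : Subgroup G) := le_antisymm hRS fun s hs => by
    obtain ⟨a, ha, b, hb, rfl⟩ := c.exists_mul_eq hs
    exact mul_mem (hAR ha) (hBR hb)
  exact hA fun g _ => c.normS_le_norm_Z (by rw [← hSR, normalizer_eq_top_iff.2 hR]; exact mem_top g)

/-- The spread conditions pass to a subgroup containing the normalisers. -/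
theorem sub_spread_of_le {H : Subgroup G} (hSH : (S : Subgroup G) ≤ H)
    (hNH : normalizer (c.A : Set G) ≤ H) (hA : ¬ c.Norml) : ¬ (c.sub H hSH).Norml := by
  intro h
  refine hA fun g hg => mem_norm_of_conj_mem fun z hz => ?_
  have hgA : (⟨g, hNH hg⟩ : H) ∈ normalizer ((c.sub H hSH).A : Set H) := mem_norm_of_conj_mem fun a ha =>
    (c.mem_sub_A).2 (conj_mem_of_norm hg ((c.mem_sub_A).1 ha))
  exact (c.mem_sub_Z).1 (conj_mem_of_norm (h hgA) ((c.mem_sub_Z (x := ⟨z, hSH (c.Z_le hz)⟩)).2 hz))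

/-- Spread passes to a quotient injective on `S`. -/
theorem push_spread {Q : Type u} [Group Q] [Finite Q] (f : G →* Q) {T : Sylow 2 Q}
    (hT : (S : Subgroup G).map f = (T : Subgroup Q)) (hinj : ∀ s ∈ (S : Subgroup G), f s = 1 → s = 1)
    (hA : ¬ c.Norml) : ¬ (c.push f (T : Subgroup Q) hT hinj).Norml := by
  intro h
  refine hA fun g hg => mem_norm_of_conj_mem fun z hz => ?_
  have hgA : f g ∈ normalizer ((c.push f (T : Subgroup Q) hT hinj).A : Set Q) :=
    mem_norm_of_conj_mem fun a ha => by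
      rw [push_A] at ha ⊢
      obtain ⟨x, hx, rfl⟩ := ha
      exact ⟨g * x * g⁻¹, conj_mem_of_norm hg hx, by rw [map_mul, map_mul, map_inv]⟩
  have hzm : f z ∈ (c.push f (T : Subgroup Q) hT hinj).Z := by rw [push_Z]; exact ⟨z, hz, rfl⟩
  have h2 := conj_mem_of_norm (h hgA) hzm
  rw [push_Z] at h2
  obtain ⟨w, hw, e⟩ := h2
  have hm := conj_mem_of_norm hg (c.Z_le_A hz)
  have he : w⁻¹ * (g * z * g⁻¹) = 1 :=
    hinj _ (mul_mem (inv_mem (c.Z_le hw)) hm.1) (by
      rw [map_mul, map_inv, map_mul, map_mul, map_inv, e, inv_mul_cancel])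
  rwa [← inv_mul_eq_one.1 he]

theorem swap_push_A {Q : Type u} [Group Q] (f : G →* Q) (T : Subgroup Q) (hT : (S : Subgroup G).map f = T)
    (hinj : ∀ s ∈ (S : Subgroup G), f s = 1 → s = 1) :
    (c.swap.push f T hT hinj).A = (c.push f T hT hinj).swap.A := by
  rw [swap_A, push_A, push_B, swap_A]

theorem swap_push_Z {Q : Type u} [Group Q] (f : G →* Q) (T : Subgroup Q) (hT : (S : Subgroup G).map f = T)
    (hinj : ∀ s ∈ (S : Subgroup G), f s = 1 → s = 1) :
    (c.swap.push f T hT hinj).Z = (c.push f T hT hinj).swap.Z := by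
  rw [swap_Z, push_Z, push_Z, swap_Z]

theorem hcent_wZ (hA : ¬ c.Norml) (hB : ¬ c.swap.Norml) :
    ∀ x ∈ (S : Subgroup G), orderOf x = 2 → centralizer ({x} : Set G) ≤ normalizer (c.wZ : Set G) := by
  intro x hx hx2
  have hx1 := Invol.ne_one hx2
  rcases (c.sq_eq_one_iff hx).1 (by rw [← pow_two, ← hx2, pow_orderOf_eq_one]) with h | h
  · exact c.centA_le_norm_wZ hA h hx1
  · have := c.swap.centA_le_norm_wZ hB (x := x) (by rw [swap_A]; exact h) hx1
    rwa [swap_wZ] at this

theorem hfus_wZ (hA : ¬ c.Norml) (hB : ¬ c.swap.Norml) :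
    ∀ x ∈ (S : Subgroup G), orderOf x = 2 → ∀ g, g * x * g⁻¹ ∈ (S : Subgroup G) →
      ∃ h ∈ normalizer (c.wZ : Set G), h * x * h⁻¹ = g * x * g⁻¹ := by
  obtain ⟨z, hz, h1⟩ := (c.Z).bot_or_exists_ne_one.resolve_left fun e => by
    have := c.card_Z; rw [e, card_bot] at this; omega
  have key : ∀ x ∈ (S : Subgroup G), orderOf x = 2 → ∃ h ∈ normalizer (c.wZ : Set G), h * z * h⁻¹ = x := by
    intro x hx hx2
    have hx1 := Invol.ne_one hx2
    rcases (c.sq_eq_one_iff hx).1 (by rw [← pow_two, ← hx2, pow_orderOf_eq_one]) with h | h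
    · obtain ⟨n, hn, e⟩ := c.transitive_A hA hz h1 h hx1
      exact ⟨n, c.normA_le_norm_wZ hn, e⟩
    · obtain ⟨n, hn, e⟩ := c.swap.transitive_A hB (z := z) (by rw [swap_Z]; exact hz) h1
        (a := x) (by rw [swap_A]; exact h) hx1
      exact ⟨n, c.normB_le_norm_wZ (by rwa [swap_A] at hn), e⟩
  intro x hx hx2 g hg
  obtain ⟨a, ha, ea⟩ := key x hx hx2
  obtain ⟨b, hb, eb⟩ := key _ hg (by rw [Invol.orderOf_conj_eq, hx2])
  refine ⟨b * a⁻¹, mul_mem hb (inv_mem ha), ?_⟩
  rw [← eb, ← ea]; group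

end Crd

/-- A finite simple group with both normalisers spread is `PSL₃(4)`. -/
theorem psl34_of_spread : ∀ (n : ℕ) {G : Type u} [Group G] [Finite G], Nat.card G = n → IsSimpleGroup G →
    ¬ IsMulCommutative G → ∀ {S : Sylow 2 G} (c : Crd (S : Subgroup G) F), ¬ c.Norml → ¬ c.swap.Norml →
      ∃ (K : Type) (_ : Field K) (_ : Fintype K), Fintype.card K = 4 ∧
        Nonempty (G ≃* Matrix.ProjectiveSpecialLinearGroup (Fin 3) K) := by
  intro n
  induction n using Nat.strong_induction_on with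
  | _ n ih =>
  intro G _ _ hn hsimp hG S c hA hB
  haveI := hsimp
  classical
  haveI : Fact (Nat.Prime 2) := ⟨Nat.prime_two⟩
  by_cases htau : c.NoTau
  · exact c.psl34_of_noTau hG hA hB htau
  exfalso
  have hO : oddCore G = ⊥ := oddCore_bot_of_simple c.even_card
  have hbal := c.bal_of_spread hA
  by_cases hW : c.wZ = ⊥
  · exact c.false_of_trivial_th hG hA hB (fun z hz h1 => le_bot_iff.1 (hW ▸ c.le_wZ hz h1)) htau
  have hse := c.stronglyEmbedded_wZ hbal.odd_wZ hW hO (c.hcent_wZ hA hB) (c.hfus_wZ hA hB)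
  set H := normalizer (c.wZ : Set G) with hH
  have hNAH : normalizer (c.A : Set G) ≤ H := c.normA_le_norm_wZ
  have hNBH : normalizer (c.B : Set G) ≤ H := c.normB_le_norm_wZ
  have hSH : (S : Subgroup G) ≤ H := c.S_le_norm_A.trans hNAH
  have hcH : Nat.card H < n := hn ▸ lt_of_le_of_ne (card_le_card_group H)
    fun e => hse.1 (Subgroup.eq_top_of_card_eq H e)
  set cH := c.sub H hSH
  have hAH : ¬ cH.Norml := c.sub_spread_of_le hSH hNAH hA
  have hBH : ¬ cH.swap.Norml := fun h => c.swap.sub_spread_of_le hSH (by rw [Crd.swap_A]; exact hNBH) hB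
    ((Crd.norml_congr cH.swap (by rw [Crd.sub_swap_A, Crd.swap_A]) (by rw [Crd.sub_swap_Z, Crd.swap_Z])).2 h)
  haveI hXn : (oddCore H).Normal := pPrimeCore_normal 2 H
  set π := QuotientGroup.mk' (oddCore H) with hπ
  have hπs : Function.Surjective π := QuotientGroup.mk'_surjective _
  have hinj : ∀ s ∈ ((S.subtype hSH : Sylow 2 H) : Subgroup H), π s = 1 → s = 1 := by
    intro s hs he
    have h1 : orderOf s ∣ Nat.card (oddCore H) :=
      Subgroup.orderOf_dvd_natCard _ ((QuotientGroup.eq_one_iff s).1 he)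
    have h2 : orderOf s ∣ 64 := by rw [← cH.card_S]; exact Subgroup.orderOf_dvd_natCard _ hs
    refine orderOf_eq_one_iff.1 (Nat.Coprime.eq_one_of_dvd (m := 2 ^ 6) ?_ h2)
    exact (Nat.coprime_two_right.2 (ZStar.odd_card_oddCore.of_dvd_nat h1)).pow_right 6
  let SQ : Sylow 2 (H ⧸ oddCore H) := (S.subtype hSH : Sylow 2 H).mapSurjective (f := π) hπs
  set cQ := cH.push π (SQ : Subgroup (H ⧸ oddCore H)) rfl hinj
  have hAQ : ¬ cQ.Norml := cH.push_spread π rfl hinj hAH
  have hBQ : ¬ cQ.swap.Norml := fun h => cH.swap.push_spread π (T := SQ) rfl hinj hBH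
    ((Crd.norml_congr cQ.swap (cH.swap_push_A π _ rfl hinj) (cH.swap_push_Z π _ rfl hinj)).2 h)
  have hOQ : oddCore (H ⧸ oddCore H) = ⊥ := Core.pPrimeCore_quotient_eq_bot
  obtain ⟨T, hTn, hST, hTs, hTc, hTC⟩ :=
    cQ.exists_simple hAQ hOQ (cQ.noTwoCore_of_spread hOQ hAQ hBQ)
  haveI := hTn
  haveI := hTs
  obtain ⟨hAT, hBT⟩ := cQ.sub_spread_both hST hAQ hBQ
  have hlt : Nat.card T < n := lt_of_le_of_lt
    ((card_le_card_group T).trans (Nat.le_of_dvd Nat.card_pos (oddCore H).card_quotient_dvd_card)) hcH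
  obtain ⟨K, iK, jK, hK, ⟨e⟩⟩ := ih _ hlt rfl hTs hTc (cQ.sub T hST) hAT hBT
  letI := iK
  letI := jK
  have hTodd : Odd T.index := Nat.not_even_iff_odd.1 fun he =>
    SQ.not_dvd_index ((even_iff_two_dvd.1 he).trans (index_dvd_of_le hST))
  have h12 : T.index ∣ 12 := by
    have h := CompOrd.index_dvd_out T hTC e
    rwa [CompOrd.card_out_psl34 hK (by
      refine le_bot_iff.1 fun x hx => ?_
      have hc : e.symm x ∈ center T := mem_center_iff.2 fun y => e.injective (by
        rw [map_mul, map_mul, e.apply_symm_apply]; exact mem_center_iff.1 hx (e y))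
      rcases IsSimpleGroup.eq_bot_or_eq_top_of_normal (center T) inferInstance with h' | h'
      · rw [h', mem_bot] at hc
        exact mem_bot.2 (by simpa using congrArg e hc)
      · exact absurd ⟨⟨fun a b => (mem_center_iff.1 (show b ∈ center T from h' ▸ mem_top b) a)⟩⟩ hTc)] at h
  have h13 : T.index = 1 ∨ T.index = 3 := by
    have hle := Nat.le_of_dvd (by norm_num) h12
    obtain ⟨i, hi⟩ := hTodd
    interval_cases hI : T.index <;> first | omega | (norm_num at h12)
  rcases h13 with hidx | hidx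
  · have htop : T = ⊤ := Subgroup.index_eq_one.1 hidx
    have hE : ∀ g : H ⧸ oddCore H, g ≠ 1 → IsPrimePow (orderOf g) := fun g hg => by
      have := CompOrd.isEppo_psl34 hK e (⟨g, htop ▸ mem_top g⟩ : T) fun h => hg (congrArg Subtype.val h :)
      rwa [Subgroup.orderOf_mk] at this
    simp only [Crd.NoTau, not_forall] at htau
    obtain ⟨z, hz, h1, m, hm, hmz, s, hs, hX⟩ := htau
    set mH : H := ⟨m, hNAH (c.normS_le_norm_A hm)⟩
    set zH : H := ⟨z, hSH (c.Z_le hz)⟩
    set sH : H := ⟨s, hSH hs⟩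
    have hmHS : ∀ y ∈ ((S.subtype hSH : Sylow 2 H) : Subgroup H),
        mH * y * mH⁻¹ ∈ ((S.subtype hSH : Sylow 2 H) : Subgroup H) := fun y hy => by
      rw [Sylow.coe_subtype, mem_subgroupOf] at hy ⊢
      exact conj_mem_of_norm hm hy
    have hzm : Commute (π mH) (π zH) := (show Commute mH zH from Subtype.ext hmz.eq).map π
    have hz2 : orderOf (π zH) = 2 := by
      refine orderOf_eq_prime ?_ fun e0 => h1 (congrArg Subtype.val (hinj zH (c.Z_le hz) e0) :)
      rw [← map_pow, pow_two, show zH * zH = 1 from Subtype.ext (c.sq_Z hz), map_one]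
    obtain ⟨i, d, hd, hid⟩ := Nat.exists_eq_two_pow_mul_odd (n := orderOf (π mH)) (orderOf_pos _).ne'
    by_cases hd1 : d = 1
    · subst hd1
      have hmN : π mH ∈ normalizer ((SQ : Subgroup (H ⧸ oddCore H)) : Set (H ⧸ oddCore H)) :=
        mem_norm_of_conj_mem fun x hx => by
          obtain ⟨y, hy, rfl⟩ := (hx : x ∈ ((S.subtype hSH : Sylow 2 H) : Subgroup H).map π)
          exact ⟨mH * y * mH⁻¹, hmHS y hy,
            by rw [map_mul, map_mul, map_inv]⟩
      have hmS := mem_sylow_of_pow hmN (i := i) (by rw [hid, mul_one])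
      have hsS : π sH ∈ (SQ : Subgroup (H ⧸ oddCore H)) := ⟨sH, hs, rfl⟩
      refine hX ?_
      have e1 : cQ.X (π mH * π sH * (π mH)⁻¹) = cQ.X (π sH) := by
        rw [cQ.X_mul (mul_mem hmS hsS) (inv_mem hmS), cQ.X_mul hmS hsS, cQ.X_inv hmS]
        linear_combination field_two c.hF (cQ.X (π mH))
      have hconj : mH * sH * mH⁻¹ ∈ ((S.subtype hSH : Sylow 2 H) : Subgroup H) := hmHS sH hs
      have e2 : cQ.X (π (mH * sH * mH⁻¹)) = c.X (m * s * m⁻¹) := by
        refine (Crd.push_X cH π _ rfl hinj hconj).trans ?_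
        exact c.pull_X _ _ _ _ hconj
      have e3 : cQ.X (π sH) = c.X s := by
        refine (Crd.push_X cH π _ rfl hinj (show sH ∈ ((S.subtype hSH : Sylow 2 H) : Subgroup H) from hs)).trans ?_
        exact c.pull_X _ _ _ _ hs
      rw [← e2, ← e3, map_mul, map_mul, map_inv, e1]
    · set y := π mH ^ 2 ^ i with hy
      have hyo : orderOf y = d := by
        rw [hy, orderOf_pow_of_dvd (by positivity) ⟨d, hid⟩, hid, Nat.mul_div_cancel_left _ (by positivity)]
      have hord : orderOf (π zH * y) = 2 * d := by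
        rw [(hzm.symm.pow_right _).orderOf_mul_eq_mul_orderOf_of_coprime
          (by rw [hz2, hyo]; exact Nat.coprime_two_left.2 hd), hz2, hyo]
      have hpp := hE (π zH * y) fun e0 => by rw [e0, orderOf_one] at hord; omega
      rw [hord] at hpp
      obtain ⟨p, hp, hpd⟩ := Nat.exists_prime_and_dvd hd1
      obtain ⟨q, k, hq, -, hqk⟩ := (isPrimePow_nat_iff _).1 hpp
      have h2q := (Nat.prime_dvd_prime_iff_eq Nat.prime_two hq).1
        (Nat.prime_two.dvd_of_dvd_pow (hqk ▸ dvd_mul_right 2 d))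
      have hpq := (Nat.prime_dvd_prime_iff_eq hp hq).1
        (hp.dvd_of_dvd_pow (hqk ▸ hpd.trans (dvd_mul_left d 2)))
      exact Nat.not_even_iff_odd.2 (hd.of_dvd_nat hpd) (by rw [hpq, ← h2q]; exact even_two)
  · refine false_of_pgl34 hse (fun g hg => ?_) (X := (oddCore H).map H.subtype) (map_subtype_le _) ?_ ?_
      π T hidx hK e hπs ?_
    · have hmem : g ∈ H.normalCore := by
        rw [normalCore_eq_ker, MonoidHom.mem_ker]
        exact Equiv.ext fun x => hg x
      rcases IsSimpleGroup.eq_bot_or_eq_top_of_normal H.normalCore inferInstance with h | h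
      · rwa [h, mem_bot] at hmem
      · exact absurd (top_unique (h ▸ H.normalCore_le)) hse.1
    · refine fun g hg => mem_norm_of_conj_mem ?_
      rintro _ ⟨x, hx, rfl⟩
      exact ⟨⟨g, hg⟩ * x * ⟨g, hg⟩⁻¹, hXn.conj_mem x hx _, rfl⟩
    · rw [card_map_of_injective H.subtype_injective]; exact ZStar.odd_card_oddCore
    · rw [hπ, QuotientGroup.ker_mk']
      exact (comap_map_eq_self_of_injective H.subtype_injective _).symm

end Cfsg.Lib.Syl34
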