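import Cfsg.Agent.Lib.Syl34.Quot
import Cfsg.Agent.Lib.Syl34.CentZ
import Cfsg.Agent.Lib.Fusion.Abelian
import Cfsg.Agent.Lib.Goldschmidt.Product
import Cfsg.Agent.Lib.Group.MinimalNormalFactor

/-!
# The minimal normal subgroup of a group of type `L₃(4)` without 2-core, when one normaliser is spread
-/

set_option autoImplicit false
set_option linter.style.haveILetI false
set_option linter.unusedSectionVars false

namespace Cfsg.Lib.Syl34

open Subgroup Cfsg Cfsg.Lib

universe u

variable {G : Type u} [Group G] [Finite G] {F : Type*} [Field F] [Fintype F]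

/-- No nontrivial normal 2-subgroup. -/
def NoTwoCore (G : Type u) [Group G] : Prop := ∀ R : Subgroup G, R.Normal → IsPGroup 2 R → R = ⊥

/-- An abelian normal subgroup containing an involution gives a normal 2-subgroup. -/
theorem false_of_comm_normal (hT : NoTwoCore G) {C : Subgroup G} [C.Normal]
    (hC : ∀ x ∈ C, ∀ y ∈ C, Commute x y) {z : G} (hz : z ∈ C) (h1 : z ≠ 1) (h2 : z * z = 1) : False := by
  haveI : Fact (Nat.Prime 2) := ⟨Nat.prime_two⟩
  let E : Subgroup G :=
    { carrier := {x | x ∈ C ∧ x * x = 1}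
      one_mem' := ⟨one_mem C, one_mul 1⟩
      mul_mem' := fun {a b} ha hb => ⟨mul_mem ha.1 hb.1, by
        rw [(hC b hb.1 a ha.1).mul_mul_mul_comm, ha.2, hb.2, one_mul]⟩
      inv_mem' := fun {a} ha => ⟨inv_mem ha.1, by rw [← mul_inv_rev, ha.2, inv_one]⟩ }
  have hn : E.Normal := ⟨fun x hx g => ⟨Subgroup.Normal.conj_mem inferInstance x hx.1 g, by
    rw [show g * x * g⁻¹ * (g * x * g⁻¹) = g * (x * x) * g⁻¹ by group, hx.2, mul_one, mul_inv_cancel]⟩⟩
  have hp : IsPGroup 2 E := fun x => ⟨1, Subtype.ext (by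
    rw [SubgroupClass.coe_pow, pow_one, pow_two]; exact x.2.2)⟩
  exact h1 (by simpa [hT E hn hp] using (show z ∈ E from ⟨hz, h2⟩))

namespace Crd

variable {S : Sylow 2 G} (c : Crd (S : Subgroup G) F)

theorem exists_Z_of_normal (hO : oddCore G = ⊥) (N : Subgroup G) [N.Normal] (hN : N ≠ ⊥) :
    ∃ z ∈ c.Z, z ≠ 1 ∧ z ∈ N := by
  haveI : Fact (Nat.Prime 2) := ⟨Nat.prime_two⟩
  have heven : 2 ∣ Nat.card N := by
    by_contra h
    exact hN (le_bot_iff.1 (hO ▸ ZStar.le_oddCore inferInstance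
      (Nat.not_even_iff_odd.1 fun he => h (even_iff_two_dvd.1 he))))
  obtain ⟨⟨x, hxN⟩, hx⟩ := exists_prime_orderOf_dvd_card' 2 heven
  rw [Subgroup.orderOf_mk] at hx
  obtain ⟨g, hg⟩ := c.exists_conj_invol hx
  set s := g * x * g⁻¹ with hs'
  have hsN : s ∈ N := Subgroup.Normal.conj_mem inferInstance x hxN g
  have hs1 : s ≠ 1 := fun e => Invol.ne_one hx (conj_eq_one_iff.1 e)
  have hsS : s ∈ (S : Subgroup G) := hg.elim (fun h => h.1) fun h => h.1
  by_cases hsZ : s ∈ c.Z
  · exact ⟨s, hsZ, hs1, hsN⟩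
  have hex : ∃ t ∈ (S : Subgroup G), ¬ Commute s t := by
    by_contra hall
    push Not at hall
    exact hsZ (c.mem_Z_of_central hsS hall)
  obtain ⟨t, ht, hst⟩ := hex
  refine ⟨s * t * s⁻¹ * t⁻¹, c.mem_Z.2 ⟨mul_mem (mul_mem (mul_mem hsS ht) (inv_mem hsS)) (inv_mem ht),
    (c.comm_coords hsS ht).1, (c.comm_coords hsS ht).2.1⟩, fun e => hst ?_, ?_⟩
  · show s * t = t * s
    calc s * t = (s * t * s⁻¹ * t⁻¹) * (t * s) := by group
      _ = t * s := by rw [e, one_mul]
  · rw [show s * t * s⁻¹ * t⁻¹ = s * (t * s⁻¹ * t⁻¹) by group]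
    exact mul_mem hsN (Subgroup.Normal.conj_mem inferInstance _ (inv_mem hsN) t)

theorem A_le_of_normal (hsp : ¬ c.Norml) (N : Subgroup G) [N.Normal] {z : G} (hz : z ∈ c.Z) (h1 : z ≠ 1)
    (hzN : z ∈ N) : c.A ≤ N := by
  intro a ha
  rcases eq_or_ne a 1 with rfl | ha1
  · exact one_mem N
  obtain ⟨n, -, rfl⟩ := c.transitive_A hsp hz h1 ha ha1
  exact Subgroup.Normal.conj_mem inferInstance z hzN n

/-- A normal subgroup containing `A` meets `S` in `A` or contains `S`. -/
theorem inf_cases (hsp : ¬ c.Norml) (N : Subgroup G) [N.Normal] (hAN : c.A ≤ N) :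
    (∀ s ∈ (S : Subgroup G), s ∈ N → s ∈ c.A) ∨ (S : Subgroup G) ≤ N := by
  by_cases hall : ∀ s ∈ (S : Subgroup G), s ∈ N → s ∈ c.A
  · exact Or.inl hall
  right
  push Not at hall
  obtain ⟨s, hs, hsN, hsA⟩ := hall
  have hx0 : c.X s ≠ 0 := fun e => hsA ⟨hs, e⟩
  obtain ⟨n, hn, α, β, hα, hns⟩ := c.exists_move_X hsp
  have hs' := conj_mem_of_norm hn hs
  have hs'N : n * s * n⁻¹ ∈ N := Subgroup.Normal.conj_mem inferInstance s hsN n
  have hα0 : α ≠ 0 := fun e => by
    have hA : n * s * n⁻¹ ∈ c.A := ⟨hs', by rw [(hns s hs).1, e, zero_mul]⟩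
    exact hsA ((mem_normalizer_iff.1 (c.normS_le_norm_A hn) s).2 hA)
  intro t ht
  suffices ∃ r ∈ (S : Subgroup G), r ∈ N ∧ c.X r = c.X t by
    obtain ⟨r, hr, hrN, he⟩ := this
    have hA : r⁻¹ * t ∈ c.A := ⟨mul_mem (inv_mem hr) ht, by
      rw [c.X_mul (inv_mem hr) ht, c.X_inv hr, he]; exact field_two c.hF _⟩
    simpa using mul_mem hrN (hAN hA)
  have hX1 := (hns s hs).1
  have hdiv : c.X t = c.X t / c.X s * c.X s := (div_mul_cancel₀ _ hx0).symm
  rcases field_cases c.hF hα0 hα (c.X t / c.X s) with h | h | h | h <;> rw [hdiv, h]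
  · exact ⟨1, one_mem _, one_mem N, by rw [c.X_one, zero_mul]⟩
  · exact ⟨s, hs, hsN, by rw [one_mul]⟩
  · exact ⟨_, hs', hs'N, hX1⟩
  · exact ⟨_, mul_mem hs' hs, mul_mem hs'N hsN, by rw [c.X_mul hs' hs, hX1]; ring⟩

/-- A normal subgroup of a group without 2-core meets `S` in more than `A`. -/
theorem false_of_inf_eq_A (hsp : ¬ c.Norml) (hO : oddCore G = ⊥) (hT : NoTwoCore G) (N : Subgroup G)
    [N.Normal] (hAN : c.A ≤ N) (hNA : ∀ s ∈ (S : Subgroup G), s ∈ N → s ∈ c.A) : False := by
  haveI : Fact (Nat.Prime 2) := ⟨Nat.prime_two⟩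
  set NA := normalizer (c.A : Set G) with hNAdef
  set M : Subgroup G := N ⊓ NA with hMdef
  -- `M` normalises every conjugate of `Z` in `A`
  have hMZ : M ≤ normalizer (c.Z : Set G) := by
    obtain ⟨V, hV4, hV2, hVm⟩ := c.exists_autV (le_refl NA) c.S_le_norm_A
    set f := (c.act (le_refl NA)).rangeRestrict
    have hfe : ∀ {m n : NA},
        f m = f n ↔ ∀ a ∈ c.A, (m : G) * a * (m : G)⁻¹ = (n : G) * a * (n : G)⁻¹ := by
      intro m n
      rw [Subtype.ext_iff, MonoidHom.coe_rangeRestrict, MonoidHom.coe_rangeRestrict, c.act_eq_iff]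
    haveI : (M.subgroupOf NA).Normal := ⟨fun m hm g =>
      mem_subgroupOf.2 (Subgroup.mem_inf.2
        ⟨Subgroup.Normal.conj_mem inferInstance _ (Subgroup.mem_inf.1 (mem_subgroupOf.1 hm)).1 _,
          (g * m * g⁻¹).2⟩)⟩
    set K := (M.subgroupOf NA).map f
    haveI hK : K.Normal := Subgroup.Normal.map inferInstance _ (c.act (le_refl NA)).rangeRestrict_surjective
    -- the image is odd
    have hodd : Odd (Nat.card K) := by
      obtain ⟨Q, hQ⟩ := exists_sylow_inf S N
      set g := f.comp (inclusion (show M ≤ NA from inf_le_right)) with hg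
      have hr : g.range = K := by
        rw [hg, MonoidHom.range_comp, inclusion_range]
      rw [← hr, ← index_ker]
      refine Odd.of_dvd_nat ?_ (index_dvd_of_le (show (c.A.subgroupOf M) ≤ g.ker from fun a ha => ?_))
      · have hle : (c.A.subgroupOf M).index ∣ (Q : Subgroup N).index := by
          have h1 : (Q : Subgroup N).index = (c.A.subgroupOf N).index := by
            rw [hQ]
            congr 1
            ext x
            exact ⟨fun h => hNA _ h x.2, fun h => c.A_le h⟩
          rw [h1]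
          show c.A.relIndex M ∣ c.A.relIndex N
          exact ⟨_, (relIndex_mul_relIndex c.A M N
            (le_inf hAN (le_normalizer)) inf_le_left).symm⟩
        refine (Nat.not_even_iff_odd.1 fun he => ?_).of_dvd_nat hle
        exact Q.not_dvd_index (even_iff_two_dvd.1 he)
      · refine MonoidHom.mem_ker.2 (((hfe (m := inclusion (show M ≤ NA from inf_le_right) a) (n := 1)).2
          fun x hx => ?_).trans (map_one f))
        show (a : G) * x * (a : G)⁻¹ = ((1 : NA) : G) * x * ((1 : NA) : G)⁻¹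
        rw [(c.commute_A (mem_subgroupOf.1 ha) hx).eq]
        simp
    set L : Subgroup (c.act (le_refl NA)).range :=
      ((normalizer (c.Z : Set G)).subgroupOf NA).map f
    haveI : IsMulCommutative (V : Subgroup (c.act (le_refl NA)).range) := ⟨⟨fun a b => Subtype.ext (by
      have h := hV2 _ (mul_mem a.2 b.2)
      calc (a : (c.act (le_refl NA)).range) * b = a * (a * b * (a * b)) * b := by rw [h, mul_one]
        _ = a * a * (b * a) * (b * b) := by group
        _ = b * a := by rw [hV2 a a.2, hV2 b b.2, one_mul, mul_one])⟩⟩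
    have hnc : ¬ IsCyclic (V : Subgroup (c.act (le_refl NA)).range) := fun hc => by
      obtain ⟨g, hg⟩ := hc.exists_generator
      have h := orderOf_eq_card_of_forall_mem_zpowers hg
      have hle := orderOf_le_of_pow_eq_one (x := g) (n := 2) two_pos
        (Subtype.ext (by rw [SubgroupClass.coe_pow, pow_two]; exact hV2 g g.2))
      omega
    have hcop : (Nat.card (V : Subgroup (c.act (le_refl NA)).range)).Coprime (Nat.card K) := by
      rw [hV4, show (4 : ℕ) = 2 ^ 2 from rfl]
      exact (Nat.coprime_two_left.2 hodd).pow_left 2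
    have hcentL : ∀ v ∈ (V : Subgroup (c.act (le_refl NA)).range), v ≠ 1 →
        centralizer ({v} : Set (c.act (le_refl NA)).range) ≤ L := by
      intro v hv hv1 x hx
      obtain ⟨s, hs, rfl⟩ := (hVm v).1 hv
      obtain ⟨m, rfl⟩ := (c.act (le_refl NA)).rangeRestrict_surjective x
      refine ⟨m, c.norm_Z_of_commute m.2 hs (fun hA => hv1 ?_) fun a ha => ?_, rfl⟩
      · rw [← map_one f, hfe]
        intro a ha
        simp [(c.commute_A hA ha).eq]
      · have e := mem_centralizer_singleton_iff.1 hx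
        rw [← map_mul, ← map_mul, hfe] at e
        have := e a ha
        simp only [Subgroup.coe_mul] at this
        rwa [conj_conj, conj_conj] at this
    have hKL : K ≤ L := (Coprime.le_iSup_centralizer_of_not_isCyclic hnc
      (normalizer_eq_top_iff.2 hK ▸ le_top) hcop).trans
        (iSup_le fun v => inf_le_right.trans (hcentL v v.2.1 v.2.2))
    intro m hm
    obtain ⟨l, hl, e⟩ := hKL ⟨⟨m, (Subgroup.mem_inf.1 hm).2⟩, mem_subgroupOf.2 hm, rfl⟩
    rw [hfe] at e
    exact mem_norm_of_conj_mem fun z hz => by rw [← e z hz.1]; exact conj_mem_of_norm hl hz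
  -- the two strongly closed subgroups
  obtain ⟨Q, hQ⟩ := exists_sylow_inf S N
  have hQA : ∀ x : N, x ∈ (Q : Subgroup N) ↔ (x : G) ∈ c.A := fun x => by
    rw [hQ, mem_subgroupOf]
    exact ⟨fun h => hNA _ h x.2, fun h => c.A_le h⟩
  haveI : IsMulCommutative (Q : Subgroup N) := ⟨⟨fun a b => Subtype.ext (Subtype.ext
    (c.commute_A ((hQA _).1 a.2) ((hQA _).1 b.2)).eq)⟩⟩
  have hclosed : ∀ n ∈ NA,
      IsStronglyClosed ((c.Z.map (MulAut.conj n).toMonoidHom).subgroupOf N) (Q : Subgroup N) := by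
    intro n hn
    refine ⟨fun x hx => (hQA x).2 ?_, fun x hx g hg => ?_⟩
    · obtain ⟨w, hw, e⟩ := mem_subgroupOf.1 hx
      rw [← e]
      exact conj_mem_of_norm hn (c.Z_le_A hw)
    · have hxQ : x ∈ (Q : Subgroup N) := by
        obtain ⟨w, hw, e⟩ := mem_subgroupOf.1 hx
        rw [hQA, ← e]
        exact conj_mem_of_norm hn (c.Z_le_A hw)
      obtain ⟨m, hm, e⟩ := Fusion.exists_normalizer_conj_of_abelian Q hxQ hg
      obtain ⟨w, hw, ew⟩ := mem_subgroupOf.1 hx
      have hmA : (m : G) ∈ NA := mem_norm_of_conj_mem fun a ha => by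
        have := conj_mem_of_norm hm ((hQA ⟨a, hAN ha⟩).2 ha)
        exact (hQA _).1 this
      have hk : n⁻¹ * (m : G) * n ∈ M := by
        refine Subgroup.mem_inf.2 ⟨?_, mul_mem (mul_mem (inv_mem hn) hmA) hn⟩
        simpa using Subgroup.Normal.conj_mem inferInstance (m : G) m.2 n⁻¹
      rw [← e]
      refine mem_subgroupOf.2 ⟨_, conj_mem_of_norm (hMZ hk) hw, ?_⟩
      simp only [MulEquiv.coe_toMonoidHom, MulAut.conj_apply] at ew ⊢
      rw [Subgroup.coe_mul, Subgroup.coe_mul, InvMemClass.coe_inv, ← ew]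
      group
  set Z₁ : Subgroup N := c.Z.subgroupOf N
  have hZ₁ : IsStronglyClosed Z₁ (Q : Subgroup N) := by
    have := hclosed 1 (one_mem _)
    rwa [map_one, show (1 : MulAut G).toMonoidHom = MonoidHom.id G from rfl, Subgroup.map_id] at this
  set C₁ := normalClosure (Z₁ : Set N)
  have hOC : oddCore N = ⊥ := by
    rw [← map_eq_bot_iff_of_injective _ N.subtype_injective, ← le_bot_iff, ← hO]
    refine ZStar.le_oddCore inferInstance ?_
    rw [card_map_of_injective N.subtype_injective]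
    exact ZStar.odd_card_oddCore
  have hcA : ∀ x ∈ C₁, ∀ a ∈ c.A, Commute (x : G) a := by
    intro x hx
    have hout : ∀ a ∈ c.A, a ∉ c.Z → Commute (x : G) a := by
      intro a ha haZ
      obtain ⟨z, hz, hz1⟩ := (c.Z).bot_or_exists_ne_one.resolve_left fun e => by
        have := c.card_Z; rw [e, card_bot] at this; omega
      obtain ⟨n, hn, rfl⟩ := c.transitive_A hsp hz hz1 ha fun e => haZ (e ▸ one_mem _)
      have hdisj : Z₁ ⊓ (c.Z.map (MulAut.conj n).toMonoidHom).subgroupOf N = ⊥ := by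
        refine (Subgroup.eq_bot_iff_forall _).2 fun y hy => Subtype.ext ?_
        obtain ⟨w, hw, ew⟩ := mem_subgroupOf.1 (Subgroup.mem_inf.1 hy).2
        by_contra h
        refine haZ (conj_mem_of_norm (c.norm_Z_of_meet hn hw (fun e => h ?_) ?_) hz)
        · rw [← ew, e]; simp
        · have := mem_subgroupOf.1 (Subgroup.mem_inf.1 hy).1
          rwa [← ew] at this
      have hcm := Goldschmidt.Product.productHolds N Q Z₁ _ hZ₁ (hclosed n hn)
        (fun p hp q hq => congrArg id (show p * q = q * p from Subtype.ext (c.commute_A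
          (c.Z_le_A (mem_subgroupOf.1 hp)) ((hQA q).1 ((hclosed n hn).1 hq))).eq)) hdisj
      rw [hOC, le_bot_iff, commutator_eq_bot_iff_le_centralizer] at hcm
      have := mem_centralizer_iff.1 (hcm hx) (⟨n * z * n⁻¹, hAN ha⟩ : N)
        (subset_normalClosure (mem_subgroupOf.2 ⟨z, hz, rfl⟩))
      exact (congrArg Subtype.val this).symm
    intro a ha
    by_cases haZ : a ∈ c.Z
    · obtain ⟨u, hu, huZ⟩ : ∃ u ∈ c.A, u ∉ c.Z := ⟨c.pt 0 1 0, c.pt_mem_A .., fun h => by
        simpa using h.2.2⟩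
      have h1 := (hout (a * u) (mul_mem ha hu) fun h => huZ ((c.Z.mul_mem_cancel_left haZ).1 h)).mul_right
        (hout u hu huZ).inv_right
      rwa [mul_inv_cancel_right] at h1
    · exact hout a ha haZ
  -- so the closure of `Z` in `N` is abelian
  have hcomm : ∀ x ∈ C₁, ∀ y ∈ C₁, Commute x y := by
    intro x hx y hy
    have hle : C₁ ≤ centralizer ({x} : Set N) := by
      have hx' : ∀ m : N, ∀ w ∈ Z₁, Commute (m * w * m⁻¹) x := by
        intro m w hw
        have h0 := hcA (m⁻¹ * x * m)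
          (by simpa using Subgroup.Normal.conj_mem inferInstance x hx m⁻¹) (w : G) (c.Z_le_A hw)
        have h1 : Commute (m⁻¹ * x * m) w := Subtype.ext h0.eq
        have h2 := h1.symm.map (MulAut.conj m).toMonoidHom
        simpa [mul_assoc] using h2
      rw [show C₁ = closure (Group.conjugatesOfSet (Z₁ : Set N)) from rfl, closure_le]
      intro w hw
      obtain ⟨v, hv, hc⟩ := Group.mem_conjugatesOfSet_iff.1 hw
      obtain ⟨m, rfl⟩ := isConj_iff.1 hc
      exact mem_centralizer_singleton_iff.2 (hx' m v hv).eq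
    exact (mem_centralizer_singleton_iff.1 (hle hy)).symm
  haveI : C₁.Normal := normalClosure_normal
  obtain ⟨z, hz, hz1⟩ := (c.Z).bot_or_exists_ne_one.resolve_left fun e => by
    have := c.card_Z; rw [e, card_bot] at this; omega
  refine false_of_comm_normal (G := N) ?_ hcomm (z := ⟨z, hAN (c.Z_le_A hz)⟩)
    (subset_normalClosure (mem_subgroupOf.2 hz)) (fun e => hz1 (congrArg Subtype.val e))
    (Subtype.ext (c.sq_Z hz))
  intro R hR hR2
  have hP : pCore 2 N = ⊥ := by
    rw [← map_eq_bot_iff_of_injective _ N.subtype_injective]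
    haveI : (pCore 2 N).Characteristic := inferInstance
    exact hT _ inferInstance ((Fusion.pCore_isPGroup (G := N) 2).map _)
  rw [← le_bot_iff, ← hP]
  exact le_sSup ⟨hR, hR2⟩

end Crd

end Cfsg.Lib.Syl34
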